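import Mathlib
import Cfsg.Prelude.Def_Solvable
import Cfsg.Prelude.Def_Transfer

set_option autoImplicit false

namespace Cfsg.Agent.Lib.Helper9

theorem pCore_isPGroup (p : ℕ) (G : Type*) [Group G] : IsPGroup p (Cfsg.pCore p G) :=
  Sylow.sSup_of_normal _ (fun _ hH => hH.2) (fun _ hH => hH.1)

theorem pCore_normal (p : ℕ) (G : Type*) [Group G] : (Cfsg.pCore p G).Normal :=
  Subgroup.sSup_normal _ (fun _ hH => hH.1)

theorem odd_inf_two_group {G : Type*} [Group G] [Finite G] (A B : Subgroup G)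
    (hA : Odd (Nat.card A)) (hB : IsPGroup 2 B) : A ⊓ B = ⊥ := by
  have : Fact (Nat.Prime 2) := ⟨Nat.prime_two⟩
  obtain ⟨n, hn⟩ := hB.exists_card_eq
  apply Subgroup.inf_eq_bot_of_coprime
  rw [hn]
  apply Nat.Coprime.pow_right
  exact hA.coprime_two_right

end Cfsg.Agent.Lib.Helper9
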