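import Mathlib

set_option autoImplicit false

namespace Cfsg.Agent.Lib.Helper9

/-- `H` is maximal in `K` (as a coatom of the subgroup lattice of `K`), in terms of subgroups of `G`. -/
theorem isCoatom_subgroupOf_iff {G : Type*} [Group G] {H K : Subgroup G} (hHK : H ≤ K) :
    IsCoatom (H.subgroupOf K) ↔
      (¬ K ≤ H) ∧ ∀ L : Subgroup G, H ≤ L → L ≤ K → ¬ L ≤ H → K ≤ L := by
  constructor
  · intro hco
    refine ⟨fun h => hco.1 (Subgroup.subgroupOf_eq_top.mpr h), ?_⟩
    intro L hHL hLK hLH
    have hlt : H.subgroupOf K < L.subgroupOf K := by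
      refine lt_of_le_of_ne ?_ ?_
      · intro x hx
        rw [Subgroup.mem_subgroupOf] at hx ⊢
        exact hHL hx
      · intro heq
        apply hLH
        intro x hx
        have : (⟨x, hLK hx⟩ : K) ∈ L.subgroupOf K := by
          rw [Subgroup.mem_subgroupOf]; exact hx
        rw [← heq, Subgroup.mem_subgroupOf] at this
        exact this
    exact Subgroup.subgroupOf_eq_top.mp (hco.2 _ hlt)
  · rintro ⟨h1, h2⟩
    refine ⟨fun h => h1 (Subgroup.subgroupOf_eq_top.mp h), ?_⟩
    intro L' hL'
    have hHL : H ≤ L'.map K.subtype := by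
      intro x hx
      have : (⟨x, hHK hx⟩ : K) ∈ H.subgroupOf K := by
        rw [Subgroup.mem_subgroupOf]; exact hx
      exact ⟨⟨x, hHK hx⟩, hL'.le this, rfl⟩
    have hLK : L'.map K.subtype ≤ K := by
      rintro x ⟨y, _, rfl⟩
      exact y.2
    have hLH : ¬ L'.map K.subtype ≤ H := by
      intro hle
      apply hL'.not_ge
      intro y hy
      rw [Subgroup.mem_subgroupOf]
      exact hle ⟨y, hy, rfl⟩
    have hK := h2 _ hHL hLK hLH
    rw [eq_top_iff]
    intro y _
    obtain ⟨z, hz, hzy⟩ := hK y.2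
    have : z = y := Subtype.ext hzy
    rw [← this]; exact hz

open scoped Pointwise in
/-- The setwise stabiliser of a set, as a subgroup with an explicit membership criterion. -/
theorem exists_setStabilizer {G X : Type*} [Group G] [MulAction G X] (Γ : Set X) :
    ∃ J : Subgroup G, ∀ m : G, m ∈ J ↔ ∀ x : X, m • x ∈ Γ ↔ x ∈ Γ :=
  ⟨MulAction.stabilizer G Γ, fun _ => MulAction.mem_stabilizer_set⟩

end Cfsg.Agent.Lib.Helper9
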