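import Mathlib
import Cfsg.Agent.S5763
import Cfsg.Agent.Lib.Helper9.Coatom

set_option autoImplicit false

namespace Cfsg.Agent.Lib.Helper9.A8
open Cfsg.Agent.S5763

def bI (N i j : ℕ) : ℕ := if dg N i < dg N j then 0 else 1

def invN (N : ℕ) : ℕ := bI N 0 1 + bI N 0 2 + bI N 1 2 + bI N 0 3 + bI N 1 3 + bI N 2 3 + bI N 0 4 + bI N 1 4 + bI N 2 4 + bI N 3 4 + bI N 0 5 + bI N 1 5 + bI N 2 5 + bI N 3 5 + bI N 4 5 + bI N 0 6 + bI N 1 6 + bI N 2 6 + bI N 3 6 + bI N 4 6 + bI N 5 6 + bI N 0 7 + bI N 1 7 + bI N 2 7 + bI N 3 7 + bI N 4 7 + bI N 5 7 + bI N 6 7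

theorem ite_neg_one_pow (c : Prop) [Decidable c] : (if c then (1 : ℤˣ) else -1) = (-1) ^ (if c then 0 else 1) := by
  split_ifs <;> simp

theorem ite_bI (N i j : ℕ) : (if dg N i < dg N j then (1 : ℤˣ) else -1) = (-1) ^ bI N i j := by
  unfold bI
  split_ifs <;> simp

theorem sign_eq_invN (σ : Equiv.Perm (Fin 8)) : Equiv.Perm.sign σ = (-1) ^ invN (E σ) := by
  rw [Equiv.Perm.sign_eq_prod_prod_Iio]
  have h : ∀ j : Fin 8, ∏ i ∈ Finset.Iio j, (if σ i < σ j then (1 : ℤˣ) else -1) =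
      ∏ i : Fin 8, if i < j then (if σ i < σ j then (1 : ℤˣ) else -1) else 1 := by
    intro j
    rw [← Finset.prod_filter]
    congr 1
    ext i
    simp
  simp only [h]
  simp only [Fin.prod_univ_eight]
  have hlt : ∀ a b : Fin 8, σ a < σ b ↔ dg (E σ) a.val < dg (E σ) b.val := by
    intro a b
    rw [dgE', dgE', Fin.lt_def]
  simp only [hlt]
  simp only [Fin.reduceLT, if_true, if_false, Fin.isValue, lt_self_iff_false, mul_one, one_mul]
  have e3 : ((3 : Fin 8) : ℕ) = 3 := rfl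
  have e4 : ((4 : Fin 8) : ℕ) = 4 := rfl
  have e5 : ((5 : Fin 8) : ℕ) = 5 := rfl
  have e6 : ((6 : Fin 8) : ℕ) = 6 := rfl
  have e7 : ((7 : Fin 8) : ℕ) = 7 := rfl
  simp only [Fin.val_zero, Fin.val_one, Fin.val_two, e3, e4, e5, e6, e7]
  simp only [ite_bI, ← pow_add]
  congr 1
  simp only [invN]
  ring

def evenN (N : ℕ) : Bool := decide (invN N % 2 = 0)

theorem evenN_of_sign (σ : Equiv.Perm (Fin 8)) (h : Equiv.Perm.sign σ = 1) : evenN (E σ) = true := by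
  rw [sign_eq_invN] at h
  have h2 := (neg_one_pow_eq_one_iff_even (by decide : (-1 : ℤˣ) ≠ 1)).mp h
  simp [evenN, Nat.even_iff.mp h2]

/-- xor of three points of `Fin 8` -/
def X3 (i j k : Fin 8) : Fin 8 := ⟨i.val ^^^ j.val ^^^ k.val,
  Nat.xor_lt_two_pow (n := 3) (Nat.xor_lt_two_pow (n := 3) i.isLt j.isLt) k.isLt⟩

/-- the affine group of `F_2^3` as permutations of `Fin 8` -/
def A0 : Subgroup (Equiv.Perm (Fin 8)) where
  carrier := {σ | ∀ i j k : Fin 8, σ (X3 i j k) = X3 (σ i) (σ j) (σ k)}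
  mul_mem' := by
    intro σ τ hσ hτ i j k
    show σ (τ (X3 i j k)) = X3 (σ (τ i)) (σ (τ j)) (σ (τ k))
    rw [show τ (X3 i j k) = X3 (τ i) (τ j) (τ k) from hτ i j k]
    exact hσ _ _ _
  one_mem' := fun i j k => rfl
  inv_mem' := by
    intro σ hσ i j k
    apply σ.injective
    rw [hσ]
    simp

/-- the pair-preserving permutations -/
def W0 : Subgroup (Equiv.Perm (Fin 8)) where
  carrier := {σ | ∀ i : Fin 8, σ (X1 i) = X1 (σ i)}
  mul_mem' := by
    intro σ τ hσ hτ i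
    show σ (τ (X1 i)) = X1 (σ (τ i))
    rw [show τ (X1 i) = X1 (τ i) from hτ i]
    exact hσ _
  one_mem' := fun i => rfl
  inv_mem' := by
    intro σ hσ i
    apply σ.injective
    rw [hσ]
    simp

def allAff (N : ℕ) : Bool :=
  all8 (fun i => all8 (fun j => all8 (fun k =>
    decide (dg N (i ^^^ j ^^^ k) = dg N i ^^^ dg N j ^^^ dg N k))))

def chkA (N : ℕ) : Bool := !(evenN N) || allAff N

set_option maxRecDepth 100000 in
theorem all_okA : enumN inF 8 0 1 0 0 chkA = true := by decide +kernel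

theorem W0_even_aff (σ : Equiv.Perm (Fin 8)) (hσ : σ ∈ W0) (hs : Equiv.Perm.sign σ = 1) : σ ∈ A0 := by
  obtain ⟨d0, d1, d2, d3, d4, d5, d6, d7⟩ := dgE σ
  have a1 : dg (E σ) 1 = x1 (dg (E σ) 0) := by
    rw [d1, d0]; exact congrArg Fin.val (hσ 0)
  have a3 : dg (E σ) 3 = x1 (dg (E σ) 2) := by
    rw [d3, d2]; exact congrArg Fin.val (hσ 2)
  have a5 : dg (E σ) 5 = x1 (dg (E σ) 4) := by
    rw [d5, d4]; exact congrArg Fin.val (hσ 4)
  have a7 : dg (E σ) 7 = x1 (dg (E σ) 6) := by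
    rw [d7, d6]; exact congrArg Fin.val (hσ 6)
  have hf : ∀ j, 0 < j → j ≤ 8 → inF j (E σ % 8 ^ j) = true := by
    intro j hj1 hj2
    interval_cases j
    · rfl
    · simp only [inF, if_true, decide_eq_true_eq]
      rw [dg_mod _ 1 2 (by norm_num), dg_mod _ 0 2 (by norm_num)]; exact a1
    · rfl
    · simp only [inF, if_true, decide_eq_true_eq, show (4 : ℕ) ≠ 2 by norm_num, if_false]
      rw [dg_mod _ 3 4 (by norm_num), dg_mod _ 2 4 (by norm_num)]; exact a3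
    · rfl
    · simp only [inF, if_true, decide_eq_true_eq, show (6 : ℕ) ≠ 2 by norm_num,
        show (6 : ℕ) ≠ 4 by norm_num, if_false]
      rw [dg_mod _ 5 6 (by norm_num), dg_mod _ 4 6 (by norm_num)]; exact a5
    · rfl
    · simp only [inF, if_true, decide_eq_true_eq, show (8 : ℕ) ≠ 2 by norm_num,
        show (8 : ℕ) ≠ 4 by norm_num, show (8 : ℕ) ≠ 6 by norm_num, if_false]
      rw [dg_mod _ 7 8 (by norm_num), dg_mod _ 6 8 (by norm_num)]; exact a7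
  have h := enum_perm inF chkA all_okA σ hf
  simp only [chkA, evenN_of_sign σ hs, Bool.not_true, Bool.false_or] at h
  intro i j k
  have h1 := all8_spec _ h i.val i.isLt
  have h2 := all8_spec _ h1 j.val j.isLt
  have h3 := all8_spec _ h2 k.val k.isLt
  simp only [decide_eq_true_eq] at h3
  apply Fin.ext
  rw [← dgE' σ (X3 i j k)]
  show dg (E σ) (i.val ^^^ j.val ^^^ k.val) = (σ i).val ^^^ (σ j).val ^^^ (σ k).val
  rw [h3, dgE', dgE', dgE']


theorem mem_W0 (σ : Equiv.Perm (Fin 8)) : σ ∈ W0 ↔ ∀ i : Fin 8, σ (X1 i) = X1 (σ i) := Iff.rfl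
theorem mem_A0 (σ : Equiv.Perm (Fin 8)) : σ ∈ A0 ↔ ∀ i j k : Fin 8, σ (X3 i j k) = X3 (σ i) (σ j) (σ k) :=
  Iff.rfl

theorem pair_lemma : ∀ a b : Fin 8, a.val / 2 = b.val / 2 → a ≠ b → a = X1 b := by decide

theorem X1_div (i : Fin 8) : (X1 i).val / 2 = i.val / 2 := by revert i; decide
theorem X1_ne (i : Fin 8) : X1 i ≠ i := by revert i; decide

/-- block-preserving permutations are pair-preserving -/
theorem T8_le_W0 (σ : Equiv.Perm (Fin 8))
    (h : ∀ x y : Fin 8, x.val / 2 = y.val / 2 ↔ (σ x).val / 2 = (σ y).val / 2) : σ ∈ W0 := by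
  intro i
  apply pair_lemma
  · exact (h (X1 i) i).mp (X1_div i)
  · intro heq
    exact X1_ne i (σ.injective heq)

def tEl : Equiv.Perm (Fin 8) := Equiv.swap 1 2 * Equiv.swap 5 6
def cEl : Equiv.Perm (Fin 8) := Equiv.swap 0 1 * Equiv.swap 1 2

theorem tEl_mem : tEl ∈ A0 := by
  rw [mem_A0]; decide
theorem tEl_sign : Equiv.Perm.sign tEl = 1 := by
  simp [tEl, Equiv.Perm.sign_swap']
theorem tEl_not : tEl ∉ W0 := by
  rw [mem_W0]; decide
theorem cEl_sign : Equiv.Perm.sign cEl = 1 := by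
  simp [cEl, Equiv.Perm.sign_swap']
theorem cEl_not : cEl ∉ A0 := by
  rw [mem_A0]; decide


theorem exists_equiv8 {Ω : Type*} (f : Ω → Fin 4)
    (hf : ∀ i : Fin 4, Nat.card {x : Ω // f x = i} = 2) :
    ∃ e : Ω ≃ Fin 8, ∀ x, (e x).val / 2 = (f x).val := by
  classical
  have h2 : ∀ i : Fin 4, Nonempty ({x : Ω // f x = i} ≃ Fin 2) := fun i => by
    have : Finite {x : Ω // f x = i} := Nat.finite_of_card_ne_zero (by rw [hf i]; norm_num)
    exact ⟨Finite.equivFinOfCardEq (hf i)⟩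
  let c : ∀ i : Fin 4, {x : Ω // f x = i} ≃ Fin 2 := fun i => Classical.choice (h2 i)
  let e₁ : Ω ≃ Σ i : Fin 4, {x // f x = i} := (Equiv.sigmaFiberEquiv f).symm
  let e₂ : (Σ i : Fin 4, {x // f x = i}) ≃ Σ _ : Fin 4, Fin 2 := Equiv.sigmaCongrRight c
  let e₃ : (Σ _ : Fin 4, Fin 2) ≃ Fin 4 × Fin 2 := Equiv.sigmaEquivProd _ _
  let e₄ : Fin 4 × Fin 2 ≃ Fin 8 := finProdFinEquiv
  refine ⟨e₁.trans (e₂.trans (e₃.trans e₄)), fun x => ?_⟩
  have hv : ((e₁.trans (e₂.trans (e₃.trans e₄))) x).val = (c (f x) ⟨x, rfl⟩).val + 2 * (f x).val := rfl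
  rw [hv]
  have := (c (f x) ⟨x, rfl⟩).isLt
  omega

theorem main {Ω : Type*} [Fintype Ω] [DecidableEq Ω]
    (f : Ω → Fin 4) (hf : ∀ i : Fin 4, Nat.card {x : Ω // f x = i} = 2) :
    ¬ IsCoatom ((Subgroup.closure {g : Equiv.Perm Ω | ∀ x y : Ω, f x = f y ↔ f (g x) = f (g y)} ⊓ alternatingGroup Ω).subgroupOf (alternatingGroup Ω)) := by
  obtain ⟨e, he⟩ := exists_equiv8 f hf
  let Φ : Equiv.Perm Ω ≃* Equiv.Perm (Fin 8) := e.permCongrHom
  have hΦ : ∀ (g : Equiv.Perm Ω) (a : Fin 8), Φ g a = e (g (e.symm a)) := fun g a => rfl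
  have hsign : ∀ g : Equiv.Perm Ω, Equiv.Perm.sign (Φ g) = Equiv.Perm.sign g :=
    fun g => Equiv.Perm.sign_permCongr e g
  have hcl : Subgroup.closure {g : Equiv.Perm Ω | ∀ x y : Ω, f x = f y ↔ f (g x) = f (g y)} ≤
      W0.comap Φ.toMonoidHom := by
    rw [Subgroup.closure_le]
    intro g hg
    show Φ g ∈ W0
    apply T8_le_W0
    intro x y
    rw [hΦ, hΦ, he, he]
    have h1 := hg (e.symm x) (e.symm y)
    have hx := he (e.symm x)
    have hy := he (e.symm y)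
    rw [Equiv.apply_symm_apply] at hx hy
    rw [hx, hy, Fin.val_inj, Fin.val_inj]
    exact h1
  rw [Cfsg.Agent.Lib.Helper9.isCoatom_subgroupOf_iff inf_le_right]
  rintro ⟨-, h⟩
  have h1 : Subgroup.closure {g : Equiv.Perm Ω | ∀ x y : Ω, f x = f y ↔ f (g x) = f (g y)} ⊓
      alternatingGroup Ω ≤ A0.comap Φ.toMonoidHom ⊓ alternatingGroup Ω := by
    rintro g ⟨hg1, hg2⟩
    refine ⟨?_, hg2⟩
    show Φ g ∈ A0
    exact W0_even_aff _ (hcl hg1) (by rw [hsign]; exact Equiv.Perm.mem_alternatingGroup.mp hg2)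
  have h3 : ¬ A0.comap Φ.toMonoidHom ⊓ alternatingGroup Ω ≤
      Subgroup.closure {g : Equiv.Perm Ω | ∀ x y : Ω, f x = f y ↔ f (g x) = f (g y)} ⊓
      alternatingGroup Ω := by
    intro hle
    have hmem : Φ.symm tEl ∈ A0.comap Φ.toMonoidHom ⊓ alternatingGroup Ω := by
      refine ⟨?_, ?_⟩
      · show Φ (Φ.symm tEl) ∈ A0
        rw [MulEquiv.apply_symm_apply]; exact tEl_mem
      · show Φ.symm tEl ∈ alternatingGroup Ω
        rw [Equiv.Perm.mem_alternatingGroup, ← hsign, MulEquiv.apply_symm_apply]; exact tEl_sign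
    have h5 : Φ (Φ.symm tEl) ∈ W0 := hcl (hle hmem).1
    rw [MulEquiv.apply_symm_apply] at h5
    exact tEl_not h5
  have h4 := h _ h1 inf_le_right h3
  have hc : Φ.symm cEl ∈ alternatingGroup Ω := by
    rw [Equiv.Perm.mem_alternatingGroup, ← hsign, MulEquiv.apply_symm_apply]; exact cEl_sign
  have h6 : Φ (Φ.symm cEl) ∈ A0 := (h4 hc).1
  rw [MulEquiv.apply_symm_apply] at h6
  exact cEl_not h6

end Cfsg.Agent.Lib.Helper9.A8
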