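import Mathlib
import Cfsg.Prelude.Def_SporadicCombinatorics
import Cfsg.Agent.Lib.Helper9.SxOrb
import Cfsg.Agent.Lib.Helper9.Invol

set_option autoImplicit false

/-! Data for the centraliser of a fixed-point-free involution. -/

namespace Cfsg.Agent.Lib.Helper9.C2D

open Cfsg.Agent.Lib.Helper9.Golay Cfsg.Agent.Lib.Helper9.GolayC Cfsg.Agent.Lib.Helper9.M24C
open Cfsg.Agent.Lib.Helper9.Octad Cfsg.Agent.Lib.Helper9.M24B Cfsg.Agent.Lib.Helper9.M24T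
open Cfsg.Agent.Lib.Helper9.M24O
open Cfsg.Agent.Lib.Helper9.Sextet Cfsg.Agent.Lib.Helper9.SextetY
open Cfsg.Agent.Lib.Helper9.InvCnt Cfsg.Agent.Lib.Helper9.M24CO Cfsg.Agent.Lib.Helper9.SxOrb
open Cfsg.Agent.Lib.Helper9.Invol
open scoped Pointwise

def PR : List (ℕ × ℕ) := [(0, 2), (1, 2), (2, 0), (4, 0), (4, 2), (12, 0), (12, 2), (223, 0), (223, 2), (224, 2), (225, 0), (10, 0), (226, 2), (14, 0), (14, 2), (227, 0), (227, 2), (228, 2), (229, 0), (230, 1), (231, 0), (232, 0), (233, 0), (233, 1), (15, 2), (234, 0), (20, 0), (235, 0), (236, 0), (236, 1), (236, 2), (237, 0), (238, 0), (238, 1), (239, 0), (240, 0), (241, 1), (242, 2), (243, 1), (13, 2), (244, 0), (245, 0), (245, 2), (246, 0), (246, 2), (247, 0), (248, 2), (39, 2), (11, 0), (249, 1), (250, 2), (251, 2), (252, 2), (253, 0), (253, 2), (254, 2), (255, 1), (256, 0), (257, 2), (258, 1), (259,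 2), (260, 2), (261, 0), (262, 2), (263, 1), (264, 0), (265, 2), (266, 0), (267, 2), (268, 2), (269, 2), (270, 0), (271, 2), (6, 1), (272, 2), (273, 2), (274, 0), (275, 0), (276, 0), (277, 0), (278, 2), (279, 0), (280, 2), (281, 2), (282, 0), (283, 0), (284, 0), (285, 1), (286, 0), (287, 2), (288, 1), (289, 2), (290, 0), (292, 2), (293, 0), (294, 0), (295, 0), (296, 0), (297, 0), (298, 2), (299, 0), (300, 2), (301, 1), (302, 2), (304, 0), (305, 0), (307, 0), (308, 0), (309, 2), (310, 2), (311, 2), (312, 2), (313, 2), (314, 0), (315, 0), (316, 0), (317, 0), (318, 2), (319, 1), (320, 0), (321, 1), (322, 0), (323, 0), (324, 0), (325, 0), (326, 2), (327, 0), (328, 0), (329, 0), (331, 2), (333, 0), (334, 2), (335, 0), (336, 1), (337, 2), (338, 1), (339, 0), (341, 2), (342, 2), (343, 0), (344, 1), (345, 1), (347, 1), (348, 0), (349, 0), (350, 2), (351, 1),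 (352, 0), (354, 0), (355, 0), (357, 0), (358, 2), (360, 0), (361, 2), (364, 0), (367, 1), (368, 2), (369, 0), (370, 0), (371, 2), (372, 0), (373, 2), (374, 0), (375, 0), (376, 2), (377, 0), (378, 2), (381, 2), (382, 0), (383, 0), (384, 0), (386, 0), (387, 2), (395, 1), (390, 390), (397, 397), (397, 398), (398, 398), (399, 400), (396, 401), (394, 2), (391, 391), (404, 404), (391, 405), (405, 405), (406, 407), (403, 408), (392, 2), (380, 380), (411, 411), (380, 412), (412, 412), (413, 414), (410, 415), (388, 0), (363, 363), (363, 418), (418, 418), (420, 420), (419, 421), (417, 422), (393, 2), (385, 385), (425, 425), (425, 426), (426, 426), (427, 428), (424, 429), (389, 0), (379, 379), (432, 432), (433, 433), (434, 434), (433, 435), (431, 436), (402, 402), (409, 402), (416, 402), (423, 402), (430, 402), (437, 402), (402, 409), (409, 409), (416, 409),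 (423, 409), (430, 409), (437, 409), (402, 416), (416, 416), (423, 416), (437, 416), (402, 423), (409, 423), (416, 423), (423, 423), (430, 423), (409, 430), (437, 430), (402, 437), (409, 437), (430, 437), (409, 438), (416, 438), (423, 438), (430, 438), (409, 439), (437, 439), (423, 440), (437, 441), (416, 442), (423, 442), (402, 443), (416, 443), (423, 443), (402, 444), (409, 444), (423, 444), (430, 444), (402, 445), (409, 445), (437, 445), (409, 446), (437, 446), (416, 447), (430, 450), (416, 451), (437, 451), (437, 453), (416, 455), (402, 456), (402, 457), (416, 457), (437, 459), (430, 460), (402, 462), (402, 463), (409, 464), (402, 466), (437, 467), (416, 468), (430, 468), (409, 470), (409, 471), (416, 472), (423, 473), (416, 474), (402, 477), (409, 477), (430, 479), (402, 480), (423, 481), (402, 482), (430, 482), (437, 483), (416, 484), (416, 485),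 (409, 486), (416, 488), (409, 489), (437, 491), (423, 492), (437, 493), (423, 494), (423, 496), (437, 496), (409, 497), (409, 499), (409, 500), (409, 501), (437, 503), (437, 505), (416, 506), (416, 509), (409, 510), (402, 514), (437, 515), (402, 516), (416, 518), (423, 519), (430, 523), (402, 524), (423, 525), (430, 526), (437, 528), (409, 529), (416, 530), (402, 532), (423, 535), (409, 536), (409, 537), (409, 538), (423, 540), (409, 542), (416, 544), (340, 1), (346, 346), (346, 558), (558, 558), (560, 560), (559, 561), (557, 562), (303, 303), (303, 564), (564, 564), (566, 566), (565, 567), (366, 568), (291, 291), (291, 570), (362, 571), (365, 2), (353, 353), (574, 574), (575, 575), (576, 576), (575, 577), (573, 578), (330, 330), (580, 580), (581, 581), (330, 582), (332, 583), (306, 306), (585, 585), (585, 586), (586, 586), (588, 588), (587, 589),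 (359, 590), (563, 563), (563, 356), (563, 569), (563, 579), (356, 572), (356, 541), (569, 572), (569, 584), (572, 563), (572, 541), (592, 592), (592, 602), (602, 602), (603, 604), (356, 356), (356, 606), (606, 606), (608, 608), (607, 609), (569, 569), (569, 611), (612, 551), (572, 572), (614, 614), (572, 615), (579, 579), (579, 617), (617, 617), (619, 619), (618, 620), (584, 584), (584, 622), (623, 539), (591, 591), (625, 625), (591, 626), (602, 604), (628, 563), (593, 593), (630, 630), (593, 631), (594, 594), (594, 633), (633, 633), (635, 635), (634, 636), (595, 595), (595, 638), (638, 638), (640, 640), (639, 641), (596, 596), (643, 643), (596, 644), (597, 597), (597, 646), (647, 554), (598, 547), (599, 599), (650, 650), (599, 651), (600, 531), (653, 527), (601, 601), (601, 655), (656, 517)]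

def U : List (List ℕ) := [[0, 1, 2, 3, 4, 5, 6, 7, 8, 9, 10, 11, 12, 13, 14, 15, 16, 17, 18, 19, 20, 21, 22, 23],
  [1, 13, 14, 19, 15, 11, 3, 16, 9, 17, 12, 20, 22, 23, 0, 18, 21, 10, 5, 7, 4, 6, 8, 2],
  [2, 20, 18, 17, 11, 15, 9, 12, 3, 19, 16, 13, 21, 4, 5, 14, 22, 8, 0, 6, 23, 7, 10, 1],
  [3, 11, 15, 0, 12, 9, 10, 8, 7, 5, 6, 1, 4, 19, 21, 2, 23, 20, 22, 13, 17, 14, 18, 16],
  [4, 21, 19, 8, 7, 6, 0, 23, 18, 13, 20, 12, 14, 11, 15, 9, 10, 2, 16, 22, 3, 17, 1, 5],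
  [5, 6, 7, 21, 12, 9, 1, 2, 3, 8, 16, 13, 10, 0, 23, 14, 19, 18, 15, 17, 11, 22, 20, 4],
  [6, 9, 12, 13, 23, 0, 18, 20, 8, 4, 10, 15, 5, 16, 3, 11, 14, 21, 17, 1, 22, 2, 19, 7],
  [7, 20, 18, 0, 13, 14, 12, 9, 4, 11, 5, 22, 15, 19, 21, 17, 23, 16, 8, 2, 10, 1, 3, 6],
  [8, 6, 7, 18, 3, 16, 1, 2, 4, 23, 5, 17, 0, 12, 9, 22, 20, 13, 21, 15, 19, 11, 14, 10],
  [9, 1, 2, 22, 10, 8, 6, 7, 21, 3, 19, 0, 16, 5, 4, 23, 17, 15, 14, 18, 13, 20, 11, 12],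
  [10, 9, 12, 5, 13, 14, 18, 20, 0, 7, 23, 19, 6, 17, 22, 21, 4, 16, 2, 15, 1, 11, 3, 8],
  [11, 3, 16, 6, 22, 17, 13, 14, 19, 9, 21, 23, 12, 1, 2, 0, 7, 5, 18, 10, 20, 8, 4, 15],
  [12, 1, 2, 4, 10, 8, 6, 7, 23, 16, 0, 19, 3, 17, 22, 21, 5, 15, 13, 20, 14, 18, 11, 9],
  [13, 6, 7, 23, 8, 10, 1, 2, 5, 9, 4, 22, 12, 19, 21, 17, 0, 11, 18, 16, 20, 3, 15, 14],
  [14, 18, 20, 11, 6, 7, 9, 12, 5, 0, 4, 17, 23, 10, 8, 22, 15, 2, 21, 16, 19, 3, 1, 13],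
  [15, 3, 16, 2, 22, 17, 13, 14, 0, 12, 23, 21, 9, 7, 6, 19, 1, 5, 20, 8, 18, 10, 4, 11],
  [16, 8, 10, 9, 0, 23, 15, 11, 5, 2, 4, 17, 1, 18, 20, 22, 12, 19, 7, 14, 6, 13, 21, 3],
  [17, 16, 3, 2, 19, 21, 13, 14, 9, 8, 12, 18, 10, 6, 7, 20, 1, 0, 11, 4, 15, 5, 23, 22],
  [18, 10, 8, 4, 13, 14, 11, 15, 1, 23, 2, 7, 0, 22, 17, 6, 5, 16, 19, 12, 21, 9, 3, 20],
  [19, 10, 8, 7, 16, 3, 11, 15, 5, 9, 4, 17, 12, 1, 2, 22, 6, 13, 20, 23, 18, 0, 14, 21],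
  [20, 0, 23, 7, 5, 4, 19, 21, 8, 16, 10, 15, 3, 1, 2, 11, 6, 17, 14, 9, 13, 12, 22, 18],
  [21, 7, 6, 9, 8, 10, 1, 2, 13, 17, 14, 16, 22, 18, 20, 3, 12, 15, 4, 0, 5, 23, 11, 19],
  [22, 13, 14, 9, 11, 15, 3, 16, 23, 6, 0, 19, 7, 20, 18, 21, 12, 8, 2, 4, 1, 5, 10, 17],
  [23, 3, 16, 9, 2, 1, 13, 14, 17, 11, 22, 4, 15, 20, 18, 5, 12, 7, 10, 21, 8, 19, 6, 0]]

def V : List (List ℕ) := [[0, 1, 2, 3, 4, 5, 6, 7, 8, 9, 10, 11, 12, 13, 14, 15, 16, 17, 18, 19, 20, 21, 22, 23],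
  [0, 2, 1, 5, 13, 14, 7, 6, 9, 11, 12, 20, 15, 22, 17, 18, 4, 3, 10, 19, 8, 21, 16, 23],
  [0, 3, 16, 7, 12, 9, 13, 14, 11, 4, 15, 8, 5, 2, 1, 10, 6, 18, 22, 19, 17, 21, 20, 23],
  [0, 4, 5, 2, 15, 11, 17, 22, 18, 16, 20, 12, 3, 7, 6, 9, 1, 10, 13, 19, 14, 21, 8, 23],
  [0, 5, 4, 20, 3, 16, 17, 22, 11, 1, 15, 10, 2, 12, 9, 8, 18, 14, 6, 21, 7, 19, 13, 23],
  [0, 6, 7, 3, 5, 4, 1, 2, 10, 20, 8, 15, 18, 13, 14, 11, 16, 22, 12, 19, 9, 21, 17, 23],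
  [0, 7, 6, 20, 10, 8, 1, 2, 14, 17, 13, 3, 22, 12, 9, 16, 18, 11, 4, 21, 5, 19, 15, 23],
  [0, 8, 10, 22, 9, 12, 11, 15, 16, 6, 3, 14, 7, 5, 4, 13, 17, 20, 2, 19, 1, 21, 18, 23],
  [0, 9, 12, 11, 16, 3, 20, 18, 7, 4, 6, 2, 5, 8, 10, 1, 15, 14, 22, 19, 17, 21, 13, 23],
  [0, 10, 8, 2, 13, 14, 11, 15, 5, 20, 4, 17, 18, 6, 7, 22, 1, 16, 9, 21, 12, 19, 3, 23],
  [0, 11, 15, 6, 3, 16, 10, 8, 5, 9, 4, 17, 12, 2, 1, 22, 7, 14, 20, 21, 18, 19, 13, 23],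
  [0, 12, 9, 1, 22, 17, 20, 18, 14, 8, 13, 3, 10, 7, 6, 16, 2, 4, 11, 21, 15, 19, 5, 23],
  [0, 13, 14, 20, 2, 1, 3, 16, 22, 11, 17, 5, 15, 9, 12, 4, 18, 7, 10, 19, 8, 21, 6, 23],
  [0, 14, 13, 20, 6, 7, 16, 3, 4, 15, 5, 17, 11, 9, 12, 22, 18, 1, 8, 19, 10, 21, 2, 23],
  [0, 15, 11, 7, 14, 13, 8, 10, 5, 18, 4, 17, 20, 1, 2, 22, 6, 3, 12, 21, 9, 19, 16, 23],
  [0, 16, 3, 8, 17, 22, 13, 14, 12, 7, 9, 20, 6, 15, 11, 18, 10, 5, 2, 21, 1, 19, 4, 23],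
  [0, 17, 22, 14, 9, 12, 5, 4, 1, 8, 2, 7, 10, 3, 16, 6, 13, 18, 11, 21, 15, 19, 20, 23],
  [0, 18, 20, 2, 5, 4, 9, 12, 13, 8, 14, 16, 10, 6, 7, 3, 1, 17, 11, 21, 15, 19, 22, 23],
  [0, 20, 18, 5, 7, 6, 12, 9, 11, 14, 15, 10, 13, 17, 22, 8, 4, 1, 16, 21, 3, 19, 2, 23],
  [0, 22, 17, 11, 6, 7, 5, 4, 3, 18, 16, 13, 20, 8, 10, 14, 15, 1, 9, 19, 12, 21, 2, 23]]

def W : List (List ℕ) := [[0, 1, 2, 3, 4, 5, 6, 7, 8, 9, 10, 11, 12, 13, 14, 15, 16, 17, 18, 19, 20, 21, 22, 23],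
  [0, 1, 2, 4, 3, 16, 6, 7, 9, 8, 12, 20, 10, 17, 22, 18, 5, 13, 15, 19, 11, 21, 14, 23],
  [0, 1, 2, 5, 16, 3, 6, 7, 18, 15, 20, 12, 11, 22, 17, 9, 4, 14, 8, 19, 10, 21, 13, 23],
  [0, 1, 2, 8, 20, 18, 7, 6, 5, 13, 4, 17, 14, 15, 11, 22, 10, 12, 3, 21, 16, 19, 9, 23],
  [0, 1, 2, 9, 11, 15, 7, 6, 16, 17, 3, 13, 22, 18, 20, 14, 12, 10, 4, 21, 5, 19, 8, 23],
  [0, 1, 2, 10, 18, 20, 7, 6, 22, 3, 17, 4, 16, 11, 15, 5, 8, 9, 13, 21, 14, 19, 12, 23],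
  [0, 1, 2, 11, 9, 12, 7, 6, 17, 16, 22, 5, 3, 10, 8, 4, 15, 18, 14, 21, 13, 19, 20, 23],
  [0, 1, 2, 12, 15, 11, 7, 6, 14, 4, 13, 3, 5, 20, 18, 16, 9, 8, 17, 21, 22, 19, 10, 23],
  [0, 1, 2, 13, 17, 22, 6, 7, 10, 12, 8, 15, 9, 3, 16, 11, 14, 4, 20, 19, 18, 21, 5, 23],
  [0, 1, 2, 14, 22, 17, 6, 7, 11, 20, 15, 8, 18, 16, 3, 10, 13, 5, 12, 19, 9, 21, 4, 23],
  [0, 1, 2, 15, 12, 9, 7, 6, 4, 14, 5, 22, 13, 8, 10, 17, 11, 20, 16, 21, 3, 19, 18, 23],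
  [0, 1, 2, 16, 5, 4, 6, 7, 15, 18, 11, 10, 20, 14, 13, 8, 3, 22, 9, 19, 12, 21, 17, 23],
  [0, 1, 2, 17, 13, 14, 6, 7, 12, 10, 9, 18, 8, 4, 5, 20, 22, 3, 11, 19, 15, 21, 16, 23],
  [0, 1, 2, 18, 10, 8, 7, 6, 3, 22, 16, 14, 17, 9, 12, 13, 20, 11, 5, 21, 4, 19, 15, 23],
  [0, 1, 2, 20, 8, 10, 7, 6, 13, 5, 14, 16, 4, 12, 9, 3, 18, 15, 22, 21, 17, 19, 11, 23],
  [0, 1, 2, 22, 14, 13, 6, 7, 20, 11, 18, 9, 15, 5, 4, 12, 17, 16, 10, 19, 8, 21, 3, 23]]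

def VI : List ℕ := [1, 2, 3, 4, 5, 6, 7, 8, 9, 10, 11, 12, 13, 14, 15, 16, 17, 18, 20, 22]

def WI : List ℕ := [3, 4, 5, 8, 9, 10, 11, 12, 13, 14, 15, 16, 17, 18, 20, 22]

def HK : List (List ℕ × List ℕ) := [([0, 1, 2, 3, 4, 5, 6, 7, 8, 9, 10, 11, 12, 13, 14, 15, 16, 17, 18, 19, 20, 21, 22, 23], [23, 2, 1, 16, 5, 4, 7, 6, 10, 12, 8, 15, 9, 14, 13, 11, 3, 22, 20, 21, 18, 19, 17, 0]),
  ([22, 2, 7, 12, 13, 16, 6, 1, 0, 15, 21, 19, 11, 18, 20, 23, 9, 14, 8, 5, 10, 17, 3, 4], [21, 6, 7, 14, 22, 17, 1, 2, 10, 12, 8, 15, 9, 16, 3, 11, 13, 5, 20, 23, 18, 0, 4, 19]),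
  ([19, 11, 15, 1, 18, 9, 10, 8, 13, 17, 14, 16, 4, 2, 7, 3, 6, 12, 5, 21, 22, 23, 20, 0], [19, 6, 7, 16, 17, 22, 1, 2, 10, 18, 8, 15, 20, 14, 13, 11, 3, 4, 9, 0, 12, 23, 5, 21]),
  ([20, 1, 2, 13, 11, 10, 7, 6, 0, 4, 23, 19, 17, 14, 16, 21, 3, 8, 22, 18, 5, 9, 15, 12], [23, 2, 1, 13, 17, 22, 7, 6, 15, 18, 11, 10, 20, 3, 16, 8, 14, 4, 9, 21, 12, 19, 5, 0]),
  ([18, 2, 1, 23, 10, 8, 6, 7, 17, 3, 5, 4, 13, 19, 0, 22, 21, 11, 14, 9, 16, 20, 15, 12], [19, 2, 1, 13, 22, 17, 7, 6, 10, 20, 8, 15, 18, 3, 16, 11, 14, 5, 12, 0, 9, 23, 4, 21]),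
  ([7, 3, 13, 11, 12, 9, 16, 14, 22, 21, 4, 5, 19, 15, 10, 17, 8, 20, 0, 6, 23, 2, 18, 1], [23, 7, 6, 13, 22, 17, 2, 1, 11, 12, 15, 8, 9, 3, 16, 10, 14, 5, 20, 21, 18, 19, 4, 0]),
  ([6, 15, 10, 16, 5, 17, 11, 8, 12, 21, 20, 18, 0, 13, 14, 9, 3, 22, 23, 1, 19, 2, 4, 7], [21, 2, 1, 16, 22, 17, 7, 6, 11, 18, 15, 8, 20, 14, 13, 10, 3, 5, 9, 23, 12, 0, 4, 19]),
  ([0, 15, 10, 4, 13, 16, 11, 8, 9, 7, 18, 20, 2, 22, 17, 12, 5, 3, 1, 21, 6, 19, 14, 23], [23, 6, 7, 14, 5, 4, 1, 2, 11, 18, 15, 8, 20, 16, 3, 10, 13, 22, 9, 21, 12, 19, 17, 0]),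
  ([3, 7, 1, 11, 18, 9, 6, 2, 22, 23, 17, 5, 19, 8, 10, 4, 15, 20, 0, 16, 21, 14, 12, 13], [21, 7, 6, 13, 5, 4, 2, 1, 10, 18, 8, 15, 20, 3, 16, 11, 14, 22, 9, 23, 12, 0, 17, 19]),
  ([20, 15, 8, 4, 2, 6, 10, 11, 19, 3, 23, 21, 16, 5, 22, 0, 17, 7, 13, 9, 14, 12, 1, 18], [21, 7, 6, 16, 17, 22, 2, 1, 15, 12, 11, 10, 9, 14, 13, 8, 3, 4, 20, 23, 18, 0, 5, 19]),
  ([15, 2, 6, 17, 14, 3, 7, 1, 20, 21, 9, 18, 19, 22, 5, 12, 4, 16, 0, 10, 23, 8, 13, 11], [23, 7, 6, 14, 17, 22, 2, 1, 10, 20, 8, 15, 18, 16, 3, 11, 13, 4, 12, 21, 9, 19, 5, 0]),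
  ([18, 13, 14, 19, 15, 8, 16, 3, 7, 17, 2, 6, 5, 0, 23, 1, 21, 10, 22, 9, 4, 20, 11, 12], [23, 6, 7, 16, 22, 17, 1, 2, 15, 20, 11, 10, 18, 14, 13, 8, 3, 5, 12, 21, 9, 19, 4, 0]),
  ([9, 4, 22, 2, 14, 3, 5, 17, 19, 11, 0, 21, 10, 1, 7, 23, 6, 13, 8, 20, 15, 12, 16, 18], [19, 7, 6, 14, 22, 17, 2, 1, 15, 18, 11, 10, 20, 16, 3, 8, 13, 5, 9, 0, 12, 23, 4, 21]),
  ([19, 17, 22, 14, 8, 15, 5, 4, 9, 1, 12, 18, 6, 13, 3, 20, 16, 11, 7, 21, 2, 23, 10, 0], [19, 6, 7, 13, 5, 4, 1, 2, 15, 12, 11, 10, 9, 3, 16, 8, 14, 22, 20, 0, 18, 23, 17, 21]),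
  ([16, 2, 1, 19, 4, 5, 7, 6, 18, 10, 12, 9, 11, 0, 21, 20, 23, 17, 15, 14, 8, 3, 22, 13], [21, 2, 1, 14, 5, 4, 7, 6, 15, 20, 11, 10, 18, 16, 3, 8, 13, 22, 12, 23, 9, 0, 17, 19]),
  ([19, 15, 10, 13, 18, 20, 8, 11, 6, 5, 7, 1, 22, 14, 3, 2, 16, 12, 4, 23, 17, 21, 9, 0], [19, 2, 1, 14, 17, 22, 7, 6, 11, 12, 15, 8, 9, 16, 3, 10, 13, 4, 20, 0, 18, 23, 5, 21]),
  ([8, 7, 2, 4, 21, 0, 6, 1, 14, 12, 16, 13, 18, 5, 22, 3, 17, 19, 20, 15, 9, 10, 23, 11], [21, 6, 7, 13, 17, 22, 1, 2, 11, 20, 15, 8, 18, 3, 16, 10, 14, 4, 12, 23, 9, 0, 5, 19]),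
  ([8, 13, 14, 23, 5, 4, 16, 3, 1, 20, 7, 6, 9, 19, 0, 2, 21, 17, 12, 15, 18, 10, 22, 11], [19, 7, 6, 16, 5, 4, 2, 1, 11, 20, 15, 8, 18, 14, 13, 10, 3, 22, 12, 0, 9, 23, 17, 21])]

def m0 : ℕ := 11010049

def LS : List ℕ := [11010049, 198, 36096, 90120, 1315328, 4325424]

def WT : List ℕ := [268544, 1052740, 274440, 300032, 393760, 4194468, 81986, 1052802, 3202, 131220]

set_option maxRecDepth 100000 in
theorem run_U : ∀ t ∈ U, t ∈ run TT PR := by decide +kernel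

set_option maxRecDepth 100000 in
theorem run_V : ∀ t ∈ V, t ∈ run TT PR := by decide +kernel

set_option maxRecDepth 100000 in
theorem run_W : ∀ t ∈ W, t ∈ run TT PR := by decide +kernel

set_option maxRecDepth 100000 in
theorem run_H : ∀ t ∈ HK.map (fun hk => hk.1), t ∈ run TT PR := by decide +kernel

theorem run_all : ∀ t ∈ U ++ V ++ W ++ HK.map (fun hk => hk.1), t ∈ run TT PR := by
  intro t ht
  rw [List.mem_append, List.mem_append, List.mem_append] at ht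
  rcases ht with ((h | h) | h) | h
  · exact run_U t h
  · exact run_V t h
  · exact run_W t h
  · exact run_H t h

set_option maxRecDepth 100000 in
theorem U_ok : ∀ t ∈ U, comp t R2 = comp R2 t := by decide +kernel

set_option maxRecDepth 100000 in
theorem U_cov : ∀ q < 24, ∃ t ∈ U, t.getD 0 0 = q := by decide +kernel

set_option maxRecDepth 100000 in
theorem V_ok : ∀ t ∈ V, comp t R2 = comp R2 t ∧ t.getD 0 0 = 0 := by decide +kernel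

set_option maxRecDepth 100000 in
theorem V_cov : ∀ j < 20, ∃ t ∈ V, t.getD 1 0 = VI.getD j 0 := by decide +kernel

set_option maxRecDepth 100000 in
theorem VI_inj : ∀ j < 20, ∀ j' < 20, VI.getD j 0 = VI.getD j' 0 → j = j' := by decide +kernel

theorem VI_lt : ∀ j < 20, VI.getD j 0 < 24 := by decide +kernel

set_option maxRecDepth 100000 in
theorem W_ok : ∀ t ∈ W, comp t R2 = comp R2 t ∧ t.getD 0 0 = 0 ∧ t.getD 1 0 = 1 := by
  decide +kernel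

set_option maxRecDepth 100000 in
theorem W_cov : ∀ k < 16, ∃ t ∈ W, t.getD 3 0 = WI.getD k 0 := by decide +kernel

set_option maxRecDepth 100000 in
theorem WI_inj : ∀ k < 16, ∀ k' < 16, WI.getD k 0 = WI.getD k' 0 → k = k' := by decide +kernel

theorem WI_lt : ∀ k < 16, WI.getD k 0 < 24 := by decide +kernel

set_option maxRecDepth 100000 in
theorem HK_ok : ∀ hk ∈ HK, (∀ m ∈ LS, pmI hk.1 m ∈ LS) ∧ comp hk.2 hk.1 = comp hk.1 R2 := by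
  decide +kernel

set_option maxRecDepth 100000 in
theorem HK_inj : ∀ i < 18, ∀ j < 18, i ≠ j →
    ∃ n < 24, (HK.getD i ([], [])).2.getD n 0 ≠ (HK.getD j ([], [])).2.getD n 0 := by
  decide +kernel

theorem HK_len : HK.length = 18 := by decide +kernel

set_option maxRecDepth 100000 in
theorem LS_chk : ∀ m ∈ LS, m < 2 ^ 24 ∧ lnk m0 m = true := by decide +kernel

set_option maxRecDepth 100000 in
theorem LS_inv : ∀ m ∈ LS, pmI R2 m = m := by decide +kernel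

set_option maxRecDepth 100000 in
theorem uniq : ∀ m ∈ L4, m.testBit 0 = true → pmI R2 m = m →
    m = m0 ∨ ∃ x ∈ WT, lnk m x = true ∧ pmI R2 x ≠ x := by decide +kernel

end Cfsg.Agent.Lib.Helper9.C2D
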