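import Mathlib

set_option autoImplicit false
set_option linter.unusedSectionVars false

namespace Cfsg.Agent.Lib.Helper9.Golay

open Finset

variable {α : Type*} [Fintype α] [DecidableEq α]

/-- support of a binary word -/
def supp (u : α → ZMod 2) : Finset α := Finset.univ.filter (fun i => u i ≠ 0)

/-- indicator word of a set -/
def ind (s : Finset α) : α → ZMod 2 := fun i => if i ∈ s then 1 else 0

theorem mem_supp (u : α → ZMod 2) (i : α) : i ∈ supp u ↔ u i ≠ 0 := by simp [supp]

theorem mem_supp' (u : α → ZMod 2) (i : α) : i ∈ supp u ↔ u i = 1 := by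
  rw [mem_supp]
  have : ∀ a : ZMod 2, a ≠ 0 ↔ a = 1 := by decide
  exact this _

theorem hammingNorm_eq (u : α → ZMod 2) : hammingNorm u = (supp u).card := by
  unfold hammingNorm supp
  congr

theorem supp_ind (s : Finset α) : supp (ind s) = s := by
  ext i
  simp [mem_supp, ind]

theorem ind_supp (u : α → ZMod 2) : ind (supp u) = u := by
  funext i
  have h := mem_supp' u i
  unfold ind
  by_cases hi : i ∈ supp u
  · rw [if_pos hi, h.1 hi]
  · rw [if_neg hi]
    have : ¬ u i ≠ 0 := fun h' => hi ((mem_supp u i).2 h')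
    push Not at this
    exact this.symm

theorem supp_injective : Function.Injective (supp : (α → ZMod 2) → Finset α) := by
  intro u v h
  rw [← ind_supp u, ← ind_supp v, h]

theorem supp_add (u v : α → ZMod 2) : supp (u + v) = symmDiff (supp u) (supp v) := by
  ext i
  rw [Finset.mem_symmDiff, mem_supp, mem_supp, mem_supp, Pi.add_apply]
  have : ∀ a b : ZMod 2, (a + b ≠ 0) ↔ ((a ≠ 0 ∧ ¬ b ≠ 0) ∨ (b ≠ 0 ∧ ¬ a ≠ 0)) := by decide
  exact this _ _

theorem sub_eq_add' (u v : α → ZMod 2) : u - v = u + v := by
  funext i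
  have : ∀ a b : ZMod 2, a - b = a + b := by decide
  exact this _ _

theorem card_symmDiff_add (s t : Finset α) :
    (symmDiff s t).card + 2 * (s ∩ t).card = s.card + t.card := by
  have h1 : symmDiff s t = (s \ t) ∪ (t \ s) := rfl
  have h2 : Disjoint (s \ t) (t \ s) := by
    rw [Finset.disjoint_left]
    intro x hx hx'
    rw [Finset.mem_sdiff] at hx hx'
    exact hx.2 hx'.1
  rw [h1, Finset.card_union_of_disjoint h2]
  have h3 := Finset.card_sdiff_add_card_inter s t
  have h4 := Finset.card_sdiff_add_card_inter t s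
  rw [Finset.inter_comm t s] at h4
  omega

theorem norm_add (u v : α → ZMod 2) :
    hammingNorm (u + v) + 2 * (supp u ∩ supp v).card = hammingNorm u + hammingNorm v := by
  rw [hammingNorm_eq, hammingNorm_eq, hammingNorm_eq, supp_add, card_symmDiff_add]

theorem card_weight (k : ℕ) :
    (Finset.univ.filter (fun u : α → ZMod 2 => hammingNorm u = k)).card =
      (Fintype.card α).choose k := by
  rw [← Finset.card_univ, ← Finset.card_powersetCard]
  apply Finset.card_bij (fun u _ => supp u)
  · intro u hu
    rw [Finset.mem_filter] at hu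
    rw [Finset.mem_powersetCard]
    exact ⟨Finset.subset_univ _, by rw [← hammingNorm_eq]; exact hu.2⟩
  · intro u _ v _ h
    exact supp_injective h
  · intro s hs
    rw [Finset.mem_powersetCard] at hs
    refine ⟨ind s, ?_, supp_ind s⟩
    rw [Finset.mem_filter]
    exact ⟨Finset.mem_univ _, by rw [hammingNorm_eq, supp_ind]; exact hs.2⟩

theorem card_weight_le (n : ℕ) :
    (Finset.univ.filter (fun u : α → ZMod 2 => hammingNorm u ≤ n)).card =
      ∑ k ∈ Finset.range (n + 1), (Fintype.card α).choose k := by
  rw [Finset.card_eq_sum_card_fiberwise (f := fun u : α → ZMod 2 => hammingNorm u)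
    (t := Finset.range (n + 1))]
  · apply Finset.sum_congr rfl
    intro k hk
    rw [Finset.mem_range] at hk
    rw [← card_weight k]
    congr 1
    ext u
    simp only [Finset.mem_filter, Finset.mem_univ, true_and]
    constructor
    · rintro ⟨-, h⟩; exact h
    · intro h; exact ⟨by omega, h⟩
  · intro u hu
    simp only [Finset.coe_filter, Finset.mem_univ, true_and, Set.mem_ofPred_eq] at hu
    simp only [Finset.coe_range, Set.mem_Iio]
    omega

section code

variable (C : Submodule (ZMod 2) (α → ZMod 2))

open Classical in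
/-- the words of weight at most `n` in the coset of `v` -/
noncomputable def lead (n : ℕ) (v : α → ZMod 2) : Finset (α → ZMod 2) :=
  Finset.univ.filter (fun u => u - v ∈ C ∧ hammingNorm u ≤ n)

theorem mem_lead (n : ℕ) (v u : α → ZMod 2) :
    u ∈ lead C n v ↔ u - v ∈ C ∧ hammingNorm u ≤ n := by
  classical
  simp [lead]

theorem lead_mono {m n : ℕ} (h : m ≤ n) (v : α → ZMod 2) : lead C m v ⊆ lead C n v := by
  intro u hu
  rw [mem_lead] at hu ⊢
  exact ⟨hu.1, hu.2.trans h⟩

/-- double counting -/
theorem sum_card_lead (n : ℕ) :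
    ∑ v : α → ZMod 2, (lead C n v).card =
      (Finset.univ.filter (fun u : α → ZMod 2 => hammingNorm u ≤ n)).card * Nat.card C := by
  classical
  have h1 : ∀ v : α → ZMod 2, (lead C n v).card =
      ∑ u ∈ Finset.univ.filter (fun u : α → ZMod 2 => hammingNorm u ≤ n),
        if u - v ∈ C then 1 else 0 := by
    intro v
    rw [← Finset.card_filter]
    congr 1
    ext u
    simp only [mem_lead, Finset.mem_filter, Finset.mem_univ, true_and]
    tauto
  simp_rw [h1]
  rw [Finset.sum_comm, Finset.card_eq_sum_ones, Finset.sum_mul]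
  apply Finset.sum_congr rfl
  intro u _
  rw [one_mul, ← Finset.card_filter, Nat.card_eq_fintype_card, Fintype.card_subtype]
  apply Finset.card_bij (fun v _ => u - v)
  · intro v hv
    simp only [Finset.mem_filter, Finset.mem_univ, true_and] at hv ⊢
    exact hv
  · intro v _ v' _ h
    exact sub_right_injective h
  · intro c hc
    simp only [Finset.mem_filter, Finset.mem_univ, true_and] at hc
    refine ⟨u - c, ?_, by abel⟩
    simp only [Finset.mem_filter, Finset.mem_univ, true_and]
    have : u - (u - c) = c := by abel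
    rw [this]
    exact hc

variable (hmin : ∀ w ∈ C, w ≠ 0 → 8 ≤ hammingNorm w)
include hmin

theorem leaders_disjoint {v u u' : α → ZMod 2} (hu : u ∈ lead C 4 v) (hu' : u' ∈ lead C 4 v)
    (hne : u ≠ u') :
    hammingNorm u = 4 ∧ hammingNorm u' = 4 ∧ Disjoint (supp u) (supp u') := by
  rw [mem_lead] at hu hu'
  have hd : u + u' ∈ C := by
    have := C.sub_mem hu.1 hu'.1
    have e : u - v - (u' - v) = u + u' := by
      rw [← sub_eq_add']; abel
    rwa [e] at this
  have hd0 : u + u' ≠ 0 := by
    intro h
    apply hne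
    have : u - u' = 0 := by rw [sub_eq_add']; exact h
    exact sub_eq_zero.1 this
  have h8 := hmin _ hd hd0
  have h2 := norm_add u u'
  have h3 : (supp u ∩ supp u').card = 0 := by omega
  refine ⟨by omega, by omega, ?_⟩
  rw [Finset.disjoint_iff_inter_eq_empty]
  exact Finset.card_eq_zero.1 h3

theorem lead_card_le_one_of_three {v u : α → ZMod 2} (hu : u ∈ lead C 4 v)
    (h3 : hammingNorm u ≤ 3) : lead C 4 v = {u} := by
  ext u'
  rw [Finset.mem_singleton]
  constructor
  · intro hu'
    by_contra hne
    have := leaders_disjoint C hmin hu hu' (Ne.symm hne)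
    omega
  · rintro rfl
    exact hu

theorem coset_leaders (hα : Fintype.card α = 24) (hdim : Module.finrank (ZMod 2) C = 12)
    (w : α → ZMod 2) :
    (∃ u, lead C 4 w = {u} ∧ hammingNorm u ≤ 3) ∨
    ((lead C 4 w).card = 6 ∧ ∀ u ∈ lead C 4 w, hammingNorm u = 4 ∧
      ∀ u' ∈ lead C 4 w, u ≠ u' → Disjoint (supp u) (supp u')) := by
  classical
  have hC : Nat.card C = 4096 := by
    rw [Module.natCard_eq_pow_finrank (K := ZMod 2), hdim, Nat.card_zmod]
    norm_num
  have hT4 : (univ.filter (fun u : α → ZMod 2 => hammingNorm u ≤ 4)).card = 12951 := by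
    rw [card_weight_le, hα]
    decide
  have hT3 : (univ.filter (fun u : α → ZMod 2 => hammingNorm u ≤ 3)).card = 2325 := by
    rw [card_weight_le, hα]
    decide
  have hV : Fintype.card (α → ZMod 2) = 4096 * 4096 := by
    rw [Fintype.card_fun, ZMod.card, hα]
    norm_num
  have hs4 := sum_card_lead C 4
  have hs3 := sum_card_lead C 3
  rw [hT4, hC] at hs4
  rw [hT3, hC] at hs3
  have h3le : ∀ v, (lead C 3 v).card ≤ 1 := by
    intro v
    rw [Finset.card_le_one]
    intro u hu u' hu'
    by_contra hne
    have := leaders_disjoint C hmin (lead_mono C (by norm_num) v hu)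
      (lead_mono C (by norm_num) v hu') hne
    rw [mem_lead] at hu
    omega
  set V1 := univ.filter (fun v : α → ZMod 2 => (lead C 3 v).Nonempty) with hV1
  have hV1card : V1.card = 2325 * 4096 := by
    rw [← hs3, Finset.card_eq_sum_ones, Finset.sum_filter]
    apply Finset.sum_congr rfl
    intro v _
    by_cases hne : (lead C 3 v).Nonempty
    · rw [if_pos hne]
      have h1 := Finset.card_pos.2 hne
      have h2 := h3le v
      omega
    · rw [if_neg hne]
      rw [Finset.not_nonempty_iff_eq_empty] at hne
      rw [hne, Finset.card_empty]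
  have h41 : ∀ v ∈ V1, (lead C 4 v).card = 1 := by
    intro v hv
    rw [hV1, Finset.mem_filter] at hv
    obtain ⟨u, hu⟩ := hv.2
    have hu4 := lead_mono C (by norm_num : 3 ≤ 4) v hu
    rw [mem_lead] at hu
    rw [lead_card_le_one_of_three C hmin hu4 hu.2, Finset.card_singleton]
  have hw4 : ∀ v, v ∉ V1 → ∀ u ∈ lead C 4 v, hammingNorm u = 4 := by
    intro v hv u hu
    by_contra hne
    apply hv
    rw [hV1, Finset.mem_filter]
    refine ⟨Finset.mem_univ _, u, ?_⟩
    rw [mem_lead] at hu ⊢
    exact ⟨hu.1, by omega⟩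
  have h6 : ∀ v, v ∉ V1 → (lead C 4 v).card ≤ 6 := by
    intro v hv
    have hdisj : ∀ u ∈ lead C 4 v, ∀ u' ∈ lead C 4 v, u ≠ u' → Disjoint (supp u) (supp u') :=
      fun u hu u' hu' hne => (leaders_disjoint C hmin hu hu' hne).2.2
    have hcard := Finset.card_biUnion hdisj
    have hle : ((lead C 4 v).biUnion supp).card ≤ 24 := by
      rw [← hα]
      exact Finset.card_le_univ _
    have hsum : ∑ u ∈ lead C 4 v, (supp u).card = 4 * (lead C 4 v).card := by
      rw [Finset.sum_congr rfl (fun u hu => by rw [← hammingNorm_eq, hw4 v hv u hu]),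
        Finset.sum_const, smul_eq_mul, mul_comm]
    omega
  have hsplit : ∑ v : α → ZMod 2, (lead C 4 v).card =
      ∑ v ∈ V1, (lead C 4 v).card + ∑ v ∈ V1ᶜ, (lead C 4 v).card :=
    (Finset.sum_add_sum_compl V1 _).symm
  have hsumV1 : ∑ v ∈ V1, (lead C 4 v).card = 2325 * 4096 := by
    rw [Finset.sum_congr rfl h41, Finset.sum_const, smul_eq_mul, mul_one, hV1card]
  have hcompl : (V1ᶜ).card = 1771 * 4096 := by
    rw [Finset.card_compl, hV, hV1card]
  have hsumc : ∑ v ∈ V1ᶜ, (lead C 4 v).card = ∑ v ∈ V1ᶜ, 6 := by
    rw [Finset.sum_const, smul_eq_mul, hcompl]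
    omega
  have hall := (Finset.sum_eq_sum_iff_of_le (fun v hv => h6 v (Finset.mem_compl.1 hv))).1 hsumc
  by_cases hw : w ∈ V1
  · left
    rw [hV1, Finset.mem_filter] at hw
    obtain ⟨u, hu⟩ := hw.2
    have hu4 := lead_mono C (by norm_num : 3 ≤ 4) w hu
    rw [mem_lead] at hu
    exact ⟨u, lead_card_le_one_of_three C hmin hu4 hu.2, hu.2⟩
  · right
    exact ⟨hall w (Finset.mem_compl.2 hw), fun u hu => ⟨hw4 w hw u hu, fun u' hu' hne =>
      (leaders_disjoint C hmin hu hu' hne).2.2⟩⟩

/-- an octad through any five points -/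
theorem exists_octad (hα : Fintype.card α = 24) (hdim : Module.finrank (ZMod 2) C = 12)
    (F : Finset α) (hF : F.card = 5) : ∃ c ∈ C, hammingNorm c = 8 ∧ F ⊆ supp c := by
  obtain ⟨T, hTF, hT4⟩ := Finset.exists_subset_card_eq (s := F) (n := 4) (by omega)
  obtain ⟨p, hpF, hpT⟩ : ∃ p ∈ F, p ∉ T := by
    by_contra h
    push Not at h
    have hsub : F ⊆ T := fun x hx => h x hx
    have := Finset.card_le_card hsub
    omega
  have hv : ind T ∈ lead C 4 (ind T) := by
    rw [mem_lead]
    simp [hammingNorm_eq, supp_ind, hT4]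
  rcases coset_leaders C hmin hα hdim (ind T) with ⟨u, hu, hu3⟩ | ⟨h6, hall⟩
  · exfalso
    rw [hu, Finset.mem_singleton] at hv
    rw [← hv, hammingNorm_eq, supp_ind, hT4] at hu3
    omega
  · have hdisj : ∀ u ∈ lead C 4 (ind T), ∀ u' ∈ lead C 4 (ind T), u ≠ u' →
        Disjoint (supp u) (supp u') := fun u hu u' hu' hne => (hall u hu).2 u' hu' hne
    have hcard := Finset.card_biUnion hdisj
    have hsum : ∑ u ∈ lead C 4 (ind T), (supp u).card = 24 := by
      rw [Finset.sum_congr rfl (fun u hu => by rw [← hammingNorm_eq, (hall u hu).1]),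
        Finset.sum_const, smul_eq_mul, h6]
    have hun : (lead C 4 (ind T)).biUnion supp = Finset.univ := by
      apply Finset.eq_univ_of_card
      rw [hcard, hsum, hα]
    have hp : p ∈ (lead C 4 (ind T)).biUnion supp := by rw [hun]; exact Finset.mem_univ _
    rw [Finset.mem_biUnion] at hp
    obtain ⟨u, hu, hpu⟩ := hp
    have hne : u ≠ ind T := by
      rintro rfl
      rw [supp_ind] at hpu
      exact hpT hpu
    have hdj := (hall u hu).2 (ind T) hv hne
    rw [supp_ind] at hdj
    refine ⟨u + ind T, ?_, ?_, ?_⟩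
    · have := (mem_lead C 4 (ind T) u).1 hu
      rw [← sub_eq_add']
      exact this.1
    · have h2 := norm_add u (ind T)
      rw [supp_ind, Finset.disjoint_iff_inter_eq_empty.1 hdj, Finset.card_empty, (hall u hu).1,
        hammingNorm_eq (ind T), supp_ind, hT4] at h2
      omega
    · intro x hx
      rw [supp_add, supp_ind, Finset.mem_symmDiff]
      by_cases hxT : x ∈ T
      · right
        exact ⟨hxT, fun hxu => (Finset.disjoint_left.1 hdj) hxu hxT⟩
      · left
        have hxp : x = p := by
          by_contra hxp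
          have hsub : insert x (insert p T) ⊆ F := by
            intro y hy
            simp only [Finset.mem_insert] at hy
            rcases hy with rfl | rfl | hy
            · exact hx
            · exact hpF
            · exact hTF hy
          have hle := Finset.card_le_card hsub
          rw [Finset.card_insert_of_notMem (by simp [hxp, hxT]),
            Finset.card_insert_of_notMem hpT] at hle
          omega
        rw [hxp]
        exact ⟨hpu, hpT⟩

theorem octad_unique {c c' : α → ZMod 2} (hc : c ∈ C) (hc' : c' ∈ C)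
    (h8 : hammingNorm c = 8) (h8' : hammingNorm c' = 8) (F : Finset α) (hF : F.card = 5)
    (h : F ⊆ supp c) (h' : F ⊆ supp c') : c = c' := by
  by_contra hne
  have hd : c + c' ∈ C := C.add_mem hc hc'
  have hd0 : c + c' ≠ 0 := by
    intro h0
    apply hne
    have : c - c' = 0 := by rw [sub_eq_add']; exact h0
    exact sub_eq_zero.1 this
  have h1 := hmin _ hd hd0
  have h2 := norm_add c c'
  have h3 : 5 ≤ (supp c ∩ supp c').card := by
    rw [← hF]
    exact Finset.card_le_card (Finset.subset_inter h h')
  omega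

theorem mem_span_octads (hα : Fintype.card α = 24) (hdim : Module.finrank (ZMod 2) C = 12) :
    ∀ (n : ℕ) (c : α → ZMod 2), c ∈ C → hammingNorm c ≤ n →
      c ∈ Submodule.span (ZMod 2) {w : α → ZMod 2 | w ∈ C ∧ hammingNorm w = 8} := by
  intro n
  induction n using Nat.strong_induction_on with
  | _ n ih =>
    intro c hc hn
    by_cases h0 : c = 0
    · rw [h0]
      exact Submodule.zero_mem _
    have h8 := hmin c hc h0
    obtain ⟨F, hFs, hF5⟩ := Finset.exists_subset_card_eq (s := supp c) (n := 5)
      (by rw [← hammingNorm_eq]; omega)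
    obtain ⟨o, ho, ho8, hFo⟩ := exists_octad C hmin hα hdim F hF5
    have hlt : hammingNorm (c + o) < hammingNorm c := by
      have h2 := norm_add c o
      have h3 : 5 ≤ (supp c ∩ supp o).card := by
        rw [← hF5]
        exact Finset.card_le_card (Finset.subset_inter hFs hFo)
      omega
    have hmem := ih (hammingNorm (c + o)) (by omega) (c + o) (C.add_mem hc ho) le_rfl
    have e : c = (c + o) + o := by
      funext i
      have : ∀ a b : ZMod 2, a = a + b + b := by decide
      exact this _ _
    rw [e]
    exact Submodule.add_mem _ hmem (Submodule.subset_span ⟨ho, ho8⟩)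

theorem span_octads (hα : Fintype.card α = 24) (hdim : Module.finrank (ZMod 2) C = 12) :
    Submodule.span (ZMod 2) {w : α → ZMod 2 | w ∈ C ∧ hammingNorm w = 8} = C := by
  apply le_antisymm
  · rw [Submodule.span_le]
    intro w hw
    exact hw.1
  · intro c hc
    exact mem_span_octads C hmin hα hdim _ c hc le_rfl

omit hmin in
theorem dot_eq (u v : α → ZMod 2) : ∑ i, u i * v i = ((supp u ∩ supp v).card : ZMod 2) := by
  rw [Finset.card_eq_sum_ones, Nat.cast_sum, ← Finset.sum_subset (Finset.subset_univ _)]
  · apply Finset.sum_congr rfl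
    intro i hi
    rw [Finset.mem_inter, mem_supp', mem_supp'] at hi
    rw [hi.1, hi.2]
    simp
  · intro i _ hi
    rw [Finset.mem_inter, mem_supp, mem_supp] at hi
    by_cases hu : u i = 0
    · rw [hu, zero_mul]
    · have hv : v i = 0 := by
        by_contra hv
        exact hi ⟨hu, hv⟩
      rw [hv, mul_zero]

theorem doubly_even (hα : Fintype.card α = 24) (hdim : Module.finrank (ZMod 2) C = 12)
    (horth : ∀ v ∈ C, ∀ w ∈ C, ∑ i, v i * w i = 0) :
    ∀ (n : ℕ) (c : α → ZMod 2), c ∈ C → hammingNorm c ≤ n → 4 ∣ hammingNorm c := by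
  intro n
  induction n using Nat.strong_induction_on with
  | _ n ih =>
    intro c hc hn
    by_cases h0 : c = 0
    · rw [h0, hammingNorm_zero]
      exact dvd_zero 4
    have h8 := hmin c hc h0
    obtain ⟨F, hFs, hF5⟩ := Finset.exists_subset_card_eq (s := supp c) (n := 5)
      (by rw [← hammingNorm_eq]; omega)
    obtain ⟨o, ho, ho8, hFo⟩ := exists_octad C hmin hα hdim F hF5
    have hlt : hammingNorm (c + o) < hammingNorm c := by
      have h2 := norm_add c o
      have h3 : 5 ≤ (supp c ∩ supp o).card := by
        rw [← hF5]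
        exact Finset.card_le_card (Finset.subset_inter hFs hFo)
      omega
    have hdvd := ih (hammingNorm (c + o)) (by omega) (c + o) (C.add_mem hc ho) le_rfl
    have e : c = (c + o) + o := by
      funext i
      have : ∀ a b : ZMod 2, a = a + b + b := by decide
      exact this _ _
    have h2 := norm_add (c + o) o
    rw [← e] at h2
    have hev : Even (supp (c + o) ∩ supp o).card := by
      have := horth (c + o) (C.add_mem hc ho) o ho
      rw [dot_eq] at this
      exact (ZMod.natCast_eq_zero_iff_even).1 this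
    obtain ⟨k, hk⟩ := hev
    obtain ⟨j, hj⟩ := hdvd
    omega

end code

end Cfsg.Agent.Lib.Helper9.Golay
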