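import Mathlib
import Cfsg.Prelude.Def_Sporadic_a
import Cfsg.Agent.Lib.Helper9.Golay

set_option autoImplicit false

/-! Concrete facts about `Cfsg.golayCode`, by kernel computation on bitmasks. -/

namespace Cfsg.Agent.Lib.Helper9.GolayC

/-- Index of a point: residues `0..22`, the extra point is `23`. -/
def idx : Cfsg.GolayPt → ℕ
  | none => 23
  | some x => x.val

/-- Decode a bitmask into a binary word. -/
def dec (n : ℕ) : Cfsg.GolayPt → ZMod 2 := fun p => if n.testBit (idx p) then 1 else 0

theorem dec_zero : dec 0 = 0 := by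
  funext p
  simp [dec]

theorem dec_xor (a b : ℕ) : dec (a ^^^ b) = dec a + dec b := by
  funext p
  simp only [dec, Nat.testBit_xor, Pi.add_apply]
  cases a.testBit (idx p) <;> cases b.testBit (idx p) <;> decide

/-- Popcount of the low `k` bits. -/
def pc : ℕ → ℕ → ℕ
  | 0, _ => 0
  | k + 1, n => n % 2 + pc k (n / 2)

theorem pc_eq (k n : ℕ) :
    pc k n = ∑ i ∈ Finset.range k, if n.testBit i = true then 1 else 0 := by
  induction k generalizing n with
  | zero => simp [pc]
  | succ k ih =>
    rw [pc, Finset.sum_range_succ', ih]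
    simp only [Nat.testBit_add_one, Nat.testBit_zero]
    have : n % 2 = if decide (n % 2 = 1) = true then 1 else 0 := by
      rcases Nat.mod_two_eq_zero_or_one n with h | h <;> simp [h]
    omega

theorem idx_inj : Function.Injective idx := by decide

theorem image_idx : (Finset.univ : Finset Cfsg.GolayPt).image idx = Finset.range 24 := by decide

theorem card_pts : Fintype.card Cfsg.GolayPt = 24 := by decide

theorem norm_dec (n : ℕ) : hammingNorm (dec n) = pc 24 n := by
  rw [pc_eq, ← image_idx, Finset.sum_image (fun a _ b _ h => idx_inj h)]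
  unfold hammingNorm
  rw [Finset.card_filter]
  apply Finset.sum_congr rfl
  intro p _
  simp only [dec]
  split_ifs <;> simp_all

/-- The masks of the 23 translates of the squares. -/
def GM : List ℕ := [340831, 681662, 1363324, 2726648, 5453296, 2517985, 5035970, 1683333,
  3366666, 6733332, 5078057, 1767507, 3535014, 7070028, 5751449, 3114291, 6228582, 4068557,
  8137114, 7885621, 7382635, 6376663, 4364719]

/-- A basis: the first 11 translates and the all-ones word. -/
def LB : List ℕ := [340831, 681662, 1363324, 2726648, 5453296, 2517985, 5035970, 1683333,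
  3366666, 6733332, 5078057, 16777215]

/-- Coordinates of the translates in the basis. -/
def CT : List ℕ := [1, 2, 4, 8, 16, 32, 64, 128, 256, 512, 1024, 739, 1478, 367, 734, 1468,
  411, 822, 1644, 1595, 1685, 1993, 1393]

/-- The XOR of the members of a list selected by the bits of `c`. -/
def lin : List ℕ → ℕ → ℕ
  | [], _ => 0
  | b :: bs, c => (if c.testBit 0 = true then b else 0) ^^^ lin bs (c >>> 1)

theorem sel_xor (x y : Bool) (b : ℕ) :
    (if (x ^^ y) = true then b else 0) = (if x = true then b else 0) ^^^ (if y = true then b else 0) := by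
  cases x <;> cases y <;> simp

theorem lin_xor (bs : List ℕ) (c c' : ℕ) : lin bs (c ^^^ c') = lin bs c ^^^ lin bs c' := by
  induction bs generalizing c c' with
  | nil => simp [lin]
  | cons b bs ih =>
    simp only [lin, Nat.testBit_xor, Nat.shiftRight_xor_distrib, ih, sel_xor]
    simp only [Nat.xor_assoc, Nat.xor_left_comm]

theorem lin_mem (C : Submodule (ZMod 2) (Cfsg.GolayPt → ZMod 2)) (bs : List ℕ)
    (h : ∀ b ∈ bs, dec b ∈ C) (c : ℕ) : dec (lin bs c) ∈ C := by
  induction bs generalizing c with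
  | nil =>
    simp only [lin]
    rw [dec_zero]
    exact C.zero_mem
  | cons b bs ih =>
    simp only [lin]
    rw [dec_xor]
    apply C.add_mem
    · split_ifs
      · exact h b List.mem_cons_self
      · rw [dec_zero]
        exact C.zero_mem
    · exact ih (fun b' hb' => h b' (List.mem_cons_of_mem _ hb')) _

set_option maxRecDepth 100000 in
theorem qr_eq : ∀ t : ZMod 23, ∀ p : Cfsg.GolayPt, Cfsg.qrWord t p = dec (GM.getD t.val 0) p := by
  decide +kernel

theorem one_eq : (1 : Cfsg.GolayPt → ZMod 2) = dec 16777215 := by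
  funext p
  revert p
  decide +kernel

theorem gm_lin : ∀ t < 23, GM.getD t 0 = lin LB (CT.getD t 0) := by decide +kernel

theorem ct_lt : ∀ t < 23, CT.getD t 0 < 4096 := by decide +kernel

theorem ones_lin : 16777215 = lin LB 2048 := by decide +kernel

theorem lb_gen : ∀ b ∈ LB, b = 16777215 ∨ ∃ t : ZMod 23, b = GM.getD t.val 0 := by decide +kernel

theorem one_mem : (1 : Cfsg.GolayPt → ZMod 2) ∈ Cfsg.golayCode :=
  Submodule.subset_span (Or.inr rfl)

theorem qr_mem (t : ZMod 23) : Cfsg.qrWord t ∈ Cfsg.golayCode :=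
  Submodule.subset_span (Or.inl ⟨t, rfl⟩)

theorem lin_mem_golay (c : ℕ) : dec (lin LB c) ∈ Cfsg.golayCode := by
  apply lin_mem
  intro b hb
  rcases lb_gen b hb with h | ⟨t, h⟩
  · rw [h, ← one_eq]
    exact one_mem
  · have : dec b = Cfsg.qrWord t := by
      funext p
      rw [h, qr_eq]
    rw [this]
    exact qr_mem t

/-- The weight check for a weight `w` and coefficient vector `c`. -/
def wok' (w c : ℕ) : Bool :=
  (w == 8 || w == 12 || w == 16 || w == 24 || (w == 0 && c == 0))

theorem wok'_spec (w c : ℕ) (h : wok' w c = true) :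
    (w = 8 ∨ w = 12 ∨ w = 16 ∨ w = 24) ∨ (w = 0 ∧ c = 0) := by
  simp only [wok', Bool.or_eq_true, Bool.and_eq_true, beq_iff_eq] at h
  tauto

/-- The weight check for a single coefficient vector. -/
def wok (c : ℕ) : Bool := wok' (pc 24 (lin LB c)) c

/-- Check `wok` on `c, c+1, ..., c+k-1`. -/
def chk : ℕ → ℕ → Bool
  | 0, _ => true
  | k + 1, c => wok c && chk k (c + 1)

theorem chk_spec (k c : ℕ) (h : chk k c = true) : ∀ i < k, wok (c + i) = true := by
  induction k generalizing c with
  | zero => intro i hi; omega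
  | succ k ih =>
    rw [chk, Bool.and_eq_true] at h
    intro i hi
    rcases Nat.eq_zero_or_pos i with h0 | h0
    · rw [h0, add_zero]
      exact h.1
    · have := ih (c + 1) h.2 (i - 1) (by omega)
      rw [show c + 1 + (i - 1) = c + i by omega] at this
      exact this

theorem chk_all : chk 4096 0 = true := by decide +kernel

theorem wok_all (c : ℕ) (hc : c < 4096) : wok c = true := by
  have := chk_spec 4096 0 chk_all c hc
  rwa [zero_add] at this

theorem wok_cases (c : ℕ) (hc : c < 4096) :
    (pc 24 (lin LB c) = 8 ∨ pc 24 (lin LB c) = 12 ∨ pc 24 (lin LB c) = 16 ∨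
      pc 24 (lin LB c) = 24) ∨ (pc 24 (lin LB c) = 0 ∧ c = 0) :=
  wok'_spec _ _ (wok_all c hc)

/-- The code as the set of decoded linear combinations. -/
def S : Submodule (ZMod 2) (Cfsg.GolayPt → ZMod 2) where
  carrier := {w | ∃ c < 4096, w = dec (lin LB c)}
  zero_mem' := ⟨0, by norm_num, by
    have : lin LB 0 = 0 := by decide +kernel
    rw [this, dec_zero]⟩
  add_mem' := by
    rintro _ _ ⟨c, hc, rfl⟩ ⟨c', hc', rfl⟩
    refine ⟨c ^^^ c', ?_, ?_⟩
    · exact Nat.xor_lt_two_pow (n := 12) hc hc'
    · rw [lin_xor, dec_xor]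
  smul_mem' := by
    rintro r _ ⟨c, hc, rfl⟩
    have hr : r = 0 ∨ r = 1 := by
      revert r
      decide
    rcases hr with rfl | rfl
    · refine ⟨0, by norm_num, ?_⟩
      have : lin LB 0 = 0 := by decide +kernel
      rw [this, dec_zero, zero_smul]
    · exact ⟨c, hc, by rw [one_smul]⟩

theorem golay_eq_S : Cfsg.golayCode = S := by
  apply le_antisymm
  · unfold Cfsg.golayCode
    rw [Submodule.span_le]
    rintro w (⟨t, rfl⟩ | hw)
    · refine ⟨CT.getD t.val 0, ct_lt _ (ZMod.val_lt t), ?_⟩
      funext p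
      rw [qr_eq, gm_lin _ (ZMod.val_lt t)]
    · rw [Set.mem_singleton_iff] at hw
      rw [hw]
      exact ⟨2048, by norm_num, by rw [← ones_lin, one_eq]⟩
  · rintro w ⟨c, -, rfl⟩
    exact lin_mem_golay c

theorem mem_iff (w : Cfsg.GolayPt → ZMod 2) :
    w ∈ Cfsg.golayCode ↔ ∃ c < 4096, w = dec (lin LB c) := by
  rw [golay_eq_S]
  rfl

theorem norm_zero_iff (w : Cfsg.GolayPt → ZMod 2) : hammingNorm w = 0 ↔ w = 0 :=
  hammingNorm_eq_zero

theorem norm_mem (w : Cfsg.GolayPt → ZMod 2) (hw : w ∈ Cfsg.golayCode) :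
    hammingNorm w = 0 ∨ hammingNorm w = 8 ∨ hammingNorm w = 12 ∨ hammingNorm w = 16 ∨
      hammingNorm w = 24 := by
  obtain ⟨c, hc, rfl⟩ := (mem_iff w).mp hw
  rw [norm_dec]
  have h := wok_cases c hc
  generalize pc 24 (lin LB c) = n at h
  rcases h with h | ⟨h, -⟩
  · exact Or.inr h
  · exact Or.inl h

theorem min_weight : ∀ w ∈ Cfsg.golayCode, w ≠ 0 → 8 ≤ hammingNorm w := by
  intro w hw hw0
  have h0 : hammingNorm w ≠ 0 := fun h => hw0 ((norm_zero_iff w).mp h)
  rcases norm_mem w hw with h | h | h | h | h <;> omega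

theorem dec_lin_inj (c c' : ℕ) (hc : c < 4096) (hc' : c' < 4096)
    (h : dec (lin LB c) = dec (lin LB c')) : c = c' := by
  have h1 : dec (lin LB (c ^^^ c')) = 0 := by
    rw [lin_xor, dec_xor, h]
    funext p
    have : ∀ a : ZMod 2, a + a = 0 := by decide
    exact this _
  have h2 : pc 24 (lin LB (c ^^^ c')) = 0 := by
    rw [← norm_dec, h1]
    exact (norm_zero_iff 0).mpr rfl
  have h4 := wok_cases (c ^^^ c') (Nat.xor_lt_two_pow (n := 12) hc hc')
  generalize pc 24 (lin LB (c ^^^ c')) = n at h2 h4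
  rcases h4 with h3 | ⟨-, h3⟩
  · omega
  · exact Nat.xor_eq_zero_iff.mp h3

theorem card_golay : Nat.card Cfsg.golayCode = 4096 := by
  have hbij : Function.Bijective
      (fun c : Fin 4096 => (⟨dec (lin LB c.val), lin_mem_golay c.val⟩ : Cfsg.golayCode)) := by
    constructor
    · intro c c' h
      have h' : dec (lin LB c.val) = dec (lin LB c'.val) := congrArg Subtype.val h
      exact Fin.ext (dec_lin_inj _ _ c.isLt c'.isLt h')
    · rintro ⟨w, hw⟩
      obtain ⟨c, hc, rfl⟩ := (mem_iff w).mp hw
      exact ⟨⟨c, hc⟩, rfl⟩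
  rw [← Nat.card_eq_of_bijective _ hbij, Nat.card_eq_fintype_card, Fintype.card_fin]

theorem finrank_golay : Module.finrank (ZMod 2) Cfsg.golayCode = 12 := by
  have h := Module.natCard_eq_pow_finrank (K := ZMod 2) (V := Cfsg.golayCode)
  rw [card_golay, Nat.card_eq_fintype_card, ZMod.card] at h
  have h2 : 2 ^ 12 = 2 ^ Module.finrank (ZMod 2) Cfsg.golayCode := by rw [← h]; norm_num
  exact (Nat.pow_right_injective (le_refl 2) h2).symm

end Cfsg.Agent.Lib.Helper9.GolayC
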