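import Mathlib
import Cfsg.Prelude.Def_Sporadic_a
import Cfsg.Agent.Lib.Helper9.Golay
import Cfsg.Agent.Lib.Helper9.GolayC

set_option autoImplicit false

/-! The lattice `Cfsg.leechLattice`: it equals `Cfsg.leechSet`, and its minimal squared length
is `32`. -/

namespace Cfsg.Agent.Lib.Helper9.Leech

open Cfsg.Agent.Lib.Helper9.Golay Cfsg.Agent.Lib.Helper9.GolayC

/-- Positions congruent to `k` modulo 4. -/
def cls (x : Cfsg.GolayPt → ℤ) (k : ℤ) : Finset Cfsg.GolayPt :=
  Finset.univ.filter fun i => x i ≡ k [ZMOD 4]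

theorem mem_cls (x : Cfsg.GolayPt → ℤ) (k : ℤ) (i : Cfsg.GolayPt) :
    i ∈ cls x k ↔ x i % 4 = k % 4 := by
  unfold cls
  rw [Finset.mem_filter]
  exact ⟨fun h => h.2, fun h => ⟨Finset.mem_univ _, h⟩⟩

theorem ind_cls (x : Cfsg.GolayPt → ℤ) (k : ℤ) (i : Cfsg.GolayPt) :
    ind (cls x k) i = if x i % 4 = k % 4 then 1 else 0 := by
  unfold ind
  by_cases h : x i % 4 = k % 4
  · rw [if_pos ((mem_cls x k i).mpr h), if_pos h]
  · rw [if_neg (fun h' => h ((mem_cls x k i).mp h')), if_neg h]

theorem mem_supports (S : Finset Cfsg.GolayPt) :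
    S ∈ Cfsg.supports (Cfsg.golayCode : Set (Cfsg.GolayPt → ZMod 2)) ↔
      ind S ∈ Cfsg.golayCode := by
  constructor
  · rintro ⟨c, hc, rfl⟩
    have : ind (Cfsg.support₂ c) = c := ind_supp c
    rw [this]
    exact hc
  · intro h
    exact ⟨ind S, h, supp_ind S⟩

theorem mem_leechSet (x : Cfsg.GolayPt → ℤ) :
    x ∈ Cfsg.leechSet ↔ ∃ m : ℤ, (∀ i, x i % 2 = m % 2) ∧ ((∑ i, x i) % 8 = (4 * m) % 8) ∧
      ∀ k : ℤ, ind (cls x k) ∈ Cfsg.golayCode := by
  constructor
  · rintro ⟨m, h1, h2, h3⟩
    exact ⟨m, h1, h2, fun k => (mem_supports _).mp (h3 k)⟩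
  · rintro ⟨m, h1, h2, h3⟩
    exact ⟨m, h1, h2, fun k => (mem_supports _).mpr (h3 k)⟩

theorem ind_empty : ind (∅ : Finset Cfsg.GolayPt) = 0 := by
  funext i
  simp [ind]

theorem ind_univ : ind (Finset.univ : Finset Cfsg.GolayPt) = 1 := by
  funext i
  simp [ind]

theorem zero_mem : (0 : Cfsg.GolayPt → ℤ) ∈ Cfsg.leechSet := by
  rw [mem_leechSet]
  refine ⟨0, fun i => rfl, by simp, fun k => ?_⟩
  by_cases hk : k % 4 = 0
  · have : cls 0 k = Finset.univ := by
      ext i
      rw [mem_cls]
      simp [hk]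
    rw [this, ind_univ]
    exact one_mem
  · have : cls 0 k = ∅ := by
      ext i
      rw [mem_cls]
      simp only [Pi.zero_apply, Finset.notMem_empty, iff_false]
      intro h
      exact hk (by omega)
    rw [this, ind_empty]
    exact Cfsg.golayCode.zero_mem

theorem neg_mem {x : Cfsg.GolayPt → ℤ} (hx : x ∈ Cfsg.leechSet) : -x ∈ Cfsg.leechSet := by
  rw [mem_leechSet] at hx ⊢
  obtain ⟨m, h1, h2, h3⟩ := hx
  refine ⟨-m, fun i => ?_, ?_, fun k => ?_⟩
  · have := h1 i
    simp only [Pi.neg_apply]
    omega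
  · simp only [Pi.neg_apply, Finset.sum_neg_distrib]
    omega
  · have : cls (-x) k = cls x (-k) := by
      ext i
      rw [mem_cls, mem_cls]
      simp only [Pi.neg_apply]
      omega
    rw [this]
    exact h3 (-k)

theorem add_mem {x y : Cfsg.GolayPt → ℤ} (hx : x ∈ Cfsg.leechSet) (hy : y ∈ Cfsg.leechSet) :
    x + y ∈ Cfsg.leechSet := by
  rw [mem_leechSet] at hx hy ⊢
  obtain ⟨m, h1, h2, h3⟩ := hx
  obtain ⟨m', h1', h2', h3'⟩ := hy
  refine ⟨m + m', fun i => ?_, ?_, fun k => ?_⟩
  · have := h1 i
    have := h1' i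
    simp only [Pi.add_apply]
    omega
  · simp only [Pi.add_apply, Finset.sum_add_distrib]
    omega
  · have ha := h3 m
    have hb := h3' m'
    have two : ∀ a : ZMod 2, a + a = 0 := by decide
    by_cases hk0 : k % 4 = (m + m') % 4
    · have : ind (cls (x + y) k) = 1 + ind (cls x m) + ind (cls y m') := by
        funext i
        have e1 := h1 i
        have e2 := h1' i
        simp only [Pi.add_apply, Pi.one_apply, ind_cls]
        split_ifs <;> first | (exfalso; omega) | decide
      rw [this]
      exact Cfsg.golayCode.add_mem (Cfsg.golayCode.add_mem one_mem ha) hb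
    · by_cases hk2 : k % 4 = (m + m' + 2) % 4
      · have : ind (cls (x + y) k) = ind (cls x m) + ind (cls y m') := by
          funext i
          have e1 := h1 i
          have e2 := h1' i
          simp only [Pi.add_apply, ind_cls]
          split_ifs <;> first | (exfalso; omega) | decide
        rw [this]
        exact Cfsg.golayCode.add_mem ha hb
      · have : cls (x + y) k = ∅ := by
          ext i
          rw [mem_cls]
          have e1 := h1 i
          have e2 := h1' i
          simp only [Pi.add_apply, Finset.notMem_empty, iff_false]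
          omega
        rw [this, ind_empty]
        exact Cfsg.golayCode.zero_mem

/-- `leechSet` as an additive subgroup. -/
def L : AddSubgroup (Cfsg.GolayPt → ℤ) where
  carrier := Cfsg.leechSet
  zero_mem' := zero_mem
  add_mem' := add_mem
  neg_mem' := neg_mem

theorem lattice_eq : Cfsg.leechLattice = L := by
  unfold Cfsg.leechLattice
  exact AddSubgroup.closure_eq L

theorem mem_lattice (x : Cfsg.GolayPt → ℤ) : x ∈ Cfsg.leechLattice ↔ x ∈ Cfsg.leechSet := by
  rw [lattice_eq]
  rfl

theorem sum_ind (S : Finset Cfsg.GolayPt) (c : ℤ) :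
    ∑ i, (if i ∈ S then c else 0) = S.card * c := by
  rw [← Finset.sum_filter]
  simp

theorem sq_ge (a c : ℤ) (h : c ≤ a ∨ a ≤ -c) (hc : 0 ≤ c) : c ^ 2 ≤ a ^ 2 := by
  rcases h with h | h <;> nlinarith

theorem card_cls (x : Cfsg.GolayPt → ℤ) (k : ℤ) (h : ind (cls x k) ∈ Cfsg.golayCode) :
    (cls x k).card = 0 ∨ (cls x k).card = 8 ∨ (cls x k).card = 12 ∨ (cls x k).card = 16 ∨
      (cls x k).card = 24 := by
  have := norm_mem _ h
  rw [hammingNorm_eq, supp_ind] at this
  exact this

/-- The minimal squared length is 32. -/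
theorem min_norm {x : Cfsg.GolayPt → ℤ} (hx : x ∈ Cfsg.leechLattice) (hx0 : x ≠ 0) :
    32 ≤ Cfsg.sqNorm x := by
  classical
  rw [mem_lattice, mem_leechSet] at hx
  obtain ⟨m, h1, h2, h3⟩ := hx
  unfold Cfsg.sqNorm
  have hcard : (Finset.univ : Finset Cfsg.GolayPt).card = 24 := by
    rw [Finset.card_univ, card_pts]
  rcases Int.emod_two_eq_zero_or_one m with hm | hm
  · -- even coordinates
    have hc := card_cls x 2 (h3 2)
    have hge : ∑ i, (if i ∈ cls x 2 then (4 : ℤ) else 0) ≤ ∑ i, x i ^ 2 := by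
      apply Finset.sum_le_sum
      intro i _
      split_ifs with hi
      · rw [mem_cls] at hi
        have := sq_ge (x i) 2 (by omega) (by norm_num)
        linarith
      · positivity
    rw [sum_ind] at hge
    rcases hc with hc | hc | hc | hc | hc
    · -- all coordinates divisible by 4
      have h4 : ∀ i, x i % 4 = 0 := by
        intro i
        have hi : i ∉ cls x 2 := by
          rw [Finset.card_eq_zero] at hc
          rw [hc]
          exact Finset.notMem_empty i
        rw [mem_cls] at hi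
        have := h1 i
        omega
      by_contra hlt
      push Not at hlt
      obtain ⟨j, hj⟩ : ∃ j, x j ≠ 0 := by
        by_contra hcon
        push Not at hcon
        exact hx0 (funext hcon)
      have hj16 : 16 ≤ x j ^ 2 := by
        have := sq_ge (x j) 4 (by have := h4 j; omega) (by norm_num)
        linarith
      have hothers : ∀ i, i ≠ j → x i = 0 := by
        intro i hij
        by_contra hi0
        have hi16 : 16 ≤ x i ^ 2 := by
          have := sq_ge (x i) 4 (by have := h4 i; omega) (by norm_num)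
          linarith
        have hpair : ∑ k ∈ ({i, j} : Finset Cfsg.GolayPt), x k ^ 2 ≤ ∑ k, x k ^ 2 :=
          Finset.sum_le_sum_of_subset_of_nonneg (Finset.subset_univ _)
            (fun k _ _ => by positivity)
        rw [Finset.sum_pair hij] at hpair
        linarith
      have hsum : ∑ i, x i = x j :=
        Finset.sum_eq_single j (fun i _ hij => hothers i hij) (fun h => absurd (Finset.mem_univ j) h)
      have hle : x j ^ 2 ≤ ∑ i, x i ^ 2 :=
        Finset.single_le_sum (f := fun i => x i ^ 2) (fun i _ => by positivity) (Finset.mem_univ j)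
      rw [hsum] at h2
      have hlt' : x j ^ 2 < 32 := by linarith
      have hb1 : x j < 6 := by nlinarith
      have hb2 : -6 < x j := by nlinarith
      have := h4 j
      omega
    · rw [hc] at hge; push_cast at hge; linarith
    · rw [hc] at hge; push_cast at hge; linarith
    · rw [hc] at hge; push_cast at hge; linarith
    · rw [hc] at hge; push_cast at hge; linarith
  · -- odd coordinates
    have hodd : ∀ i, 1 ≤ x i ^ 2 := by
      intro i
      have := sq_ge (x i) 1 (by have := h1 i; omega) (by norm_num)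
      linarith
    by_cases hbig : ∃ j, x j ≠ 1 ∧ x j ≠ -1
    · obtain ⟨j, hj1, hj2⟩ := hbig
      have hj9 : 9 ≤ x j ^ 2 := by
        have := sq_ge (x j) 3 (by have := h1 j; omega) (by norm_num)
        linarith
      have hge : ∑ i, ((1 : ℤ) + if i ∈ ({j} : Finset Cfsg.GolayPt) then (8 : ℤ) else 0)
          ≤ ∑ i, x i ^ 2 := by
        apply Finset.sum_le_sum
        intro i _
        split_ifs with hi
        · rw [Finset.mem_singleton] at hi
          rw [hi]
          linarith
        · have := hodd i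
          linarith
      rw [Finset.sum_add_distrib, sum_ind, Finset.sum_const, hcard, Finset.card_singleton] at hge
      simp only [nsmul_eq_mul, Nat.cast_one, Nat.cast_ofNat, mul_one, one_mul] at hge
      linarith
    · exfalso
      push Not at hbig
      have hc := card_cls x 1 (h3 1)
      have hsum : ∑ i, x i = ∑ i, ((if i ∈ cls x 1 then (2 : ℤ) else 0) - 1) := by
        apply Finset.sum_congr rfl
        intro i _
        have hi := hbig i
        by_cases hx1 : x i = 1
        · rw [if_pos ((mem_cls x 1 i).mpr (by rw [hx1])), hx1]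
          norm_num
        · have hxm : x i = -1 := hi hx1
          rw [if_neg (fun h => by rw [mem_cls, hxm] at h; omega), hxm]
          norm_num
      rw [Finset.sum_sub_distrib, sum_ind, Finset.sum_const, hcard] at hsum
      simp only [nsmul_eq_mul, Nat.cast_ofNat, mul_one] at hsum
      rw [hsum] at h2
      rcases hc with hc | hc | hc | hc | hc <;> rw [hc] at h2 <;> omega

theorem sqNorm_sub (x y : Cfsg.GolayPt → ℤ) :
    Cfsg.sqNorm (x - y) = Cfsg.sqNorm x - 2 * Cfsg.dotInt x y + Cfsg.sqNorm y := by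
  unfold Cfsg.sqNorm Cfsg.dotInt
  rw [Finset.mul_sum, ← Finset.sum_sub_distrib, ← Finset.sum_add_distrib]
  apply Finset.sum_congr rfl
  intro i _
  simp only [Pi.sub_apply]
  ring

theorem sqNorm_add (x y : Cfsg.GolayPt → ℤ) :
    Cfsg.sqNorm (x + y) = Cfsg.sqNorm x + 2 * Cfsg.dotInt x y + Cfsg.sqNorm y := by
  unfold Cfsg.sqNorm Cfsg.dotInt
  rw [Finset.mul_sum, ← Finset.sum_add_distrib, ← Finset.sum_add_distrib]
  apply Finset.sum_congr rfl
  intro i _
  simp only [Pi.add_apply]
  ring

theorem sqNorm_two (z : Cfsg.GolayPt → ℤ) : Cfsg.sqNorm (z + z) = 4 * Cfsg.sqNorm z := by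
  unfold Cfsg.sqNorm
  rw [Finset.mul_sum]
  apply Finset.sum_congr rfl
  intro i _
  simp only [Pi.add_apply]
  ring

theorem sqNorm_neg (z : Cfsg.GolayPt → ℤ) : Cfsg.sqNorm (-z) = Cfsg.sqNorm z := by
  unfold Cfsg.sqNorm
  apply Finset.sum_congr rfl
  intro i _
  simp only [Pi.neg_apply]
  ring

/-- Two congruent short vectors that are neither equal nor opposite. -/
theorem key {x y z : Cfsg.GolayPt → ℤ} (hy : y ∈ Cfsg.leechLattice)
    (hz : z ∈ Cfsg.leechLattice) (hxy : x ≠ y) (hxy' : x ≠ -y) (hxn : Cfsg.sqNorm x ≤ 64)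
    (hyn : Cfsg.sqNorm y ≤ 64) (hc : x - y = z + z) :
    Cfsg.sqNorm x = 64 ∧ Cfsg.sqNorm y = 64 ∧ Cfsg.dotInt x y = 0 := by
  have hz0 : z ≠ 0 := by
    intro h
    rw [h, add_zero, sub_eq_zero] at hc
    exact hxy hc
  have hzy : z + y ∈ Cfsg.leechLattice := Cfsg.leechLattice.add_mem hz hy
  have hzy0 : z + y ≠ 0 := by
    intro h
    apply hxy'
    have h1 : x = z + z + y := by rw [← hc]; abel
    have h2 : z = -y := eq_neg_of_add_eq_zero_left h
    rw [h1, add_assoc, h, add_zero, h2]
  have e1 : Cfsg.sqNorm (x - y) = 4 * Cfsg.sqNorm z := by rw [hc, sqNorm_two]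
  have e2 : Cfsg.sqNorm (x + y) = 4 * Cfsg.sqNorm (z + y) := by
    have : x + y = (z + y) + (z + y) := by
      have h1 : x = z + z + y := by rw [← hc]; abel
      rw [h1]; abel
    rw [this, sqNorm_two]
  have m1 := min_norm hz hz0
  have m2 := min_norm hzy hzy0
  rw [sqNorm_sub] at e1
  rw [sqNorm_add] at e2
  refine ⟨by linarith, by linarith, by linarith⟩

end Cfsg.Agent.Lib.Helper9.Leech
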