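import Mathlib
import Cfsg.Prelude.Def_Sporadic_a
import Cfsg.Prelude.Def_Spor_Conway
import Cfsg.Agent.Lib.Helper9.Golay
import Cfsg.Agent.Lib.Helper9.GolayC
import Cfsg.Agent.Lib.Helper9.Leech

set_option autoImplicit false

/-! A lattice automorphism whose square is negation (a signed coordinate permutation), and
the non-splitting of the automorphism group over `⟨-1⟩`. -/

namespace Cfsg.Agent.Lib.Helper9.LeechNeg

open Cfsg.Agent.Lib.Helper9.Golay Cfsg.Agent.Lib.Helper9.GolayC Cfsg.Agent.Lib.Helper9.Leech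

/-- Coordinates in the basis `LB` of the images of the translates under `x ↦ -1/x`. -/
def PT : List ℕ := [2049, 1392, 738, 1469, 823, 2561, 1594, 2414, 1684, 33, 2458, 2053, 1992,
  129, 3693, 2057, 1025, 2065, 735, 2113, 2305, 3527, 2051]

set_option maxRecDepth 100000 in
theorem qr_proj : ∀ t : ZMod 23, ∀ p : Cfsg.GolayPt,
    Cfsg.qrWord t (Cfsg.projInv p) = dec (lin LB (PT.getD t.val 0)) p := by
  decide +kernel

theorem proj_invol : ∀ p : Cfsg.GolayPt, Cfsg.projInv (Cfsg.projInv p) = p := by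
  decide +kernel

set_option maxRecDepth 100000 in
theorem d_proj : ∀ p : Cfsg.GolayPt,
    Cfsg.qrWord 0 (Cfsg.projInv p) = 1 + Cfsg.qrWord 0 p := by
  decide +kernel

/-- The coordinate permutation `x ↦ -1/x` preserves the code. -/
theorem comp_mem (w : Cfsg.GolayPt → ZMod 2) (hw : w ∈ Cfsg.golayCode) :
    (fun p => w (Cfsg.projInv p)) ∈ Cfsg.golayCode := by
  unfold Cfsg.golayCode at hw
  induction hw using Submodule.span_induction with
  | mem w hw =>
    rcases hw with ⟨t, rfl⟩ | hw
    · have : (fun p => Cfsg.qrWord t (Cfsg.projInv p)) = dec (lin LB (PT.getD t.val 0)) := by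
        funext p
        exact qr_proj t p
      rw [this]
      exact lin_mem_golay _
    · rw [Set.mem_singleton_iff] at hw
      rw [hw]
      exact one_mem
  | zero => exact Cfsg.golayCode.zero_mem
  | add x y _ _ hx hy => exact Cfsg.golayCode.add_mem hx hy
  | smul a x _ hx => exact Cfsg.golayCode.smul_mem a hx

/-- The sign: `-1` on the dodecad of squares. -/
def sg (i : Cfsg.GolayPt) : ℤ := if Cfsg.qrWord 0 i = 1 then -1 else 1

theorem sg_mul (i : Cfsg.GolayPt) : sg i * sg (Cfsg.projInv i) = -1 := by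
  unfold sg
  rw [d_proj]
  have : ∀ a : ZMod 2, (if a = 1 then (-1 : ℤ) else 1) * (if 1 + a = 1 then -1 else 1) = -1 := by
    decide
  exact this _

theorem sg_cases (i : Cfsg.GolayPt) : sg i = 1 ∨ sg i = -1 := by
  unfold sg
  split_ifs
  · exact Or.inr rfl
  · exact Or.inl rfl

/-- The signed permutation. -/
def G (y : Cfsg.GolayPt → ℤ) : Cfsg.GolayPt → ℤ := fun i => sg i * y (Cfsg.projInv i)

theorem G_G (y : Cfsg.GolayPt → ℤ) : G (G y) = -y := by
  funext i
  show sg i * (sg (Cfsg.projInv i) * y (Cfsg.projInv (Cfsg.projInv i))) = -(y i)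
  rw [proj_invol, ← mul_assoc, sg_mul, neg_one_mul]

theorem G_add (x y : Cfsg.GolayPt → ℤ) : G (x + y) = G x + G y := by
  funext i
  simp only [G, Pi.add_apply, mul_add]

theorem G_neg (y : Cfsg.GolayPt → ℤ) : G (-y) = -G y := by
  funext i
  simp only [G, Pi.neg_apply, mul_neg]

theorem sqNorm_G (y : Cfsg.GolayPt → ℤ) : Cfsg.sqNorm (G y) = Cfsg.sqNorm y := by
  unfold Cfsg.sqNorm
  rw [← Equiv.sum_comp Cfsg.projInv (fun i => y i ^ 2)]
  apply Finset.sum_congr rfl
  intro i _
  simp only [G]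
  rcases sg_cases i with h | h <;> rw [h] <;> ring

theorem norm_mod4 (w : Cfsg.GolayPt → ZMod 2) (hw : w ∈ Cfsg.golayCode) :
    hammingNorm w % 4 = 0 := by
  rcases norm_mem w hw with h | h | h | h | h <;> omega

theorem even_inter (c c' : Cfsg.GolayPt → ZMod 2) (hc : c ∈ Cfsg.golayCode)
    (hc' : c' ∈ Cfsg.golayCode) : (supp c ∩ supp c').card % 2 = 0 := by
  have h1 := norm_add c c'
  have h2 := norm_mod4 c hc
  have h3 := norm_mod4 c' hc'
  have h4 := norm_mod4 (c + c') (Cfsg.golayCode.add_mem hc hc')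
  omega

theorem sum_supp_mod4 (y : Cfsg.GolayPt → ℤ) (hy : y ∈ Cfsg.leechSet)
    (c : Cfsg.GolayPt → ZMod 2) (hc : c ∈ Cfsg.golayCode) :
    (∑ j ∈ supp c, y j) % 4 = 0 := by
  classical
  rw [mem_leechSet] at hy
  obtain ⟨m, h1, -, h3⟩ := hy
  have e : ∑ j ∈ supp c, y j = ∑ j ∈ supp c, (y j - (m + 2) + (if j ∈ cls y m then 2 else 0))
      + ((supp c).card : ℤ) * (m + 2) - 2 * ((supp c ∩ cls y m).card : ℤ) := by
    rw [Finset.sum_add_distrib, Finset.sum_sub_distrib, Finset.sum_const, Finset.sum_ite_mem,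
      Finset.sum_const]
    simp only [nsmul_eq_mul]
    ring
  rw [e]
  apply Int.emod_eq_zero_of_dvd
  apply dvd_sub
  · apply dvd_add
    · apply Finset.dvd_sum
      intro j _
      have := h1 j
      by_cases hj : j ∈ cls y m
      · rw [if_pos hj]
        rw [mem_cls] at hj
        omega
      · rw [if_neg hj]
        rw [mem_cls] at hj
        omega
    · apply Dvd.dvd.mul_right
      have := norm_mod4 c hc
      rw [hammingNorm_eq] at this
      omega
  · have h5 := even_inter c (ind (cls y m)) hc (h3 m)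
    rw [supp_ind] at h5
    omega

theorem G_mem (y : Cfsg.GolayPt → ℤ) (hy : y ∈ Cfsg.leechSet) : G y ∈ Cfsg.leechSet := by
  classical
  have hy' := hy
  rw [mem_leechSet] at hy ⊢
  obtain ⟨m, h1, h2, h3⟩ := hy
  have two : ∀ a : ZMod 2, a = 0 ∨ a = 1 := by decide
  refine ⟨m, fun i => ?_, ?_, fun k => ?_⟩
  · have := h1 (Cfsg.projInv i)
    simp only [G]
    rcases sg_cases i with h | h <;> rw [h] <;> omega
  · -- the coordinate sum
    have hcm : (fun j => Cfsg.qrWord 0 (Cfsg.projInv j)) ∈ Cfsg.golayCode :=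
      comp_mem _ (qr_mem 0)
    have hS := sum_supp_mod4 y hy' _ hcm
    have e1 : ∑ i, G y i = ∑ i, y (Cfsg.projInv i)
        - 2 * ∑ i, (if i ∈ supp (Cfsg.qrWord 0) then y (Cfsg.projInv i) else 0) := by
      rw [Finset.mul_sum, ← Finset.sum_sub_distrib]
      apply Finset.sum_congr rfl
      intro i _
      simp only [G, sg]
      by_cases hi : i ∈ supp (Cfsg.qrWord 0)
      · rw [if_pos hi, if_pos ((mem_supp' _ _).mp hi)]
        ring
      · rw [if_neg hi, if_neg (fun h => hi ((mem_supp' _ _).mpr h))]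
        ring
    have e2 : ∑ i, y (Cfsg.projInv i) = ∑ i, y i := Equiv.sum_comp Cfsg.projInv y
    have e3 : ∑ i, (if i ∈ supp (Cfsg.qrWord 0) then y (Cfsg.projInv i) else 0)
        = ∑ j ∈ supp (fun j => Cfsg.qrWord 0 (Cfsg.projInv j)), y j := by
      rw [← Equiv.sum_comp Cfsg.projInv
        (fun i => if i ∈ supp (Cfsg.qrWord 0) then y (Cfsg.projInv i) else 0)]
      rw [← Finset.sum_filter]
      apply Finset.sum_congr
      · ext j
        rw [Finset.mem_filter, mem_supp, mem_supp]
        simp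
      · intro j _
        rw [proj_invol]
    rw [e1, e2, e3]
    omega
  · -- the residue classes
    have ha : (fun i => ind (cls y k) (Cfsg.projInv i)) ∈ Cfsg.golayCode := comp_mem _ (h3 k)
    by_cases hkm : k % 2 = m % 2
    · rcases Int.emod_two_eq_zero_or_one m with hm | hm
      · have : ind (cls (G y) k) = fun i => ind (cls y k) (Cfsg.projInv i) := by
          funext i
          rw [ind_cls, ind_cls]
          apply if_congr _ rfl rfl
          have := h1 (Cfsg.projInv i)
          have hG : G y i = sg i * y (Cfsg.projInv i) := rfl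
          rcases sg_cases i with h | h <;> rw [h] at hG <;> rw [hG] <;> constructor <;> intro _ <;> omega
        rw [this]
        exact ha
      · have : ind (cls (G y) k) = (fun i => ind (cls y k) (Cfsg.projInv i)) + Cfsg.qrWord 0 := by
          funext i
          rw [Pi.add_apply]
          have := h1 (Cfsg.projInv i)
          have hG : G y i = sg i * y (Cfsg.projInv i) := rfl
          rcases two (Cfsg.qrWord 0 i) with hd | hd
          · have hs : sg i = 1 := by
              unfold sg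
              rw [hd, if_neg (by decide)]
            rw [hs, one_mul] at hG
            rw [hd, add_zero, ind_cls, ind_cls]
            apply if_congr _ rfl rfl
            rw [hG]
          · have hs : sg i = -1 := by
              unfold sg
              rw [hd, if_pos rfl]
            rw [hs] at hG
            rw [hd, ind_cls, ind_cls]
            by_cases hc : y (Cfsg.projInv i) % 4 = k % 4
            · rw [if_pos hc, if_neg (by rw [hG]; omega)]
              decide
            · rw [if_neg hc, if_pos (by rw [hG]; omega)]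
              decide
        rw [this]
        exact Cfsg.golayCode.add_mem ha (qr_mem 0)
    · have : cls (G y) k = ∅ := by
        ext i
        rw [mem_cls]
        have := h1 (Cfsg.projInv i)
        simp only [G, Finset.notMem_empty, iff_false]
        rcases sg_cases i with h | h <;> rw [h] <;> omega
      rw [this, ind_empty]
      exact Cfsg.golayCode.zero_mem

theorem G_mem_lattice (v : Cfsg.GolayPt → ℤ) (hv : v ∈ Cfsg.leechLattice) :
    G v ∈ Cfsg.leechLattice :=
  (mem_lattice _).mpr (G_mem v ((mem_lattice _).mp hv))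

/-- The signed permutation as a permutation of the lattice. -/
def gEquiv : Equiv.Perm ↥Cfsg.leechLattice where
  toFun v := ⟨G v.1, G_mem_lattice v.1 v.2⟩
  invFun v := ⟨-(G v.1), Cfsg.leechLattice.neg_mem (G_mem_lattice v.1 v.2)⟩
  left_inv v := Subtype.ext (show -(G (G v.1)) = v.1 by rw [G_G, neg_neg])
  right_inv v := Subtype.ext (show G (-(G v.1)) = v.1 by rw [G_neg, G_G, neg_neg])

theorem g_mem_Co0 : gEquiv ∈ Cfsg.Co0 :=
  ⟨fun v w => Subtype.ext (G_add v.1 w.1), fun v => sqNorm_G v.1⟩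

theorem neg_mem_Co0 : Equiv.neg ↥Cfsg.leechLattice ∈ Cfsg.Co0 :=
  ⟨fun v w => neg_add v w, fun v => sqNorm_neg v.1⟩

theorem main : ∃ n : ↥Cfsg.Co0,
    (∀ v : ↥Cfsg.leechLattice,
      ((n • v : ↥Cfsg.leechLattice) : Cfsg.GolayPt → ℤ) = -(v : Cfsg.GolayPt → ℤ)) ∧
    ∀ K : Subgroup ↥Cfsg.Co0, ¬ (Subgroup.zpowers n).IsComplement' K := by
  obtain ⟨n, hn⟩ : ∃ n : ↥Cfsg.Co0, n = ⟨Equiv.neg ↥Cfsg.leechLattice, neg_mem_Co0⟩ := ⟨_, rfl⟩
  obtain ⟨g, hg⟩ : ∃ g : ↥Cfsg.Co0, g = ⟨gEquiv, g_mem_Co0⟩ := ⟨_, rfl⟩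
  have hnv : ∀ v : ↥Cfsg.leechLattice, n • v = -v := by
    intro v
    rw [hn]
    rfl
  have hgg : g * g = n := by
    rw [hn, hg]
    apply Subtype.ext
    apply Equiv.ext
    intro v
    exact Subtype.ext (G_G v.1)
  have hnn : n * n = 1 := by
    rw [hn]
    apply Subtype.ext
    apply Equiv.ext
    intro v
    exact neg_neg v
  have hn1 : n ≠ 1 := by
    intro h
    have h1 := hnv Cfsg.Spor.leechU
    rw [h, one_smul] at h1
    have h2 := congrArg (fun w : ↥Cfsg.leechLattice => (w : Cfsg.GolayPt → ℤ) none) h1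
    have h3 : Cfsg.Spor.vecU none = -Cfsg.Spor.vecU none := h2
    have h4 : Cfsg.Spor.vecU none = 4 := by decide
    rw [h4] at h3
    omega
  have hcomm : ∀ f : ↥Cfsg.Co0, n * f = f * n := by
    intro f
    apply Subtype.ext
    apply Equiv.ext
    intro v
    show n • (f.1 v) = f.1 (n • v)
    rw [hnv, hnv]
    have hadd := f.2.1
    have h0 : f.1 0 = 0 := by
      have := hadd 0 0
      rw [add_zero] at this
      exact left_eq_add.mp this
    have h1 := hadd (-v) v
    rw [neg_add_cancel, h0] at h1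
    exact (eq_neg_of_add_eq_zero_left h1.symm).symm
  refine ⟨n, fun v => by rw [hnv]; rfl, ?_⟩
  intro K hK
  obtain ⟨⟨⟨h, hh⟩, ⟨k, hk⟩⟩, hhk⟩ := hK.2 g
  have hhk' : h * k = g := hhk
  have hh' : h = 1 ∨ h = n := by
    rw [SetLike.mem_coe, Subgroup.mem_zpowers_iff] at hh
    obtain ⟨j, rfl⟩ := hh
    have hn2 : n ^ (2 : ℤ) = 1 := by rw [zpow_two, hnn]
    rcases Int.emod_two_eq_zero_or_one j with hj | hj
    · left
      have : j = 2 * (j / 2) := by omega
      rw [this, zpow_mul, hn2, one_zpow]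
    · right
      have : j = 2 * (j / 2) + 1 := by omega
      rw [this, zpow_add_one, zpow_mul, hn2, one_zpow, one_mul]
  have hkk : k * k = n := by
    rcases hh' with rfl | rfl
    · rw [one_mul] at hhk'
      rw [hhk', hgg]
    · rw [← hgg, ← hhk']
      calc k * k = (h * h) * (k * k) := by rw [hnn, one_mul]
        _ = h * (h * k) * k := by simp only [mul_assoc]
        _ = h * (k * h) * k := by rw [hcomm k]
        _ = h * k * (h * k) := by simp only [mul_assoc]
  have hnK : n ∈ K := by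
    rw [← hkk]
    exact K.mul_mem hk hk
  have hinj := hK.1
  have heq : (fun x : (↑(Subgroup.zpowers n) : Set ↥Cfsg.Co0) × (↑K : Set ↥Cfsg.Co0) =>
      x.1.1 * x.2.1) (⟨n, Subgroup.mem_zpowers n⟩, ⟨1, K.one_mem⟩)
      = (fun x : (↑(Subgroup.zpowers n) : Set ↥Cfsg.Co0) × (↑K : Set ↥Cfsg.Co0) =>
      x.1.1 * x.2.1) (⟨1, (Subgroup.zpowers n).one_mem⟩, ⟨n, hnK⟩) := by
    show n * 1 = 1 * n
    rw [mul_one, one_mul]
  have h2 := hinj heq
  have h3 := congrArg (fun x : (↑(Subgroup.zpowers n) : Set ↥Cfsg.Co0) × (↑K : Set ↥Cfsg.Co0) =>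
      (x.1.1 : ↥Cfsg.Co0)) h2
  exact hn1 h3

end Cfsg.Agent.Lib.Helper9.LeechNeg
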