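import Mathlib
import Cfsg.Prelude.Def_Sporadic_a
import Cfsg.Agent.Lib.Helper9.Golay
import Cfsg.Agent.Lib.Helper9.GolayC

set_option autoImplicit false

/-! Octads of the concrete code: intersections, pencils through a 4-set. -/

namespace Cfsg.Agent.Lib.Helper9.Octad

open Cfsg.Agent.Lib.Helper9.Golay Cfsg.Agent.Lib.Helper9.GolayC

theorem mem_octads (o : Finset Cfsg.GolayPt) :
    o ∈ Cfsg.octads ↔ ind o ∈ Cfsg.golayCode ∧ o.card = 8 := by
  constructor
  · rintro ⟨⟨c, hc, rfl⟩, h8⟩
    have : ind (Cfsg.support₂ c) = c := ind_supp c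
    exact ⟨by rw [this]; exact hc, h8⟩
  · rintro ⟨hc, h8⟩
    exact ⟨⟨ind o, hc, supp_ind o⟩, h8⟩

theorem norm_ind (o : Finset Cfsg.GolayPt) : hammingNorm (ind o) = o.card := by
  rw [hammingNorm_eq, supp_ind]

theorem ind_add (o o' : Finset Cfsg.GolayPt) : ind o + ind o' = ind (symmDiff o o') := by
  rw [← ind_supp (ind o + ind o'), supp_add, supp_ind, supp_ind]

theorem inter_cases {o o' : Finset Cfsg.GolayPt} (ho : o ∈ Cfsg.octads) (ho' : o' ∈ Cfsg.octads) :
    (o ∩ o').card = 0 ∨ (o ∩ o').card = 2 ∨ (o ∩ o').card = 4 ∨ o = o' := by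
  rw [mem_octads] at ho ho'
  have h1 := norm_add (ind o) (ind o')
  rw [supp_ind, supp_ind, norm_ind, norm_ind, ho.2, ho'.2] at h1
  have h2 := norm_mem _ (Cfsg.golayCode.add_mem ho.1 ho'.1)
  rcases h2 with h | h | h | h | h
  · right; right; right
    have h8 : (o ∩ o').card = 8 := by omega
    have h3 : o ∩ o' = o :=
      Finset.eq_of_subset_of_card_le Finset.inter_subset_left (by rw [h8, ho.2])
    have h4 : o ⊆ o' := by
      rw [← h3]
      exact Finset.inter_subset_right
    exact Finset.eq_of_subset_of_card_le h4 (by rw [ho.2, ho'.2])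
  · right; right; left; omega
  · right; left; omega
  · left; omega
  · omega

theorem symmDiff_mem {o o' : Finset Cfsg.GolayPt} (ho : o ∈ Cfsg.octads) (ho' : o' ∈ Cfsg.octads)
    (h4 : (o ∩ o').card = 4) : symmDiff o o' ∈ Cfsg.octads := by
  rw [mem_octads] at ho ho' ⊢
  refine ⟨?_, ?_⟩
  · rw [← ind_add]
    exact Cfsg.golayCode.add_mem ho.1 ho'.1
  · have := card_symmDiff_add o o'
    omega

theorem exists_octad5 (F : Finset Cfsg.GolayPt) (hF : F.card = 5) :
    ∃ o ∈ Cfsg.octads, F ⊆ o := by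
  obtain ⟨c, hc, h8, hFc⟩ := exists_octad Cfsg.golayCode min_weight card_pts finrank_golay F hF
  refine ⟨supp c, ?_, hFc⟩
  rw [mem_octads, ind_supp, ← hammingNorm_eq]
  exact ⟨hc, h8⟩

theorem pencil_inter {T q q' : Finset Cfsg.GolayPt} (hT : T.card = 4) (hq : q ∈ Cfsg.octads)
    (hq' : q' ∈ Cfsg.octads) (hne : q ≠ q') (hTq : T ⊆ q) (hTq' : T ⊆ q') : q ∩ q' = T := by
  have hsub : T ⊆ q ∩ q' := Finset.subset_inter hTq hTq'
  have hle := Finset.card_le_card hsub
  symm
  apply Finset.eq_of_subset_of_card_le hsub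
  rcases inter_cases hq hq' with h | h | h | h
  · omega
  · omega
  · omega
  · exact absurd h hne

open Classical in
/-- The octads through a given set. -/
noncomputable def pencil (T : Finset Cfsg.GolayPt) : Finset (Finset Cfsg.GolayPt) :=
  Finset.univ.filter (fun q => q ∈ Cfsg.octads ∧ T ⊆ q)

theorem mem_pencil (T q : Finset Cfsg.GolayPt) : q ∈ pencil T ↔ q ∈ Cfsg.octads ∧ T ⊆ q := by
  classical
  simp [pencil]

theorem pencil_cover (T : Finset Cfsg.GolayPt) (hT : T.card = 4) (x : Cfsg.GolayPt) :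
    ∃ q ∈ pencil T, x ∈ q := by
  by_cases hx : x ∈ T
  · obtain ⟨y, hy⟩ : ∃ y, y ∉ T := by
      by_contra hcon
      push Not at hcon
      have : T = Finset.univ := Finset.eq_univ_iff_forall.mpr hcon
      rw [this, Finset.card_univ, card_pts] at hT
      omega
    obtain ⟨o, ho, hFo⟩ := exists_octad5 (insert y T) (by rw [Finset.card_insert_of_notMem hy, hT])
    have hTo : T ⊆ o := (Finset.subset_insert y T).trans hFo
    exact ⟨o, (mem_pencil T o).mpr ⟨ho, hTo⟩, hTo hx⟩
  · obtain ⟨o, ho, hFo⟩ := exists_octad5 (insert x T) (by rw [Finset.card_insert_of_notMem hx, hT])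
    have hTo : T ⊆ o := (Finset.subset_insert x T).trans hFo
    exact ⟨o, (mem_pencil T o).mpr ⟨ho, hTo⟩, hFo (Finset.mem_insert_self x T)⟩

theorem pencil_sum (T : Finset Cfsg.GolayPt) (hT : T.card = 4) (S : Finset Cfsg.GolayPt)
    (hS : Disjoint T S) : ∑ q ∈ pencil T, (q ∩ S).card = S.card := by
  classical
  rw [← Finset.card_biUnion]
  · congr 1
    ext x
    rw [Finset.mem_biUnion]
    constructor
    · rintro ⟨q, -, hx⟩
      exact (Finset.mem_inter.mp hx).2
    · intro hx
      obtain ⟨q, hq, hxq⟩ := pencil_cover T hT x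
      exact ⟨q, hq, Finset.mem_inter.mpr ⟨hxq, hx⟩⟩
  · intro q hq q' hq' hne
    show Disjoint (q ∩ S) (q' ∩ S)
    rw [Finset.mem_coe, mem_pencil] at hq hq'
    rw [Finset.disjoint_left]
    intro x hx hx'
    have hxT : x ∈ T := by
      rw [← pencil_inter hT hq.1 hq'.1 hne hq.2 hq'.2]
      exact Finset.mem_inter.mpr ⟨(Finset.mem_inter.mp hx).1, (Finset.mem_inter.mp hx').1⟩
    exact (Finset.disjoint_left.mp hS) hxT (Finset.mem_inter.mp hx).2

theorem pencil_card (T : Finset Cfsg.GolayPt) (hT : T.card = 4) : (pencil T).card = 5 := by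
  have h := pencil_sum T hT Tᶜ disjoint_compl_right
  have h2 : ∀ q ∈ pencil T, (q ∩ Tᶜ).card = 4 := by
    intro q hq
    rw [mem_pencil, mem_octads] at hq
    have h3 : q ∩ Tᶜ = q \ T := by
      ext x
      simp
    rw [h3, Finset.card_sdiff_of_subset hq.2, hq.1.2, hT]
  rw [Finset.sum_congr rfl h2, Finset.sum_const, Finset.card_compl, card_pts, hT, smul_eq_mul] at h
  omega

/-- Two octads meeting in four points have a common disjoint octad. -/
theorem adj2 {o o' : Finset Cfsg.GolayPt} (ho : o ∈ Cfsg.octads) (ho' : o' ∈ Cfsg.octads)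
    (h4 : (o ∩ o').card = 4) : ∃ q ∈ Cfsg.octads, Disjoint o q ∧ Disjoint q o' := by
  classical
  have hne : o ≠ o' := by
    intro h
    rw [h, Finset.inter_self, ((mem_octads o').mp ho').2] at h4
    omega
  have hoP : o ∈ pencil (o ∩ o') := (mem_pencil _ _).mpr ⟨ho, Finset.inter_subset_left⟩
  have ho'P : o' ∈ pencil (o ∩ o') := (mem_pencil _ _).mpr ⟨ho', Finset.inter_subset_right⟩
  have hcard : (((pencil (o ∩ o')).erase o).erase o').card = 3 := by
    rw [Finset.card_erase_of_mem (Finset.mem_erase.mpr ⟨hne.symm, ho'P⟩),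
      Finset.card_erase_of_mem hoP, pencil_card _ h4]
  obtain ⟨q4, hq4, q5, hq5, hq45⟩ := Finset.one_lt_card.mp (by rw [hcard]; norm_num :
    1 < (((pencil (o ∩ o')).erase o).erase o').card)
  rw [Finset.mem_erase, Finset.mem_erase, mem_pencil] at hq4 hq5
  obtain ⟨hq4o', hq4o, hq4O, hq4T⟩ := hq4
  obtain ⟨hq5o', hq5o, hq5O, hq5T⟩ := hq5
  have e45 := pencil_inter h4 hq4O hq5O hq45 hq4T hq5T
  have e4o := pencil_inter h4 hq4O ho hq4o hq4T Finset.inter_subset_left
  have e5o := pencil_inter h4 hq5O ho hq5o hq5T Finset.inter_subset_left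
  have e4o' := pencil_inter h4 hq4O ho' hq4o' hq4T Finset.inter_subset_right
  have e5o' := pencil_inter h4 hq5O ho' hq5o' hq5T Finset.inter_subset_right
  refine ⟨symmDiff q4 q5, symmDiff_mem hq4O hq5O (by rw [e45]; exact h4), ?_, ?_⟩
  · rw [Finset.disjoint_left]
    intro x hxo hx
    rw [Finset.mem_symmDiff] at hx
    rcases hx with ⟨hx4, hx5⟩ | ⟨hx5, hx4⟩
    · have : x ∈ q4 ∩ o := Finset.mem_inter.mpr ⟨hx4, hxo⟩
      rw [e4o] at this
      exact hx5 (hq5T this)
    · have : x ∈ q5 ∩ o := Finset.mem_inter.mpr ⟨hx5, hxo⟩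
      rw [e5o] at this
      exact hx4 (hq4T this)
  · rw [Finset.disjoint_left]
    intro x hx hxo
    rw [Finset.mem_symmDiff] at hx
    rcases hx with ⟨hx4, hx5⟩ | ⟨hx5, hx4⟩
    · have : x ∈ q4 ∩ o' := Finset.mem_inter.mpr ⟨hx4, hxo⟩
      rw [e4o'] at this
      exact hx5 (hq5T this)
    · have : x ∈ q5 ∩ o' := Finset.mem_inter.mpr ⟨hx5, hxo⟩
      rw [e5o'] at this
      exact hx4 (hq4T this)

/-- Two octads meeting in two points: some octad meets the first in four points and is disjoint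
from the second. -/
theorem adj3 {o o' : Finset Cfsg.GolayPt} (ho : o ∈ Cfsg.octads) (ho' : o' ∈ Cfsg.octads)
    (h2 : (o ∩ o').card = 2) : ∃ q ∈ Cfsg.octads, (o ∩ q).card = 4 ∧ Disjoint q o' := by
  classical
  have h6 : (o \ o').card = 6 := by
    have := Finset.card_sdiff_add_card_inter o o'
    rw [((mem_octads o).mp ho).2] at this
    omega
  obtain ⟨T, hTsub, hT⟩ := Finset.exists_subset_card_eq (s := o \ o') (n := 4) (by omega)
  have hTo : T ⊆ o := hTsub.trans Finset.sdiff_subset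
  have hTo' : Disjoint T o' := by
    rw [Finset.disjoint_left]
    intro x hx hxo'
    exact (Finset.mem_sdiff.mp (hTsub hx)).2 hxo'
  have hsum := pencil_sum T hT o' hTo'
  have hoP : o ∈ pencil T := (mem_pencil _ _).mpr ⟨ho, hTo⟩
  rw [← Finset.add_sum_erase _ _ hoP, h2, ((mem_octads o').mp ho').2] at hsum
  have hcard : ((pencil T).erase o).card = 4 := by
    rw [Finset.card_erase_of_mem hoP, pencil_card T hT]
  by_contra hcon
  push Not at hcon
  have hge : ∀ q ∈ (pencil T).erase o, 2 ≤ (q ∩ o').card := by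
    intro q hq
    rw [Finset.mem_erase, mem_pencil] at hq
    obtain ⟨hqo, hqO, hqT⟩ := hq
    have hnd : ¬ Disjoint q o' := by
      intro hd
      apply hcon q hqO _ hd
      rw [Finset.inter_comm, pencil_inter hT hqO ho hqo hqT hTo, hT]
    have hpos : 0 < (q ∩ o').card := by
      rw [Finset.card_pos]
      rw [Finset.disjoint_iff_inter_eq_empty] at hnd
      exact Finset.nonempty_iff_ne_empty.mpr hnd
    rcases inter_cases hqO ho' with h | h | h | h
    · omega
    · omega
    · omega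
    · exfalso
      obtain ⟨x, hx⟩ : T.Nonempty := by
        rw [← Finset.card_pos, hT]; norm_num
      exact (Finset.disjoint_left.mp hTo') hx (h ▸ hqT hx)
  have := Finset.card_nsmul_le_sum _ _ 2 hge
  rw [hcard, smul_eq_mul] at this
  omega

/-- No octad is disjoint from two octads meeting in two points. -/
theorem no_adj2 {o o' q : Finset Cfsg.GolayPt} (ho : o ∈ Cfsg.octads) (ho' : o' ∈ Cfsg.octads)
    (hq : q ∈ Cfsg.octads) (h2 : (o ∩ o').card = 2) (hqo : Disjoint q o) (hqo' : Disjoint q o') :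
    False := by
  rw [mem_octads] at ho ho' hq
  have hw : ind (symmDiff (symmDiff o o') q) ∈ Cfsg.golayCode := by
    rw [← ind_add, ← ind_add]
    exact Cfsg.golayCode.add_mem (Cfsg.golayCode.add_mem ho.1 ho'.1) hq.1
  have h12 : (symmDiff o o').card = 12 := by
    have := card_symmDiff_add o o'
    omega
  have h0 : (symmDiff o o' ∩ q).card = 0 := by
    rw [Finset.card_eq_zero, Finset.eq_empty_iff_forall_notMem]
    intro x hx
    rw [Finset.mem_inter, Finset.mem_symmDiff] at hx
    rcases hx.1 with ⟨h, -⟩ | ⟨h, -⟩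
    · exact (Finset.disjoint_left.mp hqo) hx.2 h
    · exact (Finset.disjoint_left.mp hqo') hx.2 h
  have h20 : (symmDiff (symmDiff o o') q).card = 20 := by
    have := card_symmDiff_add (symmDiff o o') q
    omega
  have := norm_mem _ hw
  rw [norm_ind, h20] at this
  omega

end Cfsg.Agent.Lib.Helper9.Octad
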