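import Mathlib
import Cfsg.Prelude.Def_Sporadic_a
import Cfsg.Agent.Lib.Helper9.GolayC
import Cfsg.Agent.Lib.Helper9.LeechNeg
import Cfsg.Agent.Lib.Helper9.Octad

set_option autoImplicit false

/-! The group of the length-24 code: membership criteria, the three generators, and a
kernel-checked family of transversal elements for a base of seven points. -/

namespace Cfsg.Agent.Lib.Helper9.M24C

open Cfsg.Agent.Lib.Helper9.Golay Cfsg.Agent.Lib.Helper9.GolayC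
open scoped Pointwise

theorem smul_supp (σ : Equiv.Perm Cfsg.GolayPt) (w : Cfsg.GolayPt → ZMod 2) :
    σ • Cfsg.support₂ w = Cfsg.support₂ (fun p => w (σ.symm p)) := by
  ext p
  rw [Finset.mem_smul_finset]
  simp only [Cfsg.support₂, Finset.mem_filter, Finset.mem_univ, true_and]
  constructor
  · rintro ⟨q, hq, rfl⟩
    simpa using hq
  · intro h
    exact ⟨σ.symm p, h, by simp⟩

theorem comp_pow (σ : Equiv.Perm Cfsg.GolayPt)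
    (h : ∀ w ∈ Cfsg.golayCode, (fun p => w (σ p)) ∈ Cfsg.golayCode) (k : ℕ) :
    ∀ w ∈ Cfsg.golayCode, (fun p => w ((σ ^ k) p)) ∈ Cfsg.golayCode := by
  induction k with
  | zero =>
    intro w hw
    simpa using hw
  | succ k ih =>
    intro w hw
    have := h _ (ih w hw)
    simpa [pow_succ, Equiv.Perm.mul_apply] using this

theorem comp_symm (σ : Equiv.Perm Cfsg.GolayPt)
    (h : ∀ w ∈ Cfsg.golayCode, (fun p => w (σ p)) ∈ Cfsg.golayCode) :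
    ∀ w ∈ Cfsg.golayCode, (fun p => w (σ.symm p)) ∈ Cfsg.golayCode := by
  intro w hw
  have hpos := orderOf_pos σ
  have h1 : σ ^ (orderOf σ - 1) = σ⁻¹ := by
    apply eq_inv_of_mul_eq_one_left
    rw [← pow_succ, Nat.sub_add_cancel hpos, pow_orderOf_eq_one]
  have h2 := comp_pow σ h (orderOf σ - 1) w hw
  rw [h1] at h2
  exact h2

/-- A permutation under which the code is closed lies in the group of the code. -/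
theorem mem_M24_of_comp (σ : Equiv.Perm Cfsg.GolayPt)
    (h : ∀ w ∈ Cfsg.golayCode, (fun p => w (σ p)) ∈ Cfsg.golayCode) : σ ∈ Cfsg.M24 := by
  have h' := comp_symm σ h
  rw [MulAction.mem_stabilizer_iff]
  apply Set.Subset.antisymm
  · rintro b ⟨_, ⟨w, hw, rfl⟩, rfl⟩
    exact ⟨_, h' w hw, (smul_supp σ w).symm⟩
  · rintro b ⟨u, hu, rfl⟩
    refine ⟨Cfsg.support₂ (fun p => u (σ p)), ⟨_, h u hu, rfl⟩, ?_⟩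
    show σ • Cfsg.support₂ (fun p => u (σ p)) = Cfsg.support₂ u
    rw [smul_supp]
    simp

theorem comp_mem_symm (σ : Equiv.Perm Cfsg.GolayPt) (hσ : σ ∈ Cfsg.M24)
    (w : Cfsg.GolayPt → ZMod 2) (hw : w ∈ Cfsg.golayCode) :
    (fun p => w (σ.symm p)) ∈ Cfsg.golayCode := by
  have h1 : σ • Cfsg.supports (Cfsg.golayCode : Set (Cfsg.GolayPt → ZMod 2)) =
      Cfsg.supports (Cfsg.golayCode : Set (Cfsg.GolayPt → ZMod 2)) := hσ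
  have h2 : σ • Cfsg.support₂ w ∈
      σ • Cfsg.supports (Cfsg.golayCode : Set (Cfsg.GolayPt → ZMod 2)) :=
    Set.smul_mem_smul_set ⟨w, hw, rfl⟩
  rw [h1, smul_supp] at h2
  obtain ⟨u, hu, hu2⟩ := h2
  have h3 : u = fun p => w (σ.symm p) := supp_injective hu2
  rw [← h3]
  exact hu

theorem comp_mem (σ : Equiv.Perm Cfsg.GolayPt) (hσ : σ ∈ Cfsg.M24)
    (w : Cfsg.GolayPt → ZMod 2) (hw : w ∈ Cfsg.golayCode) :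
    (fun p => w (σ p)) ∈ Cfsg.golayCode := by
  exact comp_mem_symm σ⁻¹ (inv_mem hσ) w hw

theorem mem_M24_iff (σ : Equiv.Perm Cfsg.GolayPt) :
    σ ∈ Cfsg.M24 ↔ ∀ w ∈ Cfsg.golayCode, (fun p => w (σ p)) ∈ Cfsg.golayCode :=
  ⟨fun h => comp_mem σ h, mem_M24_of_comp σ⟩

theorem comp_gen (σ : Equiv.Perm Cfsg.GolayPt)
    (h1 : ∀ t, (fun p => Cfsg.qrWord t (σ p)) ∈ Cfsg.golayCode) :
    ∀ w ∈ Cfsg.golayCode, (fun p => w (σ p)) ∈ Cfsg.golayCode := by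
  intro w hw
  unfold Cfsg.golayCode at hw
  induction hw using Submodule.span_induction with
  | mem w hw =>
    rcases hw with ⟨t, rfl⟩ | hw
    · exact h1 t
    · rw [Set.mem_singleton_iff] at hw
      rw [hw]
      exact one_mem
  | zero => exact Cfsg.golayCode.zero_mem
  | add x y _ _ hx hy => exact Cfsg.golayCode.add_mem hx hy
  | smul a x _ hx => exact Cfsg.golayCode.smul_mem a hx

/-- The shift `x ↦ x + 1`. -/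
def shift : Equiv.Perm Cfsg.GolayPt := Equiv.optionCongr (Equiv.addRight (1 : ZMod 23))

theorem shift_mem : shift ∈ Cfsg.M24 := by
  apply mem_M24_of_comp
  apply comp_gen
  intro t
  have : (fun p => Cfsg.qrWord t (shift p)) = Cfsg.qrWord (t - 1) := by
    funext p
    cases p with
    | none => rfl
    | some x =>
      show Cfsg.qrWord t (some (x + 1)) = Cfsg.qrWord (t - 1) (some x)
      simp only [Cfsg.qrWord]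
      apply if_congr _ rfl rfl
      apply exists_congr
      intro r
      constructor
      · intro h
        linear_combination h
      · intro h
        linear_combination h
  rw [this]
  exact qr_mem _

theorem mulsq_mem (u : (ZMod 23)ˣ) (hu : IsSquare u) :
    Equiv.optionCongr (Units.mulLeft u) ∈ Cfsg.M24 := by
  obtain ⟨v, rfl⟩ := hu
  apply mem_M24_of_comp
  apply comp_gen
  intro t
  have hv : ((v : ZMod 23)) * ((v⁻¹ : (ZMod 23)ˣ) : ZMod 23) = 1 := Units.mul_inv v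
  have : (fun p => Cfsg.qrWord t (Equiv.optionCongr (Units.mulLeft (v * v)) p)) =
      Cfsg.qrWord (((v⁻¹ : (ZMod 23)ˣ) : ZMod 23) * ((v⁻¹ : (ZMod 23)ˣ) : ZMod 23) * t) := by
    funext p
    cases p with
    | none => rfl
    | some x =>
      show Cfsg.qrWord t (some (((v * v : (ZMod 23)ˣ) : ZMod 23) * x)) = _
      simp only [Cfsg.qrWord, Units.val_mul]
      apply if_congr _ rfl rfl
      constructor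
      · rintro ⟨r, h⟩
        refine ⟨((v⁻¹ : (ZMod 23)ˣ) : ZMod 23) * r, ?_⟩
        linear_combination (((v⁻¹ : (ZMod 23)ˣ) : ZMod 23) * ((v⁻¹ : (ZMod 23)ˣ) : ZMod 23)) * h -
          (x * (1 + (v : ZMod 23) * ((v⁻¹ : (ZMod 23)ˣ) : ZMod 23))) * hv
      · rintro ⟨r, h⟩
        refine ⟨(v : ZMod 23) * r, ?_⟩
        linear_combination ((v : ZMod 23) * (v : ZMod 23)) * h +
          (t * (1 + (v : ZMod 23) * ((v⁻¹ : (ZMod 23)ˣ) : ZMod 23))) * hv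
  rw [this]
  exact qr_mem _

theorem projInv_mem : Cfsg.projInv ∈ Cfsg.M24 :=
  mem_M24_of_comp _ Cfsg.Agent.Lib.Helper9.LeechNeg.comp_mem

def TS : List ℕ := [1, 2, 3, 4, 5, 6, 7, 8, 9, 10, 11, 12, 13, 14, 15, 16, 17, 18, 19, 20, 21, 22, 0, 23]

def TJ : List ℕ := [23, 22, 11, 15, 17, 9, 19, 13, 20, 5, 16, 2, 21, 7, 18, 3, 10, 4, 14, 6, 8, 12, 1, 0]

def TC : List ℕ := [0, 18, 6, 3, 2, 21, 1, 5, 16, 12, 7, 19, 8, 9, 17, 15, 13, 11, 4, 22, 10, 20, 14, 23]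

def TT : List (List ℕ) := [TS, TJ, TC,
  [0, 1, 2, 3, 4, 5, 6, 7, 8, 9, 10, 11, 12, 13, 14, 15, 16, 17, 18, 19, 20, 21, 22, 23],
  [2, 3, 4, 5, 6, 7, 8, 9, 10, 11, 12, 13, 14, 15, 16, 17, 18, 19, 20, 21, 22, 0, 1, 23],
  [4, 5, 6, 7, 8, 9, 10, 11, 12, 13, 14, 15, 16, 17, 18, 19, 20, 21, 22, 0, 1, 2, 3, 23],
  [6, 7, 8, 9, 10, 11, 12, 13, 14, 15, 16, 17, 18, 19, 20, 21, 22, 0, 1, 2, 3, 4, 5, 23],
  [8, 9, 10, 11, 12, 13, 14, 15, 16, 17, 18, 19, 20, 21, 22, 0, 1, 2, 3, 4, 5, 6, 7, 23],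
  [16, 17, 18, 19, 20, 21, 22, 0, 1, 2, 3, 4, 5, 6, 7, 8, 9, 10, 11, 12, 13, 14, 15, 23],
  [22, 0, 1, 2, 3, 4, 5, 6, 7, 8, 9, 10, 11, 12, 13, 14, 15, 16, 17, 18, 19, 20, 21, 23],
  [0, 4, 1, 3, 6, 20, 18, 21, 13, 8, 5, 22, 16, 12, 11, 15, 9, 19, 2, 14, 7, 10, 17, 23],
  [0, 6, 4, 3, 18, 7, 2, 10, 12, 13, 20, 17, 9, 16, 22, 15, 8, 14, 1, 11, 21, 5, 19, 23],
  [23, 0, 12, 16, 18, 10, 20, 14, 21, 6, 17, 3, 22, 8, 19, 4, 11, 5, 15, 7, 9, 13, 2, 1],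
  [23, 21, 10, 14, 16, 8, 18, 12, 19, 4, 15, 1, 20, 6, 17, 2, 9, 3, 13, 5, 7, 11, 0, 22],
  [23, 1, 13, 17, 19, 11, 21, 15, 22, 7, 18, 4, 0, 9, 20, 5, 12, 6, 16, 8, 10, 14, 3, 2],
  [23, 0, 8, 13, 4, 7, 10, 17, 20, 1, 11, 3, 14, 16, 22, 2, 19, 21, 15, 5, 12, 9, 6, 18],
  [23, 0, 9, 8, 1, 20, 21, 22, 5, 2, 14, 3, 19, 12, 11, 18, 17, 7, 15, 10, 13, 16, 4, 6],
  [23, 20, 7, 17, 13, 16, 4, 8, 22, 2, 15, 18, 10, 1, 11, 6, 12, 3, 9, 21, 5, 19, 0, 14],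
  [23, 20, 9, 13, 15, 7, 17, 11, 18, 3, 14, 0, 19, 5, 16, 1, 8, 2, 12, 4, 6, 10, 22, 21],
  [23, 5, 20, 22, 8, 12, 1, 9, 11, 18, 15, 6, 21, 2, 14, 4, 13, 3, 16, 7, 10, 17, 0, 19],
  [23, 2, 14, 18, 20, 12, 22, 16, 0, 8, 19, 5, 1, 10, 21, 6, 13, 7, 17, 9, 11, 15, 4, 3],
  [0, 22, 7, 4, 6, 2, 12, 3, 1, 13, 14, 17, 23, 5, 8, 9, 21, 19, 10, 20, 16, 18, 15, 11],
  [23, 6, 16, 14, 11, 17, 5, 15, 19, 10, 1, 18, 0, 13, 21, 7, 9, 2, 8, 12, 20, 22, 3, 4],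
  [23, 22, 7, 12, 3, 6, 9, 16, 19, 0, 10, 2, 13, 15, 21, 1, 18, 20, 14, 4, 11, 8, 5, 17],
  [23, 1, 10, 9, 2, 21, 22, 0, 6, 3, 15, 4, 20, 13, 12, 19, 18, 8, 16, 11, 14, 17, 5, 7],
  [23, 22, 8, 7, 0, 19, 20, 21, 4, 1, 13, 2, 18, 11, 10, 17, 16, 6, 14, 9, 12, 15, 3, 5],
  [23, 21, 8, 18, 14, 17, 5, 9, 0, 3, 16, 19, 11, 2, 12, 7, 13, 4, 10, 22, 6, 20, 1, 15],
  [23, 19, 6, 16, 12, 15, 3, 7, 21, 1, 14, 17, 9, 0, 10, 5, 11, 2, 8, 20, 4, 18, 22, 13],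
  [0, 8, 5, 7, 3, 13, 4, 2, 14, 15, 18, 23, 6, 9, 10, 22, 20, 11, 21, 17, 19, 16, 1, 12],
  [23, 10, 12, 9, 15, 5, 11, 19, 4, 3, 17, 0, 22, 21, 13, 18, 16, 6, 8, 2, 1, 7, 14, 20],
  [22, 21, 6, 3, 5, 1, 11, 2, 0, 12, 13, 16, 23, 4, 7, 8, 20, 18, 9, 19, 15, 17, 14, 10],
  [23, 21, 6, 11, 2, 5, 8, 15, 18, 22, 9, 1, 12, 14, 20, 0, 17, 19, 13, 3, 10, 7, 4, 16],
  [23, 2, 11, 10, 3, 22, 0, 1, 7, 4, 16, 5, 21, 14, 13, 20, 19, 9, 17, 12, 15, 18, 6, 8],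
  [0, 1, 20, 13, 23, 6, 8, 12, 17, 22, 7, 11, 14, 2, 16, 4, 10, 19, 18, 5, 21, 3, 15, 9],
  [1, 23, 22, 11, 15, 17, 9, 19, 13, 20, 5, 16, 2, 21, 7, 18, 3, 10, 4, 14, 6, 8, 12, 0],
  [1, 9, 15, 11, 4, 19, 22, 5, 2, 21, 6, 10, 20, 3, 12, 18, 13, 7, 23, 16, 8, 17, 14, 0],
  [22, 11, 15, 17, 9, 19, 13, 20, 5, 16, 2, 21, 7, 18, 3, 10, 4, 14, 6, 8, 12, 1, 23, 0],
  [12, 1, 23, 22, 11, 15, 17, 9, 19, 13, 20, 5, 16, 2, 21, 7, 18, 3, 10, 4, 14, 6, 8, 0],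
  [12, 10, 17, 22, 23, 6, 1, 15, 18, 16, 9, 4, 19, 13, 3, 7, 2, 5, 11, 8, 20, 14, 21, 0],
  [23, 0, 16, 9, 2, 5, 7, 11, 10, 18, 19, 3, 17, 13, 14, 6, 22, 20, 15, 21, 8, 12, 1, 4],
  [0, 12, 2, 16, 17, 6, 15, 4, 9, 11, 8, 22, 5, 13, 3, 1, 21, 20, 7, 14, 18, 19, 10, 23],
  [11, 15, 17, 9, 19, 13, 20, 5, 16, 2, 21, 7, 18, 3, 10, 4, 14, 6, 8, 12, 1, 23, 22, 0],
  [1, 4, 9, 11, 22, 8, 23, 17, 3, 2, 19, 14, 13, 20, 10, 18, 21, 16, 15, 12, 5, 6, 7, 0],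
  [4, 9, 11, 22, 8, 23, 17, 3, 2, 19, 14, 13, 20, 10, 18, 21, 16, 15, 12, 5, 6, 7, 1, 0],
  [23, 21, 13, 16, 15, 10, 14, 17, 1, 3, 22, 0, 11, 7, 8, 6, 12, 4, 9, 18, 2, 20, 19, 5],
  [0, 7, 10, 16, 21, 14, 18, 15, 9, 22, 1, 4, 13, 3, 2, 17, 20, 8, 19, 12, 11, 6, 5, 23],
  [9, 15, 11, 4, 19, 22, 5, 2, 21, 6, 10, 20, 3, 12, 18, 13, 7, 23, 16, 8, 17, 14, 1, 0],
  [15, 11, 4, 19, 22, 5, 2, 21, 6, 10, 20, 3, 12, 18, 13, 7, 23, 16, 8, 17, 14, 1, 9, 0],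
  [1, 12, 19, 15, 9, 22, 2, 11, 23, 21, 7, 10, 0, 17, 13, 20, 8, 14, 5, 6, 3, 4, 18, 16],
  [11, 12, 17, 7, 10, 9, 4, 3, 0, 1, 21, 20, 15, 16, 18, 14, 6, 13, 5, 2, 19, 22, 8, 23],
  [8, 5, 7, 3, 13, 4, 2, 14, 15, 18, 23, 6, 9, 10, 22, 20, 11, 21, 17, 19, 16, 1, 0, 12],
  [1, 2, 21, 14, 23, 7, 9, 13, 18, 0, 8, 12, 15, 3, 17, 5, 11, 20, 19, 6, 22, 4, 16, 10],
  [5, 7, 1, 22, 12, 14, 18, 10, 17, 8, 15, 9, 20, 3, 21, 4, 6, 16, 19, 2, 0, 13, 11, 23],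
  [0, 1, 13, 21, 15, 19, 5, 10, 6, 23, 16, 11, 7, 3, 12, 22, 14, 8, 18, 17, 2, 20, 9, 4],
  [1, 22, 4, 11, 23, 5, 15, 6, 20, 3, 8, 7, 21, 13, 14, 18, 2, 12, 9, 10, 17, 19, 16, 0],
  [0, 15, 2, 14, 7, 12, 5, 18, 10, 8, 22, 9, 1, 13, 19, 6, 3, 4, 20, 21, 17, 16, 11, 23],
  [11, 8, 20, 9, 17, 23, 15, 13, 14, 18, 5, 12, 16, 2, 6, 4, 3, 7, 19, 22, 21, 1, 10, 0],
  [0, 10, 14, 13, 11, 22, 21, 1, 17, 8, 2, 20, 19, 12, 5, 7, 3, 15, 6, 18, 16, 4, 9, 23],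
  [12, 0, 6, 20, 21, 18, 19, 10, 16, 4, 11, 7, 1, 14, 17, 3, 23, 13, 22, 2, 15, 9, 5, 8],
  [8, 9, 19, 7, 6, 18, 16, 3, 22, 5, 4, 0, 1, 17, 15, 12, 13, 2, 14, 20, 11, 10, 21, 23],
  [9, 0, 1, 13, 21, 15, 19, 5, 10, 6, 23, 16, 11, 7, 3, 12, 22, 14, 8, 18, 17, 2, 20, 4],
  [20, 2, 19, 13, 15, 0, 16, 1, 9, 11, 7, 22, 4, 21, 5, 10, 17, 8, 6, 18, 12, 14, 3, 23],
  [12, 2, 16, 17, 6, 15, 4, 9, 11, 8, 22, 5, 13, 3, 1, 21, 20, 7, 14, 18, 19, 10, 0, 23],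
  [15, 2, 14, 7, 12, 5, 18, 10, 8, 22, 9, 1, 13, 19, 6, 3, 4, 20, 21, 17, 16, 11, 0, 23],
  [7, 10, 16, 21, 14, 18, 15, 9, 22, 1, 4, 13, 3, 2, 17, 20, 8, 19, 12, 11, 6, 5, 0, 23],
  [10, 14, 13, 11, 22, 21, 1, 17, 8, 2, 20, 19, 12, 5, 7, 3, 15, 6, 18, 16, 4, 9, 0, 23],
  [9, 19, 7, 6, 18, 16, 3, 22, 5, 4, 0, 1, 17, 15, 12, 13, 2, 14, 20, 11, 10, 21, 8, 23],
  [21, 22, 0, 1, 2, 3, 4, 5, 6, 7, 8, 9, 10, 11, 12, 13, 14, 15, 16, 17, 18, 19, 20, 23],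
  [3, 20, 2, 19, 13, 15, 0, 16, 1, 9, 11, 7, 22, 4, 21, 5, 10, 17, 8, 6, 18, 12, 14, 23],
  [4, 13, 8, 15, 1, 22, 21, 16, 0, 7, 6, 11, 17, 20, 19, 2, 18, 3, 14, 10, 12, 5, 9, 23],
  [17, 8, 18, 1, 21, 6, 3, 13, 9, 22, 11, 0, 10, 15, 7, 19, 12, 14, 5, 16, 20, 2, 4, 23],
  [6, 8, 2, 0, 13, 15, 19, 11, 18, 9, 16, 10, 21, 4, 22, 5, 7, 17, 20, 3, 1, 14, 12, 23],
  [14, 15, 7, 5, 13, 2, 19, 1, 8, 9, 17, 22, 11, 16, 6, 21, 18, 20, 12, 10, 0, 3, 4, 23],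
  [18, 3, 9, 21, 1, 15, 14, 4, 2, 22, 12, 5, 11, 7, 10, 6, 16, 13, 20, 19, 8, 17, 0, 23],
  [19, 1, 18, 12, 14, 22, 15, 0, 8, 10, 6, 21, 3, 20, 4, 9, 16, 7, 5, 17, 11, 13, 2, 23],
  [16, 14, 18, 12, 7, 0, 3, 10, 8, 20, 1, 9, 11, 4, 22, 2, 15, 17, 21, 6, 19, 5, 13, 23],
  [13, 3, 17, 18, 7, 16, 5, 10, 12, 9, 0, 6, 14, 4, 2, 22, 21, 8, 15, 19, 20, 11, 1, 23],
  [21, 3, 20, 14, 16, 1, 17, 2, 10, 12, 8, 0, 5, 22, 6, 11, 18, 9, 7, 19, 13, 15, 4, 23],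
  [0, 5, 22, 16, 18, 3, 19, 4, 12, 14, 10, 2, 7, 1, 8, 13, 20, 11, 9, 21, 15, 17, 6, 23],
  [11, 0, 15, 2, 14, 7, 12, 5, 18, 10, 8, 22, 9, 1, 13, 19, 6, 3, 4, 20, 21, 17, 16, 23],
  [0, 8, 12, 19, 15, 3, 1, 18, 14, 4, 22, 21, 5, 9, 17, 20, 16, 7, 6, 11, 10, 2, 13, 23],
  [8, 11, 17, 22, 15, 19, 16, 10, 0, 2, 5, 14, 4, 3, 18, 21, 9, 20, 13, 12, 7, 6, 1, 23],
  [0, 20, 13, 8, 14, 2, 6, 21, 11, 17, 9, 18, 10, 7, 5, 22, 1, 19, 16, 15, 3, 4, 12, 23],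
  [22, 4, 8, 1, 7, 11, 15, 13, 20, 2, 14, 12, 10, 17, 6, 5, 16, 21, 0, 19, 18, 3, 9, 23],
  [18, 9, 19, 2, 22, 7, 4, 14, 10, 0, 12, 1, 11, 16, 8, 20, 13, 15, 6, 17, 21, 3, 5, 23],
  [0, 2, 19, 8, 9, 13, 7, 6, 14, 22, 10, 4, 12, 16, 20, 18, 17, 5, 15, 21, 3, 1, 11, 23],
  [22, 6, 9, 15, 20, 13, 17, 14, 8, 21, 0, 3, 12, 2, 1, 16, 19, 7, 18, 11, 10, 5, 4, 23],
  [10, 11, 16, 6, 9, 8, 3, 2, 22, 0, 20, 19, 14, 15, 17, 13, 5, 12, 4, 1, 18, 21, 7, 23],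
  [0, 3, 19, 17, 21, 8, 15, 9, 4, 22, 10, 11, 1, 16, 7, 2, 13, 12, 20, 6, 18, 5, 14, 23],
  [20, 21, 22, 0, 1, 2, 3, 4, 5, 6, 7, 8, 9, 10, 11, 12, 13, 14, 15, 16, 17, 18, 19, 23],
  [0, 13, 11, 5, 7, 1, 22, 12, 14, 18, 10, 17, 8, 15, 9, 20, 3, 21, 4, 6, 16, 19, 2, 23],
  [1, 13, 3, 17, 18, 7, 16, 5, 10, 12, 9, 0, 6, 14, 4, 2, 22, 21, 8, 15, 19, 20, 11, 23],
  [0, 6, 21, 5, 9, 12, 18, 17, 1, 13, 20, 19, 2, 22, 8, 4, 16, 14, 7, 3, 15, 11, 10, 23],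
  [22, 9, 13, 12, 10, 21, 20, 0, 16, 7, 1, 19, 18, 11, 4, 6, 2, 14, 5, 17, 15, 3, 8, 23],
  [8, 22, 9, 13, 12, 10, 21, 20, 0, 16, 7, 1, 19, 18, 11, 4, 6, 2, 14, 5, 17, 15, 3, 23],
  [0, 16, 5, 20, 21, 14, 6, 13, 3, 10, 12, 8, 22, 2, 4, 19, 18, 9, 11, 17, 1, 7, 15, 23],
  [11, 3, 21, 6, 22, 18, 5, 14, 1, 8, 12, 10, 16, 7, 17, 13, 19, 0, 2, 15, 20, 4, 9, 23],
  [9, 11, 3, 21, 6, 22, 18, 5, 14, 1, 8, 12, 10, 16, 7, 17, 13, 19, 0, 2, 15, 20, 4, 23],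
  [0, 21, 1, 20, 11, 17, 7, 6, 3, 4, 10, 22, 12, 5, 8, 18, 13, 16, 15, 2, 14, 19, 9, 23],
  [0, 12, 15, 1, 8, 21, 19, 14, 5, 7, 10, 11, 17, 16, 22, 6, 13, 3, 20, 2, 18, 4, 9, 23],
  [0, 14, 15, 18, 11, 20, 17, 21, 22, 4, 12, 5, 13, 16, 3, 2, 1, 8, 10, 7, 19, 9, 6, 23],
  [0, 17, 9, 13, 15, 20, 2, 11, 12, 8, 10, 1, 6, 21, 3, 5, 14, 22, 4, 19, 18, 16, 7, 23],
  [0, 15, 17, 1, 12, 13, 2, 8, 9, 4, 10, 21, 14, 20, 18, 16, 5, 19, 7, 22, 3, 6, 11, 23],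
  [0, 9, 21, 3, 18, 8, 13, 5, 17, 6, 22, 7, 14, 20, 4, 10, 19, 2, 15, 1, 16, 11, 12, 23],
  [0, 22, 19, 12, 17, 6, 10, 2, 8, 7, 20, 14, 1, 4, 13, 15, 5, 11, 9, 18, 16, 3, 21, 23],
  [0, 7, 18, 2, 21, 20, 12, 10, 5, 16, 9, 19, 11, 22, 17, 3, 8, 4, 14, 6, 1, 15, 13, 23],
  [0, 11, 10, 15, 22, 8, 20, 16, 5, 14, 12, 4, 2, 17, 19, 3, 1, 21, 6, 18, 9, 13, 7, 23],
  [0, 4, 1, 6, 2, 17, 3, 20, 7, 21, 14, 5, 8, 22, 12, 18, 13, 9, 15, 11, 10, 19, 16, 23],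
  [0, 19, 17, 3, 14, 7, 9, 11, 5, 1, 15, 21, 22, 6, 12, 18, 20, 8, 4, 16, 13, 2, 10, 23],
  [0, 18, 11, 12, 13, 2, 7, 14, 6, 22, 15, 3, 21, 10, 1, 9, 16, 8, 17, 5, 4, 19, 20, 23],
  [0, 10, 9, 14, 17, 12, 1, 2, 21, 7, 4, 6, 22, 18, 3, 13, 8, 11, 16, 20, 19, 15, 5, 23],
  [0, 6, 7, 14, 10, 22, 11, 9, 16, 2, 1, 17, 5, 15, 3, 21, 18, 4, 13, 20, 19, 8, 12, 23],
  [0, 10, 7, 22, 3, 17, 12, 15, 4, 14, 8, 19, 9, 20, 1, 16, 5, 11, 13, 18, 2, 6, 21, 23],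
  [0, 1, 9, 12, 14, 4, 5, 21, 10, 3, 16, 20, 2, 19, 6, 18, 22, 17, 15, 13, 7, 11, 8, 23],
  [0, 3, 6, 20, 9, 16, 21, 18, 7, 8, 10, 22, 4, 5, 12, 1, 15, 2, 14, 17, 13, 11, 19, 23],
  [0, 15, 1, 12, 8, 22, 19, 17, 2, 11, 14, 9, 10, 4, 3, 6, 5, 21, 20, 13, 16, 18, 7, 23],
  [0, 1, 3, 4, 7, 19, 17, 2, 6, 22, 12, 8, 10, 9, 20, 21, 16, 11, 13, 5, 15, 14, 18, 23],
  [0, 16, 15, 14, 9, 11, 22, 19, 17, 21, 18, 4, 10, 12, 1, 2, 13, 6, 3, 20, 5, 7, 8, 23],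
  [0, 14, 13, 22, 4, 15, 21, 19, 2, 1, 20, 6, 18, 11, 5, 12, 8, 10, 9, 3, 7, 16, 17, 23],
  [0, 1, 12, 8, 9, 2, 7, 20, 15, 16, 5, 22, 3, 4, 11, 10, 17, 18, 21, 14, 19, 13, 6, 23],
  [0, 14, 20, 15, 4, 18, 17, 10, 21, 13, 7, 2, 11, 9, 3, 1, 5, 8, 22, 19, 12, 6, 16, 23],
  [0, 1, 5, 2, 9, 3, 6, 18, 7, 12, 19, 15, 4, 21, 14, 16, 11, 17, 8, 20, 10, 22, 13, 23],
  [0, 20, 3, 15, 17, 8, 19, 1, 16, 10, 7, 12, 6, 22, 18, 21, 9, 14, 2, 11, 5, 4, 13, 23],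
  [0, 7, 13, 5, 12, 17, 21, 8, 3, 4, 10, 2, 11, 20, 6, 19, 1, 16, 15, 22, 9, 18, 14, 23],
  [0, 1, 22, 8, 6, 14, 4, 16, 15, 17, 7, 3, 12, 5, 19, 11, 20, 9, 21, 13, 10, 2, 18, 23],
  [0, 16, 12, 15, 11, 8, 18, 22, 5, 20, 2, 1, 10, 21, 9, 3, 7, 13, 19, 14, 6, 17, 4, 23],
  [0, 11, 6, 14, 18, 15, 12, 22, 9, 2, 10, 7, 8, 3, 16, 4, 21, 1, 20, 19, 5, 13, 17, 23],
  [0, 1, 18, 9, 19, 3, 10, 4, 20, 12, 2, 22, 5, 15, 7, 11, 17, 16, 6, 14, 8, 21, 13, 23],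
  [0, 14, 20, 4, 8, 16, 21, 2, 10, 12, 1, 17, 6, 18, 9, 7, 15, 5, 19, 11, 13, 22, 3, 23],
  [0, 1, 12, 9, 5, 6, 14, 20, 22, 2, 8, 21, 3, 19, 4, 18, 10, 17, 15, 13, 11, 7, 16, 23],
  [0, 2, 8, 14, 13, 16, 15, 22, 4, 11, 12, 9, 3, 19, 10, 1, 20, 7, 21, 6, 18, 17, 5, 23],
  [0, 1, 7, 2, 3, 19, 8, 4, 11, 13, 12, 17, 10, 18, 21, 20, 16, 6, 22, 5, 14, 15, 9, 23],
  [0, 9, 8, 19, 4, 14, 11, 20, 16, 18, 17, 13, 15, 2, 1, 5, 21, 22, 12, 7, 10, 6, 3, 23],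
  [0, 1, 5, 12, 13, 10, 22, 6, 3, 4, 15, 14, 2, 21, 19, 8, 9, 16, 17, 20, 7, 18, 11, 23],
  [0, 15, 11, 14, 4, 16, 21, 10, 17, 13, 7, 12, 20, 9, 1, 3, 22, 6, 5, 19, 2, 8, 18, 23],
  [0, 1, 3, 5, 12, 2, 6, 8, 18, 4, 20, 16, 9, 22, 14, 11, 15, 17, 7, 10, 19, 13, 21, 23],
  [0, 16, 11, 8, 9, 3, 14, 1, 7, 20, 10, 12, 4, 2, 22, 18, 17, 5, 21, 15, 13, 6, 19, 23],
  [0, 1, 21, 11, 6, 13, 4, 10, 3, 17, 20, 15, 12, 19, 5, 8, 7, 9, 22, 14, 16, 18, 2, 23],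
  [0, 1, 10, 5, 7, 12, 18, 14, 20, 3, 6, 15, 9, 22, 19, 13, 17, 16, 2, 4, 8, 21, 11, 23],
  [0, 1, 13, 10, 21, 3, 19, 15, 12, 2, 16, 14, 7, 5, 8, 22, 9, 6, 20, 18, 4, 17, 11, 23],
  [0, 1, 16, 3, 11, 9, 2, 13, 5, 8, 17, 19, 12, 14, 7, 21, 6, 18, 10, 4, 20, 22, 15, 23],
  [0, 1, 4, 2, 19, 13, 10, 18, 15, 12, 9, 7, 5, 20, 22, 17, 11, 16, 8, 21, 6, 14, 3, 23],
  [0, 1, 17, 12, 19, 6, 14, 2, 7, 8, 20, 10, 22, 13, 4, 21, 18, 9, 11, 5, 16, 3, 15, 23],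
  [0, 1, 8, 9, 20, 14, 18, 12, 7, 6, 3, 15, 5, 16, 19, 13, 17, 22, 4, 2, 10, 11, 21, 23],
  [0, 1, 11, 6, 10, 14, 9, 21, 4, 2, 12, 3, 20, 17, 16, 18, 7, 15, 19, 13, 8, 5, 22, 23],
  [0, 1, 20, 12, 9, 13, 22, 5, 21, 19, 3, 17, 8, 15, 7, 11, 10, 14, 16, 6, 4, 18, 2, 23],
  [0, 1, 6, 5, 12, 20, 3, 13, 14, 21, 2, 16, 15, 17, 18, 7, 9, 22, 11, 10, 19, 8, 4, 23],
  [0, 1, 14, 10, 5, 4, 20, 7, 15, 22, 9, 16, 6, 2, 21, 8, 17, 18, 11, 12, 19, 13, 3, 23],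
  [0, 1, 19, 10, 9, 12, 18, 17, 4, 7, 21, 20, 3, 14, 5, 6, 22, 16, 11, 15, 2, 13, 8, 23],
  [0, 1, 15, 17, 8, 18, 3, 12, 2, 6, 14, 20, 10, 5, 19, 11, 4, 13, 9, 21, 16, 22, 7, 23],
  [0, 1, 7, 21, 14, 19, 5, 8, 9, 17, 11, 18, 3, 13, 6, 22, 20, 2, 16, 4, 10, 15, 12, 23],
  [0, 1, 17, 8, 12, 21, 13, 15, 3, 7, 10, 2, 14, 6, 16, 22, 4, 20, 5, 18, 11, 19, 9, 23],
  [0, 1, 2, 9, 3, 15, 13, 22, 21, 8, 11, 7, 6, 5, 20, 12, 14, 10, 19, 16, 18, 4, 17, 23],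
  [0, 1, 10, 3, 5, 8, 9, 15, 7, 21, 18, 17, 11, 16, 6, 4, 12, 13, 22, 2, 14, 20, 19, 23],
  [0, 1, 2, 9, 3, 20, 12, 11, 4, 21, 6, 16, 22, 17, 10, 19, 5, 15, 13, 18, 7, 8, 14, 23],
  [0, 1, 13, 22, 5, 4, 12, 7, 15, 10, 3, 18, 19, 21, 2, 8, 11, 16, 17, 20, 6, 14, 9, 23],
  [0, 1, 14, 19, 3, 9, 10, 18, 16, 13, 12, 11, 6, 5, 22, 7, 17, 8, 15, 4, 20, 21, 2, 23],
  [0, 1, 2, 20, 22, 10, 3, 17, 11, 21, 19, 18, 12, 4, 9, 7, 16, 15, 8, 5, 6, 14, 13, 23],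
  [0, 1, 8, 6, 16, 13, 9, 22, 4, 18, 12, 15, 7, 17, 10, 2, 20, 3, 5, 14, 11, 19, 21, 23],
  [0, 1, 15, 10, 22, 9, 18, 19, 14, 5, 4, 11, 6, 21, 2, 8, 12, 20, 16, 17, 7, 13, 3, 23],
  [0, 1, 2, 12, 21, 18, 5, 14, 10, 13, 16, 15, 9, 19, 8, 4, 7, 11, 20, 3, 22, 17, 6, 23],
  [0, 1, 22, 10, 20, 7, 19, 14, 12, 4, 16, 15, 3, 5, 17, 13, 18, 11, 21, 9, 2, 8, 6, 23],
  [0, 1, 2, 20, 16, 10, 14, 5, 12, 6, 7, 8, 11, 13, 9, 19, 22, 15, 18, 17, 21, 3, 4, 23],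
  [0, 1, 6, 3, 19, 8, 16, 14, 9, 5, 18, 4, 12, 7, 13, 22, 2, 10, 17, 11, 20, 15, 21, 23],
  [0, 1, 16, 4, 21, 2, 15, 6, 7, 12, 5, 18, 3, 8, 13, 19, 17, 22, 9, 14, 10, 11, 20, 23],
  [0, 1, 2, 19, 15, 6, 22, 16, 14, 12, 8, 17, 3, 9, 7, 11, 10, 21, 5, 13, 18, 4, 20, 23],
  [0, 1, 9, 11, 8, 21, 3, 16, 20, 6, 4, 2, 10, 19, 5, 17, 14, 13, 15, 18, 12, 7, 22, 23],
  [0, 1, 11, 8, 16, 18, 13, 9, 3, 22, 10, 20, 4, 6, 12, 7, 14, 2, 19, 21, 17, 5, 15, 23],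
  [0, 1, 2, 4, 21, 13, 12, 11, 9, 3, 17, 10, 15, 6, 16, 5, 19, 22, 20, 18, 14, 8, 7, 23],
  [0, 1, 10, 6, 22, 3, 2, 15, 21, 16, 19, 18, 4, 7, 8, 12, 11, 13, 14, 20, 5, 9, 17, 23],
  [0, 1, 19, 3, 15, 4, 14, 8, 5, 6, 2, 12, 16, 17, 20, 7, 13, 11, 10, 22, 21, 9, 18, 23],
  [0, 1, 2, 4, 8, 16, 10, 20, 21, 3, 14, 7, 6, 18, 22, 17, 11, 13, 19, 15, 5, 9, 12, 23],
  [0, 1, 22, 4, 19, 13, 12, 15, 17, 5, 6, 11, 10, 9, 2, 18, 8, 16, 7, 3, 20, 21, 14, 23],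
  [0, 1, 2, 6, 13, 19, 20, 15, 18, 14, 5, 8, 12, 22, 21, 17, 16, 7, 11, 10, 3, 9, 4, 23],
  [0, 1, 2, 21, 22, 7, 9, 10, 11, 14, 5, 12, 8, 13, 6, 17, 4, 19, 18, 15, 3, 20, 16, 23],
  [0, 1, 2, 8, 9, 12, 5, 17, 4, 21, 7, 22, 13, 15, 18, 6, 20, 11, 16, 14, 19, 3, 10, 23],
  [0, 1, 2, 14, 6, 17, 22, 4, 9, 18, 8, 15, 20, 19, 3, 12, 21, 5, 10, 16, 11, 13, 7, 23],
  [0, 1, 2, 13, 12, 4, 19, 6, 17, 10, 15, 14, 5, 18, 22, 9, 8, 16, 3, 7, 20, 21, 11, 23],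
  [0, 1, 2, 22, 14, 4, 12, 18, 21, 20, 15, 19, 7, 3, 16, 10, 5, 13, 6, 8, 9, 11, 17, 23],
  [0, 1, 2, 15, 4, 9, 3, 17, 12, 19, 21, 8, 11, 22, 10, 6, 13, 20, 18, 5, 7, 14, 16, 23],
  [0, 1, 2, 16, 3, 13, 11, 8, 6, 20, 15, 7, 19, 14, 22, 10, 17, 4, 21, 18, 9, 12, 5, 23],
  [0, 1, 2, 18, 17, 11, 9, 10, 7, 4, 16, 19, 6, 3, 8, 22, 14, 12, 21, 15, 13, 20, 5, 23],
  [0, 1, 2, 7, 14, 6, 9, 15, 16, 8, 18, 13, 22, 3, 21, 11, 5, 19, 4, 20, 12, 10, 17, 23],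
  [0, 1, 2, 5, 12, 14, 4, 13, 7, 9, 15, 19, 6, 8, 3, 20, 11, 17, 21, 16, 10, 22, 18, 23],
  [0, 1, 2, 10, 18, 15, 5, 17, 19, 22, 16, 21, 6, 12, 9, 13, 11, 20, 7, 14, 4, 3, 8, 23],
  [0, 1, 2, 11, 3, 18, 10, 9, 7, 13, 22, 19, 6, 17, 12, 16, 5, 8, 21, 20, 4, 15, 14, 23],
  [0, 1, 2, 17, 19, 14, 4, 22, 9, 11, 12, 15, 20, 6, 5, 8, 7, 3, 10, 13, 18, 16, 21, 23],
  [0, 1, 2, 4, 9, 16, 11, 18, 3, 21, 19, 17, 5, 20, 22, 7, 10, 13, 14, 12, 6, 8, 15, 23],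
  [0, 1, 2, 3, 8, 14, 7, 19, 9, 4, 16, 10, 15, 18, 17, 22, 11, 5, 20, 6, 13, 21, 12, 23],
  [0, 1, 2, 17, 6, 14, 13, 16, 15, 8, 18, 9, 10, 19, 5, 11, 21, 3, 20, 4, 12, 22, 7, 23],
  [0, 1, 2, 17, 22, 3, 18, 12, 15, 6, 19, 10, 20, 13, 14, 21, 4, 5, 9, 11, 7, 8, 16, 23],
  [0, 1, 2, 3, 7, 17, 20, 10, 11, 13, 4, 18, 12, 19, 5, 22, 6, 14, 8, 9, 16, 15, 21, 23],
  [0, 1, 2, 17, 13, 14, 6, 7, 12, 10, 9, 18, 8, 4, 5, 20, 22, 3, 11, 19, 15, 21, 16, 23],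
  [0, 1, 2, 3, 19, 5, 13, 16, 10, 18, 8, 20, 15, 6, 14, 12, 7, 17, 9, 4, 11, 22, 21, 23],
  [0, 1, 2, 18, 5, 12, 7, 19, 16, 15, 9, 22, 4, 3, 11, 10, 17, 8, 13, 6, 20, 21, 14, 23],
  [0, 1, 2, 13, 5, 16, 18, 12, 19, 20, 15, 21, 6, 17, 4, 10, 14, 22, 7, 11, 9, 8, 3, 23],
  [0, 1, 2, 8, 3, 12, 20, 15, 21, 4, 16, 6, 19, 17, 18, 22, 5, 11, 7, 10, 13, 9, 14, 23],
  [0, 1, 2, 3, 9, 17, 19, 6, 4, 8, 11, 16, 22, 20, 5, 12, 10, 14, 13, 7, 18, 21, 15, 23],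
  [0, 1, 2, 5, 16, 17, 9, 20, 21, 18, 11, 19, 7, 13, 14, 8, 22, 3, 6, 10, 12, 15, 4, 23],
  [0, 1, 2, 3, 10, 14, 16, 4, 18, 19, 7, 8, 12, 9, 17, 21, 20, 5, 11, 13, 6, 22, 15, 23],
  [0, 1, 2, 6, 4, 19, 15, 20, 11, 5, 14, 12, 8, 16, 21, 3, 22, 7, 18, 9, 17, 10, 13, 23],
  [0, 1, 2, 4, 11, 22, 14, 17, 10, 6, 21, 20, 15, 18, 13, 7, 12, 16, 9, 3, 19, 5, 8, 23],
  [0, 1, 2, 3, 7, 14, 8, 12, 13, 15, 10, 16, 4, 6, 17, 20, 21, 5, 22, 18, 9, 11, 19, 23],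
  [0, 1, 2, 20, 13, 9, 6, 21, 5, 8, 18, 14, 3, 22, 15, 11, 16, 10, 17, 7, 12, 19, 4, 23],
  [0, 1, 2, 3, 19, 17, 9, 15, 18, 22, 16, 11, 8, 7, 5, 13, 21, 14, 12, 20, 4, 10, 6, 23],
  [0, 1, 2, 14, 6, 3, 12, 8, 13, 9, 20, 16, 4, 7, 5, 10, 19, 17, 22, 11, 15, 18, 21, 23],
  [0, 1, 2, 9, 14, 10, 7, 21, 18, 13, 16, 8, 12, 3, 15, 4, 5, 20, 11, 19, 22, 6, 17, 23],
  [0, 1, 2, 3, 12, 14, 19, 7, 20, 16, 4, 15, 10, 11, 17, 13, 18, 5, 9, 21, 22, 6, 8, 23],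
  [0, 1, 2, 3, 18, 5, 15, 20, 22, 19, 21, 16, 13, 12, 14, 6, 11, 17, 4, 9, 7, 10, 8, 23],
  [0, 1, 2, 3, 15, 5, 18, 8, 7, 13, 16, 21, 19, 9, 14, 4, 10, 17, 6, 12, 22, 11, 20, 23],
  [0, 1, 2, 3, 16, 5, 21, 19, 12, 20, 15, 18, 8, 22, 14, 10, 4, 17, 11, 7, 9, 6, 13, 23],
  [0, 1, 2, 3, 11, 5, 10, 9, 13, 7, 6, 4, 22, 8, 14, 21, 18, 17, 16, 20, 19, 15, 12, 23],
  [0, 1, 2, 3, 18, 17, 4, 13, 19, 10, 20, 7, 21, 11, 5, 15, 8, 14, 6, 16, 9, 22, 12, 23],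
  [0, 1, 2, 3, 20, 5, 8, 18, 6, 16, 13, 19, 21, 10, 14, 22, 9, 17, 7, 11, 4, 12, 15, 23],
  [0, 1, 2, 3, 6, 5, 4, 22, 20, 12, 11, 10, 9, 19, 14, 18, 21, 17, 15, 13, 8, 16, 7, 23],
  [0, 1, 2, 3, 9, 5, 12, 11, 21, 4, 22, 7, 6, 15, 14, 13, 20, 17, 19, 18, 16, 8, 10, 23],
  [0, 1, 2, 3, 7, 5, 22, 4, 15, 11, 12, 9, 10, 21, 14, 8, 19, 17, 20, 16, 18, 13, 6, 23],
  [0, 1, 2, 3, 12, 5, 9, 10, 16, 6, 7, 22, 4, 18, 14, 19, 8, 17, 13, 15, 21, 20, 11, 23],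
  [0, 1, 2, 3, 10, 5, 11, 12, 19, 22, 4, 6, 7, 20, 14, 16, 15, 17, 21, 8, 13, 18, 9, 23],
  [0, 1, 2, 3, 21, 5, 16, 13, 9, 8, 18, 15, 20, 7, 14, 11, 6, 17, 10, 22, 12, 4, 19, 23],
  [0, 1, 2, 3, 22, 5, 7, 6, 18, 10, 9, 12, 11, 16, 14, 20, 13, 17, 8, 21, 15, 19, 4, 23],
  [0, 1, 2, 3, 13, 5, 19, 21, 11, 15, 20, 8, 18, 4, 14, 9, 22, 17, 12, 6, 10, 7, 16, 23],
  [0, 1, 2, 3, 8, 5, 20, 15, 4, 21, 19, 13, 16, 11, 14, 7, 12, 17, 22, 10, 6, 9, 18, 23]]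

def PR : List (ℕ × ℕ) := [(1, 1), (0, 0), (4, 4), (4, 5), (5, 5), (7, 7), (6, 8), (2, 2), (10, 10), (0, 1), (9, 1), (0, 12), (2, 12), (11, 12), (2, 13), (9, 13), (11, 13), (0, 14), (1, 14), (11, 14), (9, 15), (0, 16), (9, 16), (0, 17), (9, 17), (1, 18), (2, 18), (9, 21), (9, 23), (0, 24), (1, 25), (1, 9), (34, 11), (1, 0), (34, 9), (37, 2), (2, 15), (38, 39), (36, 0), (34, 2), (42, 0), (11, 18), (43, 44), (35, 0), (46, 0), (1, 30), (47, 48), (28, 0), (0, 33), (50, 51), (43, 1), (35, 11), (54, 22), (41, 2), (56, 25), (50, 1), (58, 31), (53, 9), (60, 30), (40, 0), (55, 0), (45, 0), (57, 0), (59, 0), (9, 9), (61, 9), (45, 49), (57, 59), (0, 52), (45, 52), (59, 52), (9, 61), (57, 61), (0, 62), (0, 61), (4, 77), (55, 9), (59, 79), (0, 64), (49, 81), (61, 49), (0, 70), (83, 84), (9, 45), (9, 49), (86, 87), (9,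 67), (52, 89), (0, 40), (91, 49), (9, 57), (93, 9), (94, 59), (49, 45), (96, 9), (97, 73), (66, 65), (95, 78), (98, 78), (90, 90), (80, 90), (92, 90), (82, 90), (82, 80), (88, 80), (78, 92), (92, 92), (80, 82), (95, 92), (99, 110), (111, 112), (78, 78), (78, 82), (114, 115), (90, 82), (92, 101), (117, 118), (99, 105), (117, 120), (78, 95), (78, 99), (122, 123), (92, 95), (90, 85), (125, 126), (111, 88), (128, 110), (95, 90), (130, 102), (126, 80), (132, 100), (122, 88), (134, 100), (88, 90), (136, 105), (101, 106), (131, 113), (119, 113), (133, 113), (124, 113), (119, 116), (137, 116), (129, 131), (133, 131), (138, 131), (116, 133), (131, 137), (129, 137), (131, 144), (150, 151), (127, 146), (127, 153), (116, 127), (121, 147), (155, 156), (124, 116), (116, 145), (158, 159), (116, 113), (137, 161), (129,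 133), (113, 138), (163, 164), (131, 124), (166, 116), (167, 142), (116, 119), (169, 138), (170, 138), (155, 135), (172, 147), (145, 124), (152, 152), (173, 152), (160, 152), (157, 168), (165, 168), (162, 168), (152, 157), (154, 157), (171, 157), (171, 173), (162, 160), (162, 165), (162, 178), (152, 187), (160, 174), (154, 177), (189, 190), (173, 179), (189, 192), (168, 165), (152, 173), (195, 174), (196, 168), (194, 171), (198, 186), (152, 160), (200, 171), (201, 165), (195, 154), (203, 160), (173, 154), (205, 152), (206, 177), (204, 188), (202, 197), (207, 197), (191, 188), (199, 188), (188, 212), (209, 208), (193, 208), (213, 208), (193, 209), (210, 209), (211, 209), (213, 209), (193, 214), (213, 214)]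

def TR : List (List ℕ) := [
  [1, 12, 14, 20, 22, 25, 16, 24, 32, 33, 30, 21, 28, 27, 17, 26, 31, 23, 15, 19, 29, 18, 13, 3],
  [3, 0, 4, 68, 69, 52, 71, 64, 59, 66, 65, 49, 62, 76, 72, 63, 75, 70, 73, 74, 61, 67, 9, 0],
  [0, 3, 85, 88, 107, 78, 92, 105, 80, 103, 110, 106, 99, 90, 100, 102, 95, 101, 109, 108, 82, 98, 104, 0],
  [0, 0, 3, 116, 141, 133, 146, 131, 143, 113, 138, 144, 129, 139, 147, 149, 140, 142, 127, 148, 145, 137, 124, 0],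
  [0, 0, 0, 3, 168, 183, 173, 182, 175, 152, 184, 185, 160, 177, 176, 179, 180, 186, 181, 165, 157, 174, 178, 0],
  [0, 0, 0, 0, 0, 3, 0, 0, 0, 0, 0, 0, 0, 0, 188, 0, 0, 197, 0, 0, 0, 0, 0, 0],
  [0, 0, 0, 0, 3, 0, 214, 216, 222, 215, 218, 211, 217, 221, 0, 209, 210, 0, 208, 193, 213, 219, 220, 0]]

def CW : List ℕ := [1, 409, 403, 1222, 12, 1292, 111, 1302, 516, 80, 1562, 445, 365, 938, 489, 349, 576, 1886, 1660, 1556, 706, 1520, 368]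

set_option maxRecDepth 100000 in
theorem qr_ctw : ∀ t : ZMod 23, ∀ p : Cfsg.GolayPt,
    Cfsg.qrWord t (Cfsg.cubeTwist p) = dec (lin LB (CW.getD t.val 0)) p := by
  decide +kernel

theorem cubeTwist_mem : Cfsg.cubeTwist ∈ Cfsg.M24 := by
  apply mem_M24_of_comp
  apply comp_gen
  intro t
  have : (fun p => Cfsg.qrWord t (Cfsg.cubeTwist p)) = dec (lin LB (CW.getD t.val 0)) := by
    funext p
    exact qr_ctw t p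
  rw [this]
  exact lin_mem_golay _

/-! ### Tables -/

/-- The point with a given index. -/
def ptOf (n : ℕ) : Cfsg.GolayPt := if n = 23 then none else some (n : ZMod 23)

theorem ptOf_idx : ∀ p : Cfsg.GolayPt, ptOf (idx p) = p := by decide +kernel

theorem idx_ptOf : ∀ n < 24, idx (ptOf n) = n := by decide +kernel

theorem idx_lt : ∀ p : Cfsg.GolayPt, idx p < 24 := by decide +kernel

/-- `t` is the table of `σ` on point indices. -/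
def IsTable (σ : Equiv.Perm Cfsg.GolayPt) (t : List ℕ) : Prop :=
  ∀ p, idx (σ p) = t.getD (idx p) 0

/-- Table of a product. -/
def comp (t u : List ℕ) : List ℕ := (List.range 24).map (fun i => t.getD (u.getD i 0) 0)

theorem comp_getD (t u : List ℕ) (i : ℕ) (hi : i < 24) :
    (comp t u).getD i 0 = t.getD (u.getD i 0) 0 := by
  unfold comp
  rw [List.getD_eq_getElem _ _ (by simpa using hi)]
  simp

theorem isTable_mul {σ τ : Equiv.Perm Cfsg.GolayPt} {t u : List ℕ} (hσ : IsTable σ t)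
    (hτ : IsTable τ u) : IsTable (σ * τ) (comp t u) := by
  intro p
  rw [comp_getD _ _ _ (idx_lt p), Equiv.Perm.mul_apply, hσ, hτ]

theorem isTable_apply {σ : Equiv.Perm Cfsg.GolayPt} {t : List ℕ} (h : IsTable σ t) (n : ℕ)
    (hn : n < 24) : σ (ptOf n) = ptOf (t.getD n 0) := by
  have := h (ptOf n)
  rw [idx_ptOf n hn] at this
  rw [← this, ptOf_idx]

set_option maxRecDepth 100000 in
theorem tab_s : IsTable shift TS := by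
  unfold IsTable
  decide +kernel

set_option maxRecDepth 100000 in
theorem tab_j : IsTable Cfsg.projInv TJ := by
  unfold IsTable
  decide +kernel

set_option maxRecDepth 100000 in
theorem tab_c : IsTable Cfsg.cubeTwist TC := by
  unfold IsTable
  decide +kernel

set_option maxRecDepth 100000 in
theorem slp_ok : ∀ n < 220, (PR.getD n (0, 0)).1 < n + 3 ∧ (PR.getD n (0, 0)).2 < n + 3 ∧
    TT.getD (n + 3) [] = comp (TT.getD (PR.getD n (0, 0)).1 []) (TT.getD (PR.getD n (0, 0)).2 []) := by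
  decide +kernel

/-- The subgroup generated by the three standard permutations. -/
def H : Subgroup (Equiv.Perm Cfsg.GolayPt) :=
  Subgroup.closure {shift, Cfsg.projInv, Cfsg.cubeTwist}

theorem H_le : H ≤ Cfsg.M24 := by
  unfold H
  rw [Subgroup.closure_le]
  rintro g (rfl | rfl | rfl)
  · exact shift_mem
  · exact projInv_mem
  · exact cubeTwist_mem

theorem node_mem : ∀ n < 223, ∃ g ∈ H, IsTable g (TT.getD n []) := by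
  intro n
  induction n using Nat.strong_induction_on with
  | _ n ih =>
    intro hn
    rcases Nat.lt_or_ge n 3 with h3 | h3
    · interval_cases n
      · exact ⟨shift, Subgroup.subset_closure (by simp), tab_s⟩
      · exact ⟨Cfsg.projInv, Subgroup.subset_closure (by simp), tab_j⟩
      · exact ⟨Cfsg.cubeTwist, Subgroup.subset_closure (by simp), tab_c⟩
    · obtain ⟨m, rfl⟩ : ∃ m, n = m + 3 := ⟨n - 3, by omega⟩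
      obtain ⟨h1, h2, h3'⟩ := slp_ok m (by omega)
      obtain ⟨g1, hg1, ht1⟩ := ih _ h1 (by omega)
      obtain ⟨g2, hg2, ht2⟩ := ih _ h2 (by omega)
      exact ⟨g1 * g2, H.mul_mem hg1 hg2, by rw [h3']; exact isTable_mul ht1 ht2⟩

/-! ### The base and the transversals -/

/-- Indices of the seven base points. -/
def BASE : List ℕ := [23, 0, 1, 2, 3, 5, 4]

/-- Mask of the octad through the first five base points. -/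
def OM : ℕ := 8536111

/-- The `k`-th base point. -/
def B (k : ℕ) : Cfsg.GolayPt := ptOf (BASE.getD k 0)

/-- Index-level description of the orbit of the `k`-th base point under the stabiliser of
the earlier ones. -/
def dB (k β : ℕ) : Bool :=
  (List.range k).all (fun i => β != BASE.getD i 0) && (k != 5 || OM.testBit β) &&
    (k != 6 || !OM.testBit β)

set_option maxRecDepth 100000 in
theorem tr_ok : ∀ k < 7, ∀ β < 24, dB k β = true →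
    (TR.getD k []).getD β 0 < 223 ∧
    (TT.getD ((TR.getD k []).getD β 0) []).getD (BASE.getD k 0) 0 = β ∧
    ∀ i < k, (TT.getD ((TR.getD k []).getD β 0) []).getD (BASE.getD i 0) 0 = BASE.getD i 0 := by
  decide +kernel

theorem base_lt : ∀ k < 7, BASE.getD k 0 < 24 := by decide +kernel

theorem idx_B (k : ℕ) (hk : k < 7) : idx (B k) = BASE.getD k 0 :=
  idx_ptOf _ (base_lt k hk)

theorem B_inj : ∀ i < 7, ∀ j < 7, B i = B j → i = j := by decide +kernel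

/-- Transversal elements: every point of the expected orbit is reached by an element of `H`
fixing the earlier base points. -/
theorem exists_trans (k : ℕ) (hk : k < 7) (q : Cfsg.GolayPt) (hq : dB k (idx q) = true) :
    ∃ g ∈ H, g (B k) = q ∧ ∀ i < k, g (B i) = B i := by
  obtain ⟨hn, h1, h2⟩ := tr_ok k hk (idx q) (idx_lt q) hq
  obtain ⟨g, hg, ht⟩ := node_mem _ hn
  refine ⟨g, hg, ?_, ?_⟩
  · apply idx_inj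
    rw [ht, idx_B k hk, h1]
  · intro i hi
    apply idx_inj
    rw [ht, idx_B i (by omega), h2 i hi]

end Cfsg.Agent.Lib.Helper9.M24C
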