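import Mathlib
import Cfsg.Prelude.Def_Sporadic_a
import Cfsg.Prelude.Def_Spor_Mathieu
import Cfsg.Agent.Lib.Helper9.M24C

set_option autoImplicit false

/-! The stabiliser chain of the group of the length-24 code along a base of seven points:
orders, generation, and a certificate checker for trivial pointwise stabilisers. -/

namespace Cfsg.Agent.Lib.Helper9.M24B

open Cfsg.Agent.Lib.Helper9.Golay Cfsg.Agent.Lib.Helper9.GolayC Cfsg.Agent.Lib.Helper9.M24C
open Cfsg.Agent.Lib.Helper9.Octad
open scoped Pointwise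

/-- The set of points of a bitmask. -/
def maskSet (m : ℕ) : Finset Cfsg.GolayPt :=
  Finset.univ.filter (fun p => m.testBit (idx p) = true)

theorem mem_maskSet (m : ℕ) (p : Cfsg.GolayPt) : p ∈ maskSet m ↔ m.testBit (idx p) = true := by
  simp [maskSet]

theorem maskSet_eq (m : ℕ) : maskSet m = supp (dec m) := by
  ext p
  rw [mem_maskSet, mem_supp]
  simp [dec]

theorem card_maskSet (m : ℕ) : (maskSet m).card = pc 24 m := by
  rw [maskSet_eq, ← hammingNorm_eq, norm_dec]

theorem ind_maskSet (m : ℕ) : ind (maskSet m) = dec m := by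
  rw [maskSet_eq, ind_supp]

theorem maskSet_octad (c : ℕ) (h : pc 24 (lin LB c) = 8) :
    maskSet (lin LB c) ∈ Cfsg.octads := by
  rw [mem_octads, ind_maskSet, card_maskSet]
  exact ⟨lin_mem_golay c, h⟩

theorem smul_octad {g : Equiv.Perm Cfsg.GolayPt} (hg : g ∈ Cfsg.M24) {o : Finset Cfsg.GolayPt}
    (ho : o ∈ Cfsg.octads) : g • o ∈ Cfsg.octads := by
  obtain ⟨⟨w, hw, rfl⟩, h8⟩ := ho
  refine ⟨⟨_, comp_mem_symm g hg w hw, (smul_supp g w).symm⟩, ?_⟩
  rw [Finset.card_smul_finset]
  exact h8

theorem octad_fixed {g : Equiv.Perm Cfsg.GolayPt} (hg : g ∈ Cfsg.M24) {o : Finset Cfsg.GolayPt}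
    (ho : o ∈ Cfsg.octads) (h : 5 ≤ (o.filter (fun p => g p = p)).card) : g • o = o := by
  have ho' := smul_octad hg ho
  have hsub : o.filter (fun p => g p = p) ⊆ (g • o) ∩ o := by
    intro p hp
    rw [Finset.mem_filter] at hp
    rw [Finset.mem_inter]
    refine ⟨?_, hp.1⟩
    rw [Finset.mem_smul_finset]
    exact ⟨p, hp.1, hp.2⟩
  have hc := Finset.card_le_card hsub
  rcases inter_cases ho' ho with h' | h' | h' | h'
  · omega
  · omega
  · omega
  · exact h'

theorem smul_mem_iff {g : Equiv.Perm Cfsg.GolayPt} {o : Finset Cfsg.GolayPt} (h : g • o = o)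
    (p : Cfsg.GolayPt) : g p ∈ o ↔ p ∈ o := by
  have : g p ∈ g • o ↔ p ∈ o := Finset.smul_mem_smul_finset_iff g
  rw [h] at this
  exact this

/-! ### Closure certificates -/

/-- One step: the octads with coordinates `cs` each have five known fixed points and contain
the point `p`; every other point is either known to be fixed or excluded by one of them. -/
def stepOk (F : ℕ) (cs : List ℕ) (p : ℕ) : Bool :=
  decide (p < 24) &&
  cs.all (fun c => decide (pc 24 (lin LB c) = 8) && decide (5 ≤ pc 24 (lin LB c &&& F)) &&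
    (lin LB c).testBit p) &&
  (List.range 24).all (fun q => decide (q = p) || F.testBit q ||
    cs.any (fun c => !(lin LB c).testBit q))

/-- A certificate that a permutation of the group fixing the points of `F` is the identity. -/
def closOk : ℕ → List (List ℕ × ℕ) → Bool
  | F, [] => (List.range 24).all (fun q => F.testBit q)
  | F, (cs, p) :: rest => stepOk F cs p && closOk (F ||| (1 <<< p)) rest

theorem step_sound (F : ℕ) (cs : List ℕ) (p : ℕ) (h : stepOk F cs p = true)
    (g : Equiv.Perm Cfsg.GolayPt) (hg : g ∈ Cfsg.M24)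
    (hF : ∀ q : Cfsg.GolayPt, F.testBit (idx q) = true → g q = q) :
    g (ptOf p) = ptOf p := by
  unfold stepOk at h
  rw [Bool.and_eq_true, Bool.and_eq_true, decide_eq_true_eq, List.all_eq_true,
    List.all_eq_true] at h
  obtain ⟨⟨hp, hcs⟩, hall⟩ := h
  by_contra hne
  have hq := hall (idx (g (ptOf p))) (List.mem_range.mpr (idx_lt _))
  rw [Bool.or_eq_true, Bool.or_eq_true, decide_eq_true_eq, List.any_eq_true] at hq
  rcases hq with (hq | hq) | ⟨c, hc, hq⟩
  · have h9 : ptOf (idx (g (ptOf p))) = g (ptOf p) := ptOf_idx _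
    rw [hq] at h9
    exact hne h9.symm
  · exact hne (g.injective (hF _ hq))
  · have hc' := hcs c hc
    rw [Bool.and_eq_true, Bool.and_eq_true, decide_eq_true_eq, decide_eq_true_eq] at hc'
    obtain ⟨⟨h8, h5⟩, hb⟩ := hc'
    have hoct := maskSet_octad c h8
    have hfix : g • maskSet (lin LB c) = maskSet (lin LB c) := by
      apply octad_fixed hg hoct
      calc 5 ≤ pc 24 (lin LB c &&& F) := h5
        _ = (maskSet (lin LB c &&& F)).card := (card_maskSet _).symm
        _ ≤ _ := Finset.card_le_card (by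
            intro q hq
            rw [mem_maskSet, Nat.testBit_and, Bool.and_eq_true] at hq
            rw [Finset.mem_filter, mem_maskSet]
            exact ⟨hq.1, hF q hq.2⟩)
    have hmem : ptOf p ∈ maskSet (lin LB c) := by
      rw [mem_maskSet, idx_ptOf p hp]
      exact hb
    have h2 := (smul_mem_iff hfix (ptOf p)).mpr hmem
    rw [mem_maskSet] at h2
    rw [h2] at hq
    exact Bool.noConfusion hq

theorem clos_sound (cert : List (List ℕ × ℕ)) : ∀ (F : ℕ), closOk F cert = true →
    ∀ g ∈ Cfsg.M24, (∀ q : Cfsg.GolayPt, F.testBit (idx q) = true → g q = q) → g = 1 := by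
  induction cert with
  | nil =>
    intro F h g _ hF
    unfold closOk at h
    rw [List.all_eq_true] at h
    apply Equiv.ext
    intro q
    exact hF q (h _ (List.mem_range.mpr (idx_lt q)))
  | cons a rest ih =>
    obtain ⟨cs, p⟩ := a
    intro F h g hg hF
    simp only [closOk, Bool.and_eq_true] at h
    have hp : p < 24 := by
      have h1 := h.1
      unfold stepOk at h1
      rw [Bool.and_eq_true, Bool.and_eq_true, decide_eq_true_eq] at h1
      exact h1.1.1
    apply ih (F ||| (1 <<< p)) h.2 g hg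
    intro q hq
    rw [Nat.testBit_or, Bool.or_eq_true] at hq
    rcases hq with hq | hq
    · exact hF q hq
    · have h1 : p = idx q := by
        rw [Nat.one_shiftLeft, Nat.testBit_two_pow] at hq
        simpa using hq
      have hq' : q = ptOf p := by rw [h1, ptOf_idx]
      rw [hq']
      exact step_sound F cs p h.1 g hg hF

/-! ### The stabiliser chain -/

/-- The pointwise stabiliser of the first `k` base points. -/
def Gk (k : ℕ) : Subgroup (Equiv.Perm Cfsg.GolayPt) where
  carrier := {g | g ∈ Cfsg.M24 ∧ ∀ i < k, g (B i) = B i}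
  mul_mem' := by
    rintro a b ⟨ha, ha'⟩ ⟨hb, hb'⟩
    exact ⟨mul_mem ha hb, fun i hi => by rw [Equiv.Perm.mul_apply, hb' i hi, ha' i hi]⟩
  one_mem' := ⟨one_mem _, fun i _ => rfl⟩
  inv_mem' := by
    rintro a ⟨ha, ha'⟩
    exact ⟨inv_mem ha, fun i hi => by rw [Equiv.Perm.inv_eq_iff_eq]; exact (ha' i hi).symm⟩

theorem mem_Gk (k : ℕ) (g : Equiv.Perm Cfsg.GolayPt) :
    g ∈ Gk k ↔ g ∈ Cfsg.M24 ∧ ∀ i < k, g (B i) = B i := Iff.rfl

theorem Gk_zero : Gk 0 = Cfsg.M24 := by
  ext g
  rw [mem_Gk]
  constructor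
  · exact fun h => h.1
  · exact fun h => ⟨h, fun i hi => absurd hi (Nat.not_lt_zero i)⟩

theorem B_zero : B 0 = none := by decide +kernel
theorem B_one : B 1 = some 0 := by decide +kernel
theorem B_two : B 2 = some 1 := by decide +kernel
theorem B_three : B 3 = some 2 := by decide +kernel
theorem B_four : B 4 = some 3 := by decide +kernel
theorem B_five : B 5 = some 5 := by decide +kernel
theorem B_six : B 6 = some 4 := by decide +kernel

theorem Gk_one : Gk 1 = Cfsg.Spor.M23 := by
  ext g
  rw [mem_Gk]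
  unfold Cfsg.Spor.M23
  rw [Subgroup.mem_inf, MulAction.mem_stabilizer_iff]
  constructor
  · rintro ⟨h, h'⟩
    exact ⟨h, by have := h' 0 (by norm_num); rw [B_zero] at this; exact this⟩
  · rintro ⟨h, h'⟩
    refine ⟨h, fun i hi => ?_⟩
    interval_cases i
    rw [B_zero]
    exact h'

theorem Gk_two : Gk 2 = Cfsg.Spor.M22 := by
  ext g
  rw [mem_Gk]
  unfold Cfsg.Spor.M22 Cfsg.Spor.M23
  rw [Subgroup.mem_inf, Subgroup.mem_inf, MulAction.mem_stabilizer_iff,
    MulAction.mem_stabilizer_iff]
  constructor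
  · rintro ⟨h, h'⟩
    exact ⟨⟨h, by have := h' 0 (by norm_num); rw [B_zero] at this; exact this⟩,
      by have := h' 1 (by norm_num); rw [B_one] at this; exact this⟩
  · rintro ⟨⟨h, h0⟩, h1⟩
    refine ⟨h, fun i hi => ?_⟩
    interval_cases i
    · rw [B_zero]
      exact h0
    · rw [B_one]
      exact h1

/-- The octad through the first five base points. -/
def Oset : Finset Cfsg.GolayPt := maskSet OM

theorem OM_lin : OM = lin LB 2503 := by decide +kernel

theorem Oset_mem : Oset ∈ Cfsg.octads := by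
  unfold Oset
  rw [OM_lin]
  exact maskSet_octad 2503 (by decide +kernel)

theorem B_mem_O : ∀ i < 6, OM.testBit (idx (B i)) = true := by decide +kernel

theorem B6_not_mem : OM.testBit (idx (B 6)) = false := by decide +kernel

/-- Abstract description of the orbit of the `k`-th base point. -/
def D (k : ℕ) (q : Cfsg.GolayPt) : Prop :=
  (∀ i < k, q ≠ B i) ∧ (k = 5 → q ∈ Oset) ∧ (k = 6 → q ∉ Oset)

theorem D_dB (k : ℕ) (q : Cfsg.GolayPt) (h : D k q) : dB k (idx q) = true := by
  unfold dB
  rw [Bool.and_eq_true, Bool.and_eq_true, List.all_eq_true]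
  refine ⟨⟨fun i hi => ?_, ?_⟩, ?_⟩
  · rw [List.mem_range] at hi
    rw [bne_iff_ne]
    intro heq
    apply h.1 i hi
    unfold B
    rw [← heq, ptOf_idx]
  · rw [Bool.or_eq_true]
    by_cases h5 : k = 5
    · right
      exact (mem_maskSet _ _).mp (h.2.1 h5)
    · left
      rw [bne_iff_ne]
      exact h5
  · rw [Bool.or_eq_true]
    by_cases h6 : k = 6
    · right
      have := h.2.2 h6
      unfold Oset at this
      rw [mem_maskSet] at this
      simpa using this
    · left
      rw [bne_iff_ne]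
      exact h6

theorem five_fixed (g : Equiv.Perm Cfsg.GolayPt) (h : ∀ i < 5, g (B i) = B i) :
    5 ≤ (Oset.filter (fun p => g p = p)).card := by
  have hsub : (Finset.range 5).image B ⊆ Oset.filter (fun p => g p = p) := by
    intro p hp
    rw [Finset.mem_image] at hp
    obtain ⟨i, hi, rfl⟩ := hp
    rw [Finset.mem_range] at hi
    rw [Finset.mem_filter]
    refine ⟨?_, h i hi⟩
    unfold Oset
    rw [mem_maskSet]
    exact B_mem_O i (by omega)
  have hcard : ((Finset.range 5).image B).card = 5 := by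
    rw [Finset.card_image_of_injOn, Finset.card_range]
    intro i hi j hj hij
    rw [Finset.coe_range, Set.mem_Iio] at hi hj
    exact B_inj i (by omega) j (by omega) hij
  calc 5 = _ := hcard.symm
    _ ≤ _ := Finset.card_le_card hsub

theorem O_fixed (g : Equiv.Perm Cfsg.GolayPt) (hg : g ∈ Cfsg.M24) (h : ∀ i < 5, g (B i) = B i) :
    g • Oset = Oset :=
  octad_fixed hg Oset_mem (five_fixed g h)

theorem orbit_D (k : ℕ) (hk : k < 7) (g : Equiv.Perm Cfsg.GolayPt) (hg : g ∈ Gk k) :
    D k (g (B k)) := by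
  obtain ⟨hg1, hg2⟩ := hg
  refine ⟨fun i hi heq => ?_, fun h5 => ?_, fun h6 => ?_⟩
  · rw [← hg2 i hi] at heq
    have := B_inj k hk i (by omega) (g.injective heq)
    omega
  · subst h5
    have hfix := O_fixed g hg1 hg2
    rw [smul_mem_iff hfix]
    unfold Oset
    rw [mem_maskSet]
    exact B_mem_O 5 (by norm_num)
  · subst h6
    have hfix := O_fixed g hg1 (fun i hi => hg2 i (by omega))
    rw [smul_mem_iff hfix]
    unfold Oset
    rw [mem_maskSet, B6_not_mem]
    exact Bool.false_ne_true

/-- The expected orbit as a finite set. -/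
def Δ (k : ℕ) : Finset Cfsg.GolayPt := Finset.univ.filter (fun q => dB k (idx q) = true)

set_option maxRecDepth 100000 in
theorem card_Δ : ∀ k < 7, (Δ k).card = [24, 23, 22, 21, 20, 3, 16].getD k 0 := by
  decide +kernel

theorem orbit_eq (k : ℕ) (hk : k < 7) : MulAction.orbit (Gk k) (B k) = ↑(Δ k) := by
  ext q
  constructor
  · rintro ⟨g, rfl⟩
    rw [Finset.mem_coe]
    unfold Δ
    rw [Finset.mem_filter]
    exact ⟨Finset.mem_univ _, D_dB k _ (orbit_D k hk g.1 g.2)⟩
  · intro hq
    rw [Finset.mem_coe] at hq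
    unfold Δ at hq
    rw [Finset.mem_filter] at hq
    obtain ⟨g, hg, hgq, hfix⟩ := exists_trans k hk q hq.2
    exact ⟨⟨g, H_le hg, hfix⟩, hgq⟩

theorem card_Gk (k : ℕ) (hk : k < 7) :
    Nat.card (Gk k) = (Δ k).card * Nat.card (Gk (k + 1)) := by
  have h1 := Subgroup.card_mul_index (MulAction.stabilizer (Gk k) (B k))
  rw [MulAction.index_stabilizer, orbit_eq k hk, Set.ncard_coe_finset] at h1
  have h3 : Nat.card (MulAction.stabilizer (Gk k) (B k)) = Nat.card (Gk (k + 1)) := by
    apply Nat.card_congr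
    exact
      { toFun := fun x => ⟨x.1.1, x.1.2.1, fun i hi => by
          rcases Nat.lt_succ_iff_lt_or_eq.mp hi with h | h
          · exact x.1.2.2 i h
          · rw [h]
            exact x.2⟩
        invFun := fun y => ⟨⟨y.1, y.2.1, fun i hi => y.2.2 i (by omega)⟩, y.2.2 k (by omega)⟩
        left_inv := fun x => rfl
        right_inv := fun y => rfl }
  rw [h3] at h1
  rw [← h1, mul_comm]

/-- Closure certificate for the seven base points. -/
def CERT : List (List ℕ × ℕ) := [([1577, 2958], 6), ([345, 1713], 7), ([1921, 690], 8), ([1505, 120], 9), ([289, 43], 10), ([3734], 11), ([345], 12), ([690], 13), ([1085], 14), ([43], 15), ([86], 16), ([135], 17), ([134], 18), ([41], 19), ([47], 20), ([15], 21), ([], 22)]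

set_option maxRecDepth 100000 in
theorem cert_ok : closOk 8388671 CERT = true := by decide +kernel

theorem base_bits : ∀ n < 24, (8388671).testBit n = true → ∃ i < 7, BASE.getD i 0 = n := by
  decide +kernel

theorem Gk_seven : Gk 7 = ⊥ := by
  rw [eq_bot_iff]
  intro g hg
  rw [Subgroup.mem_bot]
  apply clos_sound CERT 8388671 cert_ok g hg.1
  intro q hq
  obtain ⟨i, hi, hi'⟩ := base_bits (idx q) (idx_lt q) hq
  have : q = B i := by
    unfold B
    rw [hi', ptOf_idx]
  rw [this]
  exact hg.2 i hi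

theorem card_G7 : Nat.card (Gk 7) = 1 := by
  rw [Gk_seven]
  exact Subgroup.card_bot

theorem card_G6 : Nat.card (Gk 6) = 16 := by
  rw [card_Gk 6 (by norm_num), card_G7, card_Δ 6 (by norm_num)]
  rfl

theorem card_G5 : Nat.card (Gk 5) = 48 := by
  rw [card_Gk 5 (by norm_num), card_G6, card_Δ 5 (by norm_num)]
  rfl

theorem card_G4 : Nat.card (Gk 4) = 960 := by
  rw [card_Gk 4 (by norm_num), card_G5, card_Δ 4 (by norm_num)]
  rfl

theorem card_G3 : Nat.card (Gk 3) = 20160 := by
  rw [card_Gk 3 (by norm_num), card_G4, card_Δ 3 (by norm_num)]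
  rfl

theorem card_G2 : Nat.card (Gk 2) = 443520 := by
  rw [card_Gk 2 (by norm_num), card_G3, card_Δ 2 (by norm_num)]
  rfl

theorem card_G1 : Nat.card (Gk 1) = 10200960 := by
  rw [card_Gk 1 (by norm_num), card_G2, card_Δ 1 (by norm_num)]
  rfl

theorem card_G0 : Nat.card (Gk 0) = 244823040 := by
  rw [card_Gk 0 (by norm_num), card_G1, card_Δ 0 (by norm_num)]
  rfl

theorem card_M24 : Nat.card Cfsg.M24 = 244823040 := by
  rw [← Gk_zero]
  exact card_G0

theorem card_M23 : Nat.card Cfsg.Spor.M23 = 10200960 := by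
  rw [← Gk_one]
  exact card_G1

theorem card_M22 : Nat.card Cfsg.Spor.M22 = 443520 := by
  rw [← Gk_two]
  exact card_G2

theorem Gk_le_H : ∀ j k, k + j = 7 → Gk k ≤ H := by
  intro j
  induction j with
  | zero =>
    intro k hk
    have : k = 7 := by omega
    subst this
    rw [Gk_seven]
    exact bot_le
  | succ j ih =>
    intro k hk g hg
    have hk7 : k < 7 := by omega
    obtain ⟨u, hu, huq, hufix⟩ :=
      exists_trans k hk7 (g (B k)) (D_dB k _ (orbit_D k hk7 g hg))
    have hmem : u⁻¹ * g ∈ Gk (k + 1) := by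
      refine ⟨mul_mem (inv_mem (H_le hu)) hg.1, fun i hi => ?_⟩
      rw [Equiv.Perm.mul_apply, Equiv.Perm.inv_eq_iff_eq]
      rcases Nat.lt_succ_iff_lt_or_eq.mp hi with h | h
      · rw [hg.2 i h, hufix i h]
      · rw [h]
        exact huq.symm
    have h1 := ih (k + 1) (by omega) hmem
    have h2 : g = u * (u⁻¹ * g) := by group
    rw [h2]
    exact H.mul_mem hu h1

/-- The group of the code is generated by the three standard permutations. -/
theorem H_eq : H = Cfsg.M24 :=
  le_antisymm H_le (by rw [← Gk_zero]; exact Gk_le_H 7 0 rfl)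

/-- Transitivity along the chain, for the group itself. -/
theorem exists_move (k : ℕ) (hk : k < 7) (q : Cfsg.GolayPt) (hq : D k q) :
    ∃ g ∈ Gk k, g (B k) = q := by
  obtain ⟨g, hg, h1, h2⟩ := exists_trans k hk q (D_dB k q hq)
  exact ⟨g, ⟨H_le hg, h2⟩, h1⟩

end Cfsg.Agent.Lib.Helper9.M24B
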