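import Mathlib
import Cfsg.Prelude.Def_Sporadic_a
import Cfsg.Agent.Lib.Helper9.M24Oct

set_option autoImplicit false

/-! Dodecads of the length-24 code: transitivity of the group. -/

namespace Cfsg.Agent.Lib.Helper9.M24Dod

open Cfsg.Agent.Lib.Helper9.Golay Cfsg.Agent.Lib.Helper9.GolayC Cfsg.Agent.Lib.Helper9.M24C
open Cfsg.Agent.Lib.Helper9.Octad Cfsg.Agent.Lib.Helper9.M24B Cfsg.Agent.Lib.Helper9.M24T
open Cfsg.Agent.Lib.Helper9.M24O Cfsg.Agent.Lib.Helper9.M24Oct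
open scoped Pointwise

theorem mem_dodecads (d : Finset Cfsg.GolayPt) :
    d ∈ Cfsg.dodecads ↔ ind d ∈ Cfsg.golayCode ∧ d.card = 12 := by
  constructor
  · rintro ⟨⟨c, hc, rfl⟩, h12⟩
    have : ind (Cfsg.support₂ c) = c := ind_supp c
    exact ⟨by rw [this]; exact hc, h12⟩
  · rintro ⟨hc, h12⟩
    exact ⟨⟨ind d, hc, supp_ind d⟩, h12⟩

theorem smul_dodecad {g : Equiv.Perm Cfsg.GolayPt} (hg : g ∈ Cfsg.M24) {d : Finset Cfsg.GolayPt}
    (hd : d ∈ Cfsg.dodecads) : g • d ∈ Cfsg.dodecads := by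
  obtain ⟨⟨w, hw, rfl⟩, h12⟩ := hd
  refine ⟨⟨_, comp_mem_symm g hg w hw, (smul_supp g w).symm⟩, ?_⟩
  rw [Finset.card_smul_finset]
  exact h12

/-- Every dodecad is the symmetric difference of two octads meeting in two points. -/
theorem dodecad_decomp (d : Finset Cfsg.GolayPt) (hd : d ∈ Cfsg.dodecads) :
    ∃ o o' : Finset Cfsg.GolayPt, o ∈ Cfsg.octads ∧ o' ∈ Cfsg.octads ∧ (o ∩ o').card = 2 ∧
      d = symmDiff o o' := by
  rw [mem_dodecads] at hd
  obtain ⟨F, hFd, hF5⟩ := Finset.exists_subset_card_eq (s := d) (n := 5) (by rw [hd.2]; norm_num)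
  obtain ⟨o, ho, hFo⟩ := exists_octad5 F hF5
  have ho' := (mem_octads o).mp ho
  have h1 := norm_add (ind o) (ind d)
  rw [supp_ind, supp_ind, norm_ind, norm_ind, ho'.2, hd.2] at h1
  have h2 := norm_mem _ (Cfsg.golayCode.add_mem ho'.1 hd.1)
  have h5 : 5 ≤ (o ∩ d).card := by
    rw [← hF5]
    exact Finset.card_le_card (Finset.subset_inter hFo hFd)
  have h8 : (o ∩ d).card ≤ 8 := by
    rw [← ho'.2]
    exact Finset.card_le_card Finset.inter_subset_left
  have h6 : (o ∩ d).card = 6 := by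
    rcases h2 with h | h | h | h | h <;> omega
  have hw : hammingNorm (ind o + ind d) = 8 := by omega
  rw [ind_add, norm_ind] at hw
  refine ⟨o, symmDiff o d, ho, ?_, ?_, ?_⟩
  · rw [mem_octads, ← ind_add]
    exact ⟨Cfsg.golayCode.add_mem ho'.1 hd.1, hw⟩
  · have : o ∩ symmDiff o d = o \ d := by
      ext p
      simp only [Finset.mem_inter, Finset.mem_symmDiff, Finset.mem_sdiff]
      tauto
    rw [this]
    have := Finset.card_sdiff_add_card_inter o d
    omega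
  · exact (symmDiff_symmDiff_cancel_left o d).symm

/-- Pairs of octads with the same intersection size are conjugate. -/
theorem pair_trans (o o' p p' : Finset Cfsg.GolayPt) (ho : o ∈ Cfsg.octads)
    (ho' : o' ∈ Cfsg.octads) (hp : p ∈ Cfsg.octads) (hp' : p' ∈ Cfsg.octads)
    (h : (o ∩ o').card = (p ∩ p').card) : ∃ g ∈ Cfsg.M24, g • o = p ∧ g • o' = p' := by
  obtain ⟨g1, hg1, rfl⟩ := octad_trans o ho
  obtain ⟨g2, hg2, rfl⟩ := octad_trans p hp
  have h1 : ∀ (g0 : Equiv.Perm Cfsg.GolayPt) (x : Finset Cfsg.GolayPt),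
      (Oset ∩ g0⁻¹ • x).card = (g0 • Oset ∩ x).card := by
    intro g0 x
    have : g0 • (Oset ∩ g0⁻¹ • x) = g0 • Oset ∩ x := by
      rw [Finset.smul_finset_inter, smul_inv_smul]
    rw [← this, Finset.card_smul_finset]
  obtain ⟨g, hg, hgo⟩ := octad_orbits (g1⁻¹ • o') (g2⁻¹ • p')
    (smul_octad (inv_mem hg1) ho') (smul_octad (inv_mem hg2) hp') (by rw [h1, h1]; exact h)
  rw [mem_StabO] at hg
  refine ⟨g2 * g * g1⁻¹, mul_mem (mul_mem hg2 hg.1) (inv_mem hg1), ?_, ?_⟩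
  · rw [mul_smul, mul_smul, inv_smul_smul, hg.2]
  · rw [mul_smul, mul_smul, hgo, smul_inv_smul]

/-- The group is transitive on dodecads. -/
theorem dodecad_trans (d d' : Finset Cfsg.GolayPt) (hd : d ∈ Cfsg.dodecads)
    (hd' : d' ∈ Cfsg.dodecads) : ∃ g ∈ Cfsg.M24, g • d = d' := by
  obtain ⟨o, o', ho, ho', h2, rfl⟩ := dodecad_decomp d hd
  obtain ⟨p, p', hp, hp', h2', rfl⟩ := dodecad_decomp d' hd'
  obtain ⟨g, hg, h1, h1'⟩ := pair_trans o o' p p' ho ho' hp hp' (by rw [h2, h2'])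
  exact ⟨g, hg, by rw [Finset.smul_finset_symmDiff, h1, h1']⟩

end Cfsg.Agent.Lib.Helper9.M24Dod
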