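import Mathlib
import Cfsg.Prelude.Def_Sporadic_a
import Cfsg.Agent.Lib.Helper9.M24F

set_option autoImplicit false

/-! Orbits of a flag stabiliser on codewords (generated certificates). -/

namespace Cfsg.Agent.Lib.Helper9.M24FB

open Cfsg.Agent.Lib.Helper9.Golay Cfsg.Agent.Lib.Helper9.GolayC Cfsg.Agent.Lib.Helper9.M24C
open Cfsg.Agent.Lib.Helper9.Octad Cfsg.Agent.Lib.Helper9.M24B Cfsg.Agent.Lib.Helper9.M24T
open Cfsg.Agent.Lib.Helper9.M24O Cfsg.Agent.Lib.Helper9.M24Oct Cfsg.Agent.Lib.Helper9.M24OS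
open Cfsg.Agent.Lib.Helper9.M24Dod Cfsg.Agent.Lib.Helper9.M24M Cfsg.Agent.Lib.Helper9.M24CO
open Cfsg.Agent.Lib.Helper9.M24DO Cfsg.Agent.Lib.Helper9.M24Cnt Cfsg.Agent.Lib.Helper9.M24Cnt2
open Cfsg.Agent.Lib.Helper9.M24F
open scoped Pointwise

def PRBx : List (ℕ × ℕ) := [(0, 2), (1, 2), (2, 0), (12, 0), (223, 0), (36, 1), (224, 0), (224, 2), (225, 2), (226, 0), (227, 0), (228, 2), (229, 0), (229, 2), (230, 0), (231, 2), (5, 2), (232, 2), (233, 1), (21, 0), (234, 0), (235, 0), (236, 0), (237, 0), (238, 0), (240, 0), (241, 0), (242, 0), (243, 1), (244, 0), (17, 1), (245, 0), (246, 1), (247, 0), (248, 1), (26, 2), (249, 2), (250, 0), (251, 2), (252, 1), (255, 0), (260, 0), (259, 0), (258, 258), (258, 266), (266, 266), (268, 268), (267, 269), (265, 270), (263, 2), (257, 257), (273, 273), (273, 274), (274, 274), (276, 276), (275, 277), (272, 278), (264, 0), (262, 262), (281, 281), (281, 282), (280, 283), (261, 2),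 (256, 256), (286, 286), (286, 287), (285, 288), (254, 0), (239, 239), (291, 291), (291, 292), (290, 293), (256, 0), (253, 253), (296, 296), (253, 297), (297, 297), (298, 299), (295, 300), (271, 271), (284, 271), (284, 279), (284, 284), (294, 301), (302, 279), (307, 271), (308, 305), (289, 279), (302, 302), (310, 311), (271, 294), (271, 311), (313, 314), (306, 271), (304, 304), (317, 317), (317, 318), (318, 318), (319, 320), (316, 321), (303, 271), (323, 294), (294, 284), (325, 314)]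

def GBx : List (List ℕ) := [[23, 3, 17, 0, 4, 5, 12, 15, 11, 8, 10, 7, 16, 9, 2, 21, 18, 1, 20, 6, 22, 13, 19, 14],
  [0, 23, 3, 1, 4, 2, 16, 19, 15, 9, 11, 18, 20, 6, 17, 12, 22, 5, 8, 21, 10, 13, 7, 14],
  [0, 1, 17, 3, 4, 2, 7, 22, 16, 15, 18, 20, 8, 9, 14, 13, 12, 5, 21, 11, 19, 10, 6, 23],
  [14, 5, 0, 23, 4, 1, 6, 16, 15, 12, 20, 8, 9, 7, 17, 10, 13, 3, 11, 22, 18, 19, 21, 2],
  [1, 5, 3, 17, 4, 14, 21, 15, 16, 20, 19, 22, 12, 13, 0, 10, 8, 23, 18, 7, 6, 9, 11, 2],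
  [14, 0, 17, 1, 4, 2, 20, 7, 21, 9, 19, 11, 16, 15, 3, 13, 6, 23, 10, 22, 12, 8, 18, 5]]

set_option maxRecDepth 100000 in
theorem runBx : ∀ t ∈ GBx, t ∈ run TT PRBx := by decide +kernel

set_option maxRecDepth 100000 in
theorem okBx : ∀ t ∈ GBx, ksOk 8536111 [4] t = true := by decide +kernel

theorem memBx : ∀ t ∈ GBx, ∃ g ∈ KS 8536111 [4], IsTable g t :=
  ks_mem PRBx GBx 8536111 [4] runBx okBx

def cBx0 : ℕ := 35

set_option maxRecDepth 100000 in
def QBx0 : List (ℕ × ℕ × ℕ) := [(1773, 0, 35), (1051, 1, 35), (1347, 2, 35), (1973, 3, 35), (1376, 5, 35), (1742, 3, 1773), (1080, 4, 1773), (1942, 0, 1051), (758, 1, 1051), (909, 2, 1051), (344, 5, 1051), (379, 1, 1347), (725, 3, 1347), (942, 3, 909)]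

set_option maxRecDepth 100000 in
theorem covBx0 : coverB (orbC GBx (1 <<< cBx0) QBx0) (selL 8 [(8536111, 0), (16, 0)]) = true := by
  decide +kernel

set_option maxRecDepth 100000 in
theorem cntBx0 : (List.range 4096).countP (selL 8 [(8536111, 0), (16, 0)]) = 15 := by
  decide +kernel

def cBx4 : ℕ := 15

set_option maxRecDepth 100000 in
def QBx4 : List (ℕ × ℕ × ℕ) := [(1654, 0, 15), (347, 1, 15), (898, 2, 15), (3631, 3, 15), (2504, 4, 15), (2813, 5, 15), (2399, 0, 1654), (4024, 1, 1654), (1257, 2, 1654), (2802, 3, 1654), (2981, 4, 1654), (3933, 5, 1654), (3003, 0, 347), (2332, 1, 347), (560, 2, 347), (845, 3, 347), (1428, 4, 347), (3374, 5, 347), (821, 0, 898), (376, 1, 898), (1044, 2, 898), (3457, 3, 898), (2629, 4, 898), (3123, 5, 898), (3335, 0, 3631), (3063, 1, 3631), (2542, 3, 3631), (3867, 4, 3631), (1094, 5, 3631), (4017, 0, 2504), (2204, 1, 2504), (2024, 3, 2504), (826, 5, 2504), (1631, 1, 2813), (3020,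 2, 2813), (4047, 3, 2813), (2698, 5, 2813), (2477, 1, 2399), (3654, 2, 2399), (654, 3, 2399), (1677, 4, 2399), (2370, 5, 2399), (1700, 0, 4024), (236, 1, 4024), (3779, 2, 4024), (2495, 1, 1257), (1953, 2, 1257), (1169, 3, 1257), (219, 4, 1257), (3992, 5, 1257), (1837, 0, 2802), (1796, 1, 2802), (2126, 2, 2802), (480, 3, 2802), (119, 5, 2802), (1490, 1, 2981), (3361, 2, 2981), (3391, 5, 2981), (3573, 0, 3933), (787, 3, 3933), (1914, 4, 3933), (38, 0, 3003), (534, 1, 3003), (3689, 4, 3003), (2772, 5, 3003), (3773, 0, 2332), (2711, 1, 2332), (523, 3, 2332), (242, 4, 2332), (478, 5, 2332), (3633, 0, 560), (2480, 1, 560), (3776, 3, 560), (2073, 4, 560), (370, 5, 560), (2229, 0, 845), (1381, 2, 845), (2578, 3, 845), (120, 5, 845), (2529, 1, 1428), (1120, 2, 1428), (67, 3, 1428), (3730, 5, 1428), (610, 0, 3374), (3686, 2, 3374), (3414, 3, 3374), (3818, 0, 821), (393, 2, 821), (2087, 3, 821), (1907, 2, 376), (1272, 3,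 376), (889, 4, 376), (941, 1, 1044), (2242, 3, 1044), (3539, 4, 1044), (3753, 0, 3457), (2954, 2, 3457), (2683, 4, 3457), (2239, 1, 2629), (1524, 5, 2629), (1799, 1, 3123), (2362, 2, 3123), (3764, 3, 3123), (2729, 5, 3123), (2347, 0, 3335), (2145, 1, 3335), (3093, 2, 3335), (1254, 3, 3335), (134, 5, 3335), (2038, 0, 3063), (3939, 2, 3063), (2996, 2, 2542), (1074, 4, 2542), (3870, 5, 2542), (1921, 0, 3867), (3184, 2, 3867), (956, 3, 3867), (981, 4, 3867), (1902, 0, 1094), (1544, 1, 1094), (589, 2, 1094), (152, 0, 4017), (1663, 1, 4017), (1690, 5, 4017), (636, 0, 2204), (3155, 4, 2204), (1216, 0, 2024), (41, 3, 2024), (1756, 4, 2024), (834, 3, 1631), (1616, 4, 1631), (2436, 5, 1631), (2641, 2, 3020), (1463, 3, 3020), (1260, 4, 3020), (808, 4, 4047), (3213, 5, 4047), (3234, 2, 2698), (740, 1, 2477), (2666, 2, 2477), (1922, 5, 2477), (1966, 3, 3654), (212, 2, 654), (878, 4, 654), (848, 0, 1677), (510, 3, 1677), (1194,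 4, 1677), (1501, 0, 2370), (2693, 2, 2370), (3437, 0, 236), (1304, 4, 236), (106, 0, 3779), (2563, 4, 3779), (3371, 2, 2495), (3058, 3, 2495), (3336, 1, 1953), (3578, 0, 1169), (918, 4, 1169), (2357, 4, 219), (3025, 0, 3992), (3991, 4, 3992), (1753, 2, 1837), (627, 5, 1837), (964, 4, 1796), (3653, 2, 2126), (2102, 3, 2126), (2251, 5, 480), (3098, 3, 119), (1877, 0, 1490), (268, 2, 1490), (3914, 5, 1490), (291, 1, 3361), (3556, 2, 3361), (1354, 0, 3391), (1767, 1, 3391), (2889, 5, 3391), (2105, 2, 3573), (3672, 1, 1914), (497, 2, 38), (1951, 3, 38), (1085, 4, 38), (3108, 5, 38), (782, 0, 534), (2369, 3, 3689), (1438, 5, 3689), (3452, 1, 2711), (1786, 3, 2711), (1231, 5, 2711), (3495, 1, 523), (1068, 2, 242), (1059, 1, 478), (3161, 0, 3633), (3563, 1, 3776), (261, 1, 370), (422, 4, 2229), (2761, 5, 1381), (2851, 2, 2578), (3901, 4, 2578), (565, 3, 120), (133, 1, 2529), (1507, 5, 2529), (1211, 4, 3730), (3295, 1,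 393), (3872, 1, 1272), (2276, 3, 1272), (253, 3, 3753), (2750, 4, 2239), (2323, 4, 1254), (2799, 1, 1074)]

set_option maxRecDepth 100000 in
theorem covBx4 : coverB (orbC GBx (1 <<< cBx4) QBx4) (selL 8 [(8536111, 4), (16, 0)]) = true := by
  decide +kernel

set_option maxRecDepth 100000 in
theorem cntBx4 : (List.range 4096).countP (selL 8 [(8536111, 4), (16, 0)]) = 210 := by
  decide +kernel

def cBx2 : ℕ := 30

set_option maxRecDepth 100000 in
def QBx2 : List (ℕ × ℕ × ℕ) := [(350, 0, 30), (1988, 1, 30), (602, 3, 30), (472, 4, 30), (2027, 5, 30), (105, 0, 350), (1093, 1, 350), (1666, 2, 350), (871, 3, 350), (1860, 4, 350), (1130, 5, 350), (1115, 0, 1988), (1904, 1, 1988), (1625, 2, 1988), (2483, 3, 1988), (2553, 4, 1988), (540, 5, 1988), (1246, 0, 602), (659, 1, 602), (1289, 2, 602), (2037, 3, 602), (915, 4, 602), (3895, 5, 602), (1003, 1, 472), (285, 2, 472), (2676, 3, 472), (2518, 4, 472), (772, 5, 472), (3928,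 0, 2027), (2209, 1, 2027), (1884, 3, 2027), (1547, 4, 2027), (1818, 5, 2027), (375, 0, 105), (434, 1, 105), (3648, 3, 105), (2909, 4, 105), (3318, 0, 1093), (3225, 1, 1093), (1680, 2, 1093), (839, 3, 1093), (875, 4, 1093), (1204, 5, 1093), (1318, 0, 1666), (825, 1, 1666), (170, 2, 1666), (4049, 3, 1666), (3426, 4, 1666), (578, 5, 1666), (2148, 0, 871), (2918, 1, 871), (971, 2, 871), (1239, 3, 871), (1170, 4, 871), (3130, 5, 871), (1814, 1, 1860), (425, 2, 1860), (2047, 3, 1860), (1388, 4, 1860), (1709, 5, 1860), (840, 1, 1130), (1164, 2, 1130), (3496, 3, 1130), (1678, 2, 1115), (691, 4, 1115), (863, 5, 1115), (1817, 2, 1904), (2912, 3, 1904), (2454, 4, 1904), (3332, 5, 1904), (604, 0, 1625), (1781, 2, 1625), (1053, 3, 1625), (1111, 4, 1625), (2651, 5, 1625), (630, 0, 2483), (1312, 1, 2483), (680, 3, 2483), (917, 4, 2483), (1516, 0, 2553), (137, 1, 2553), (2119, 2, 2553), (3621, 4, 2553), (471, 5, 2553), (3754,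 0, 540), (3312, 1, 540), (101, 2, 540), (1882, 3, 540), (1852, 4, 540), (3823, 5, 540), (1634, 1, 1246), (1484, 2, 1246), (3963, 3, 1246), (3860, 0, 659), (3533, 1, 659), (1047, 2, 659), (1849, 3, 659), (609, 4, 659), (163, 5, 659), (47, 0, 1289), (1234, 1, 1289), (1875, 2, 1289), (2848, 3, 1289), (3304, 4, 1289), (3590, 0, 2037), (3941, 1, 2037), (1286, 3, 2037), (2003, 4, 2037), (241, 5, 2037), (2023, 1, 915), (1928, 2, 915), (500, 3, 915), (597, 4, 915), (293, 5, 915), (465, 1, 3895), (2737, 2, 3895), (2598, 3, 3895), (202, 1, 1003), (868, 2, 1003), (961, 3, 1003), (280, 4, 1003), (2285, 5, 1003), (463, 0, 285), (1919, 1, 285), (994, 3, 285), (315, 4, 285), (175, 0, 2676), (2291, 3, 2676), (1458, 3, 2518), (1233, 5, 2518), (1207, 0, 772), (1750, 1, 772), (907, 2, 772), (1575, 0, 3928), (1963, 1, 3928), (3502, 2, 3928), (1450, 4, 3928), (1487, 0, 2209), (647, 0, 1884), (762, 3, 1884), (1715, 4, 1884), (665,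 5, 1884), (2616, 4, 1547), (2425, 1, 1818), (833, 5, 1818), (3164, 1, 375), (1265, 2, 375), (2775, 3, 375), (2248, 1, 434), (688, 2, 434), (3393, 5, 434), (3469, 1, 3648), (1601, 4, 3648), (239, 0, 2909), (3645, 2, 2909), (1934, 3, 2909), (70, 5, 2909), (1417, 0, 3318), (1826, 3, 3318), (1371, 5, 3318), (1513, 1, 3225), (2448, 4, 3225), (1445, 4, 1680), (1297, 0, 839), (1418, 0, 875), (172, 1, 875), (1172, 2, 875), (1633, 2, 1204), (1614, 3, 1204), (1916, 4, 1204), (2860, 0, 1318), (2819, 1, 1318), (1359, 2, 1318), (794, 4, 1318), (381, 3, 825), (750, 1, 170), (439, 4, 170), (1029, 3, 4049), (752, 4, 4049), (537, 1, 3426), (1020, 3, 3426), (1707, 4, 3426), (1086, 5, 3426), (1482, 0, 578), (671, 1, 578), (1400, 2, 578), (76, 4, 578), (1936, 1, 2148), (2283, 2, 2148), (1779, 3, 2148), (2831, 2, 2918), (1342, 3, 2918), (274, 5, 2918), (769, 3, 971), (1569, 2, 1239), (1027, 1, 1170), (3275, 5, 1170), (1425, 0, 3130),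 (404, 1, 3130), (1000, 4, 3130), (1309, 0, 1814), (807, 5, 1814), (1564, 2, 425), (305, 3, 425), (340, 4, 425), (1006, 5, 425), (930, 0, 2047), (3254, 0, 1388), (694, 2, 1709), (318, 3, 1709), (656, 4, 1709), (2364, 5, 840), (967, 1, 1164), (1504, 0, 3496), (2006, 1, 3496), (1675, 3, 1678), (1149, 4, 1678), (548, 5, 1678), (2041, 3, 691), (715, 4, 1817), (2522, 5, 1817), (326, 1, 2912), (717, 5, 2912), (2589, 5, 3332), (1382, 2, 604), (1295, 0, 1781), (2012, 0, 1053), (151, 1, 1111), (2988, 4, 1111), (543, 5, 2651), (968, 2, 630), (3695, 3, 630), (394, 5, 1312), (503, 5, 680), (82, 4, 917), (2942, 0, 1516), (3788, 1, 1516), (140, 2, 1516), (575, 4, 1516), (3475, 5, 137), (413, 0, 471), (1736, 1, 3754), (1475, 0, 3312), (125, 3, 3312), (1668, 5, 3312), (2680, 1, 101), (1208, 5, 101), (210, 1, 1882), (59, 1, 1852), (1349, 2, 1852), (570, 1, 3823), (1150, 1, 1634), (357, 4, 1634), (944, 1, 3963), (4082, 2, 3860),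 (4023, 3, 1047), (3614, 0, 1849), (1697, 4, 609), (3683, 5, 609), (3285, 3, 1875), (94, 3, 3590), (1140, 1, 3941), (1977, 3, 202), (1199, 5, 961), (700, 1, 463), (1179, 2, 1919), (197, 0, 1207), (2000, 1, 1207), (266, 4, 1750), (1097, 0, 1575), (729, 3, 1450), (3199, 1, 762), (1538, 1, 3393), (2190, 5, 1826), (1576, 0, 1172), (2959, 0, 2819), (1330, 1, 1029), (1572, 5, 1020), (1543, 3, 1086)]

set_option maxRecDepth 100000 in
theorem covBx2 : coverB (orbC GBx (1 <<< cBx2) QBx2) (selL 8 [(8536111, 2), (16, 0)]) = true := by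
  decide +kernel

set_option maxRecDepth 100000 in
theorem cntBx2 : (List.range 4096).countP (selL 8 [(8536111, 2), (16, 0)]) = 280 := by
  decide +kernel

theorem selB_iff (k : ℕ) (s : Finset Cfsg.GolayPt) :
    SelL Cfsg.octads [(OM, k), (1 <<< 4, 0)] s ↔
      s ∈ Cfsg.octads ∧ ptOf 4 ∉ s ∧ (Oset ∩ s).card = k := by
  rw [selL2, notMem_iff_card (ptOf 4) s, idx_ptOf 4 (by norm_num)]
  unfold Oset
  exact ⟨fun ⟨a, b, c⟩ => ⟨a, c, b⟩, fun ⟨a, b, c⟩ => ⟨a, c, b⟩⟩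

theorem stdB_cnt (k n : ℕ) (h : (List.range 4096).countP (selL 8 [(OM, k), (1 <<< 4, 0)]) = n) :
    {o' : Finset Cfsg.GolayPt | o' ∈ Cfsg.octads ∧ ptOf 4 ∉ o' ∧ (Oset ∩ o').card = k}.ncard
      = n := by
  have e : {o' : Finset Cfsg.GolayPt | o' ∈ Cfsg.octads ∧ ptOf 4 ∉ o' ∧ (Oset ∩ o').card = k} =
      {s | SelL Cfsg.octads [(OM, k), (1 <<< 4, 0)] s} := by
    ext s
    exact (selB_iff k s).symm
  rw [e, ncard_sel8, h]

theorem stdB_orb (o' o'' : Finset Cfsg.GolayPt) (ho' : o' ∈ Cfsg.octads)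
    (ho'' : o'' ∈ Cfsg.octads) (hx' : ptOf 4 ∉ o') (hx'' : ptOf 4 ∉ o'')
    (h : (Oset ∩ o').card = (Oset ∩ o'').card) : ∃ g ∈ KS OM [4], g • o' = o'' := by
  have h8 : Oset.card = 8 := ((mem_octads _).mp Oset_mem).2
  rcases inter_cases Oset_mem ho' with h0 | h2 | h4 | h8'
  · exact orb_sel8 _ GBx memBx _ cBx0 QBx0 covBx0 o' o'' ((selB_iff 0 o').mpr ⟨ho', hx', h0⟩)
      ((selB_iff 0 o'').mpr ⟨ho'', hx'', by omega⟩)
  · exact orb_sel8 _ GBx memBx _ cBx2 QBx2 covBx2 o' o'' ((selB_iff 2 o').mpr ⟨ho', hx', h2⟩)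
      ((selB_iff 2 o'').mpr ⟨ho'', hx'', by omega⟩)
  · exact orb_sel8 _ GBx memBx _ cBx4 QBx4 covBx4 o' o'' ((selB_iff 4 o').mpr ⟨ho', hx', h4⟩)
      ((selB_iff 4 o'').mpr ⟨ho'', hx'', by omega⟩)
  · rw [← h8', Finset.inter_self, h8] at h
    have : Oset = o'' := by
      rcases inter_cases Oset_mem ho'' with h0 | h2 | h4 | h8''
      · omega
      · omega
      · omega
      · exact h8''
    exact ⟨1, one_mem _, by rw [one_smul, ← h8', this]⟩

/-- Orbits of the stabiliser of an octad and a point outside it on the octads avoiding the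
point. -/
theorem thmB (x : Cfsg.GolayPt) (o : Finset Cfsg.GolayPt) (ho : o ∈ Cfsg.octads) (hx : x ∉ o) :
    {o' : Finset Cfsg.GolayPt | o' ∈ Cfsg.octads ∧ x ∉ o' ∧ (o ∩ o').card = 0}.ncard = 15 ∧
    {o' : Finset Cfsg.GolayPt | o' ∈ Cfsg.octads ∧ x ∉ o' ∧ (o ∩ o').card = 4}.ncard = 210 ∧
    {o' : Finset Cfsg.GolayPt | o' ∈ Cfsg.octads ∧ x ∉ o' ∧ (o ∩ o').card = 2}.ncard = 280 ∧
    ∀ o' o'' : Finset Cfsg.GolayPt, o' ∈ Cfsg.octads → o'' ∈ Cfsg.octads → x ∉ o' → x ∉ o'' →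
      (o ∩ o').card = (o ∩ o'').card →
      ∃ g : Equiv.Perm Cfsg.GolayPt, g ∈ Cfsg.M24 ∧ g x = x ∧ g • o = o ∧ g • o' = o'' := by
  obtain ⟨g0, hg0, rfl, hg0x⟩ := octad_pt_trans o ho x hx
  have hx0 : g0 (ptOf 4) = x := hg0x
  subst hx0
  have htr : ∀ k : ℕ, ∀ s : Finset Cfsg.GolayPt,
      g0 • s ∈ {o' : Finset Cfsg.GolayPt | o' ∈ Cfsg.octads ∧ g0 (ptOf 4) ∉ o' ∧
        (g0 • Oset ∩ o').card = k} ↔
      s ∈ {o' : Finset Cfsg.GolayPt | o' ∈ Cfsg.octads ∧ ptOf 4 ∉ o' ∧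
        (Oset ∩ o').card = k} := by
    intro k s
    exact ⟨fun ⟨h1, h2, h3⟩ => ⟨(smul_octad_iff hg0 s).mp h1,
        fun h => h2 ((mem_smul_iff g0 _ s).mpr h), by rw [← card_inter_smul g0]; exact h3⟩,
      fun ⟨h1, h2, h3⟩ => ⟨(smul_octad_iff hg0 s).mpr h1,
        fun h => h2 ((mem_smul_iff g0 _ s).mp h), by rw [card_inter_smul g0]; exact h3⟩⟩
  refine ⟨?_, ?_, ?_, ?_⟩
  · rw [ncard_transfer g0 _ _ (htr 0)]
    exact stdB_cnt 0 15 cntBx0
  · rw [ncard_transfer g0 _ _ (htr 4)]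
    exact stdB_cnt 4 210 cntBx4
  · rw [ncard_transfer g0 _ _ (htr 2)]
    exact stdB_cnt 2 280 cntBx2
  · intro o' o'' ho' ho'' hx' hx'' h
    obtain ⟨k, hk, hko⟩ := stdB_orb (g0⁻¹ • o') (g0⁻¹ • o'') (smul_octad (inv_mem hg0) ho')
      (smul_octad (inv_mem hg0) ho'') (fun h => hx' ((inv_smul_mem_iff g0 _ o').mp h))
      (fun h => hx'' ((inv_smul_mem_iff g0 _ o'').mp h))
      (by rw [card_inter_inv_smul, card_inter_inv_smul]; exact h)
    obtain ⟨c1, c2, c3, c4⟩ := conj_KS g0 k hg0 OM [4] hk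
    exact ⟨g0 * k * g0⁻¹, c1, c3 4 (by simp), c2, c4 o' o'' hko⟩

end Cfsg.Agent.Lib.Helper9.M24FB
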