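import Mathlib
import Cfsg.Prelude.Def_Sporadic_a
import Cfsg.Agent.Lib.Helper9.M24Oct

set_option autoImplicit false

/-! The stabiliser of an octad: order and the induced alternating group. -/

namespace Cfsg.Agent.Lib.Helper9.M24OS

open Cfsg.Agent.Lib.Helper9.Golay Cfsg.Agent.Lib.Helper9.GolayC Cfsg.Agent.Lib.Helper9.M24C
open Cfsg.Agent.Lib.Helper9.Octad Cfsg.Agent.Lib.Helper9.M24B Cfsg.Agent.Lib.Helper9.M24T
open Cfsg.Agent.Lib.Helper9.M24O Cfsg.Agent.Lib.Helper9.M24Oct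
open scoped Pointwise

/-- The setwise stabiliser of a set of points in the group of the code. -/
def StabS (o : Finset Cfsg.GolayPt) : Subgroup (Equiv.Perm Cfsg.GolayPt) :=
  Cfsg.M24 ⊓ MulAction.stabilizer (Equiv.Perm Cfsg.GolayPt) o

theorem mem_StabS (o : Finset Cfsg.GolayPt) (g : Equiv.Perm Cfsg.GolayPt) :
    g ∈ StabS o ↔ g ∈ Cfsg.M24 ∧ g • o = o := by
  unfold StabS
  exact Subgroup.mem_inf

theorem orbit_octad (o : Finset Cfsg.GolayPt) (ho : o ∈ Cfsg.octads) :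
    MulAction.orbit Cfsg.M24 o = Cfsg.octads := by
  ext x
  constructor
  · rintro ⟨g, rfl⟩
    exact smul_octad g.2 ho
  · intro hx
    obtain ⟨g1, hg1, h1⟩ := octad_trans o ho
    obtain ⟨g2, hg2, h2⟩ := octad_trans x hx
    refine ⟨⟨g2 * g1⁻¹, mul_mem hg2 (inv_mem hg1)⟩, ?_⟩
    show (g2 * g1⁻¹) • o = x
    rw [← h1, ← h2, mul_smul, inv_smul_smul]

theorem card_stab_sub (o : Finset Cfsg.GolayPt) :
    Nat.card (MulAction.stabilizer Cfsg.M24 o) = Nat.card (StabS o) := by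
  apply Nat.card_congr
  exact
    { toFun := fun x => ⟨x.1.1, x.1.2, x.2⟩
      invFun := fun y => ⟨⟨y.1, y.2.1⟩, y.2.2⟩
      left_inv := fun _ => rfl
      right_inv := fun _ => rfl }

theorem card_StabS (o : Finset Cfsg.GolayPt) (ho : o ∈ Cfsg.octads) :
    Nat.card (StabS o) = 322560 := by
  have h1 := Subgroup.card_mul_index (MulAction.stabilizer Cfsg.M24 o)
  rw [MulAction.index_stabilizer, orbit_octad o ho, card_octads, card_M24, card_stab_sub] at h1
  omega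

theorem smul_eq_of_fix {o : Finset Cfsg.GolayPt} {g : Equiv.Perm Cfsg.GolayPt}
    (h : ∀ p ∈ o, g p = p) : g • o = o := by
  ext q
  rw [Finset.mem_smul_finset]
  constructor
  · rintro ⟨p, hp, rfl⟩
    show g p ∈ o
    rw [h p hp]
    exact hp
  · intro hq
    exact ⟨q, hq, h q hq⟩

/-- Restriction of the stabiliser to the set. -/
def res (o : Finset Cfsg.GolayPt) : ↥(StabS o) →* Equiv.Perm ↥o where
  toFun g := (g : Equiv.Perm Cfsg.GolayPt).subtypePerm (fun x => smul_mem_iff g.2.2 x)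
  map_one' := by
    ext x
    rfl
  map_mul' := fun a b => by
    ext x
    rfl

theorem res_apply (o : Finset Cfsg.GolayPt) (g : ↥(StabS o)) (x : ↥o) :
    ((res o g) x : Cfsg.GolayPt) = (g : Equiv.Perm Cfsg.GolayPt) x := rfl

theorem card_fix_octad (o : Finset Cfsg.GolayPt) (ho : o ∈ Cfsg.octads) :
    Nat.card ↥(Cfsg.M24 ⊓ fixingSubgroup (Equiv.Perm Cfsg.GolayPt) (o : Set Cfsg.GolayPt)) = 16 := by
  obtain ⟨g0, hg0, rfl⟩ := octad_trans o ho
  rw [← card_G6]
  apply Nat.card_congr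
  exact
    { toFun := fun h => ⟨g0⁻¹ * h.1 * g0, (octad_fix_conj g0 hg0 h.1).mp h.2⟩
      invFun := fun y => ⟨g0 * y.1 * g0⁻¹, by
        rw [octad_fix_conj g0 hg0]
        have : g0⁻¹ * (g0 * y.1 * g0⁻¹) * g0 = y.1 := by group
        rw [this]
        exact y.2⟩
      left_inv := fun h => by
        apply Subtype.ext
        show g0 * (g0⁻¹ * h.1 * g0) * g0⁻¹ = h.1
        group
      right_inv := fun y => by
        apply Subtype.ext
        show g0⁻¹ * (g0 * y.1 * g0⁻¹) * g0 = y.1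
        group }

theorem card_ker_res (o : Finset Cfsg.GolayPt) (ho : o ∈ Cfsg.octads) :
    Nat.card (res o).ker = 16 := by
  rw [← card_fix_octad o ho]
  apply Nat.card_congr
  exact
    { toFun := fun x => ⟨x.1.1, x.1.2.1, by
        show x.1.1 ∈ fixingSubgroup (Equiv.Perm Cfsg.GolayPt) (o : Set Cfsg.GolayPt)
        rw [mem_fixingSubgroup_iff]
        intro p hp
        have h1 : res o x.1 = 1 := x.2
        have h2 := congrArg (fun e : Equiv.Perm ↥o => ((e ⟨p, hp⟩ : ↥o) : Cfsg.GolayPt)) h1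
        exact h2⟩
      invFun := fun y => ⟨⟨y.1, y.2.1, smul_eq_of_fix (fun p hp =>
          (mem_fixingSubgroup_iff _).mp y.2.2 p hp)⟩, by
        rw [MonoidHom.mem_ker]
        apply Equiv.ext
        intro x
        apply Subtype.ext
        exact (mem_fixingSubgroup_iff _).mp y.2.2 x.1 x.2⟩
      left_inv := fun _ => rfl
      right_inv := fun _ => rfl }

theorem card_range_res (o : Finset Cfsg.GolayPt) (ho : o ∈ Cfsg.octads) :
    Nat.card (res o).range = 20160 := by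
  have h1 := Subgroup.card_mul_index (res o).ker
  rw [Subgroup.index_ker, card_ker_res o ho, card_StabS o ho] at h1
  omega

/-- The stabiliser of an octad induces the alternating group on it. -/
theorem range_res (o : Finset Cfsg.GolayPt) (ho : o ∈ Cfsg.octads) :
    (res o).range = alternatingGroup ↥o := by
  apply Equiv.Perm.eq_alternatingGroup_of_index_eq_two
  have h1 := Subgroup.card_mul_index (res o).range
  have h2 : Nat.card (Equiv.Perm ↥o) = 40320 := by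
    rw [Nat.card_eq_fintype_card, Fintype.card_perm, Fintype.card_coe, ho.2]
    rfl
  rw [card_range_res o ho, h2] at h1
  omega

theorem smul_eq_of_iff {o : Finset Cfsg.GolayPt} {g : Equiv.Perm Cfsg.GolayPt}
    (h : ∀ x, g x ∈ o ↔ x ∈ o) : g • o = o := by
  ext q
  rw [Finset.mem_smul_finset]
  constructor
  · rintro ⟨p, hp, rfl⟩
    exact (h p).mpr hp
  · intro hq
    refine ⟨g⁻¹ q, ?_, by simp⟩
    have h1 := h (g⁻¹ q)
    have h2 : g (g⁻¹ q) = q := by simp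
    rw [h2] at h1
    exact h1.mp hq

/-- The set of permutations induced on an octad is the alternating group. -/
theorem induced_eq (o : Finset Cfsg.GolayPt) (ho : o ∈ Cfsg.octads) :
    {e : Equiv.Perm ↥o | ∃ g : Equiv.Perm Cfsg.GolayPt, g ∈ Cfsg.M24 ∧
      ∃ h : (∀ x, g x ∈ o ↔ x ∈ o), g.subtypePerm h = e} =
      (alternatingGroup ↥o : Set (Equiv.Perm ↥o)) := by
  rw [← range_res o ho]
  ext e
  constructor
  · rintro ⟨g, hg, h, rfl⟩
    exact ⟨⟨g, hg, smul_eq_of_iff h⟩, rfl⟩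
  · rintro ⟨x, rfl⟩
    exact ⟨x.1, x.2.1, fun y => smul_mem_iff x.2.2 y, rfl⟩

/-- Transitivity on pairs (octad, point outside it). -/
theorem octad_pt_trans (o : Finset Cfsg.GolayPt) (ho : o ∈ Cfsg.octads) (p : Cfsg.GolayPt)
    (hp : p ∉ o) : ∃ g ∈ Cfsg.M24, g • Oset = o ∧ g (B 6) = p := by
  obtain ⟨g0, hg0, rfl⟩ := octad_trans o ho
  have hD : D 6 (g0⁻¹ p) := by
    have h6 : g0⁻¹ p ∉ Oset := by
      intro h
      apply hp
      have := Finset.smul_mem_smul_finset (a := g0) h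
      simpa using this
    refine ⟨fun i hi heq => h6 ?_, fun h => by omega, fun _ => h6⟩
    rw [heq]
    unfold Oset
    rw [mem_maskSet]
    exact B_mem_O i hi
  obtain ⟨u, hu, hu6⟩ := exists_move 6 (by norm_num) _ hD
  refine ⟨g0 * u, mul_mem hg0 hu.1, ?_, ?_⟩
  · rw [mul_smul]
    congr 1
    exact smul_eq_of_fix ((Gk6_iff u).mp hu).2
  · rw [Equiv.Perm.mul_apply, hu6]
    simp

theorem fix_inf_stab (o : Finset Cfsg.GolayPt) (ho : o ∈ Cfsg.octads) (p : Cfsg.GolayPt)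
    (hp : p ∉ o) (g : Equiv.Perm Cfsg.GolayPt) (hg : g ∈ Cfsg.M24) (hfix : ∀ x ∈ o, g x = x)
    (hgp : g p = p) : g = 1 := by
  obtain ⟨g0, hg0, rfl, rfl⟩ := octad_pt_trans o ho p hp
  have h7 : g0⁻¹ * g * g0 ∈ Gk 7 := by
    refine ⟨mul_mem (mul_mem (inv_mem hg0) hg) hg0, fun i hi => ?_⟩
    rw [Equiv.Perm.mul_apply, Equiv.Perm.mul_apply, Equiv.Perm.inv_eq_iff_eq]
    rcases Nat.lt_succ_iff_lt_or_eq.mp hi with h | h
    · apply hfix
      apply Finset.smul_mem_smul_finset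
      unfold Oset
      rw [mem_maskSet]
      exact B_mem_O i h
    · rw [h]
      exact hgp
  rw [Gk_seven, Subgroup.mem_bot] at h7
  have : g = g0 * (g0⁻¹ * g * g0) * g0⁻¹ := by group
  rw [this, h7]
  group

theorem notMem_D6 (q : Cfsg.GolayPt) (h6 : q ∉ Oset) : D 6 q := by
  refine ⟨fun i hi heq => h6 ?_, fun h => by omega, fun _ => h6⟩
  rw [heq]
  unfold Oset
  rw [mem_maskSet]
  exact B_mem_O i hi

/-- The pointwise stabiliser of an octad is transitive on the points outside it. -/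
theorem fix_trans (o : Finset Cfsg.GolayPt) (ho : o ∈ Cfsg.octads) (p q : Cfsg.GolayPt)
    (hp : p ∉ o) (hq : q ∉ o) :
    ∃ k ∈ Cfsg.M24, (∀ x ∈ o, k x = x) ∧ k p = q := by
  obtain ⟨g0, hg0, rfl⟩ := octad_trans o ho
  have hout : ∀ r : Cfsg.GolayPt, r ∉ g0 • Oset → g0⁻¹ r ∉ Oset := by
    intro r hr h
    apply hr
    have := Finset.smul_mem_smul_finset (a := g0) h
    simpa using this
  obtain ⟨u1, hu1, hu1'⟩ := exists_move 6 (by norm_num) _ (notMem_D6 _ (hout p hp))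
  obtain ⟨u2, hu2, hu2'⟩ := exists_move 6 (by norm_num) _ (notMem_D6 _ (hout q hq))
  have hu : u2 * u1⁻¹ ∈ Gk 6 := mul_mem hu2 (inv_mem hu1)
  refine ⟨g0 * (u2 * u1⁻¹) * g0⁻¹, mul_mem (mul_mem hg0 hu.1) (inv_mem hg0), ?_, ?_⟩
  · intro x hx
    rw [Finset.mem_smul_finset] at hx
    obtain ⟨y, hy, rfl⟩ := hx
    have := ((Gk6_iff _).mp hu).2 y hy
    show (g0 * (u2 * u1⁻¹) * g0⁻¹) (g0 y) = g0 y
    rw [Equiv.Perm.mul_apply, Equiv.Perm.mul_apply]
    simp [this]
  · have h1 : u1⁻¹ (g0⁻¹ p) = B 6 := by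
      rw [Equiv.Perm.inv_eq_iff_eq]
      exact hu1'.symm
    rw [Equiv.Perm.mul_apply, Equiv.Perm.mul_apply, Equiv.Perm.mul_apply, h1, hu2']
    simp

theorem octad_split (o : Finset Cfsg.GolayPt) (ho : o ∈ Cfsg.octads) (p : Cfsg.GolayPt)
    (hp : p ∉ o) :
    (Cfsg.M24 ⊓ fixingSubgroup (Equiv.Perm Cfsg.GolayPt) (o : Set Cfsg.GolayPt)) ⊓
      (Cfsg.M24 ⊓ MulAction.stabilizer (Equiv.Perm Cfsg.GolayPt) o ⊓
        MulAction.stabilizer (Equiv.Perm Cfsg.GolayPt) p) = ⊥ ∧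
    (Cfsg.M24 ⊓ fixingSubgroup (Equiv.Perm Cfsg.GolayPt) (o : Set Cfsg.GolayPt)) ⊔
      (Cfsg.M24 ⊓ MulAction.stabilizer (Equiv.Perm Cfsg.GolayPt) o ⊓
        MulAction.stabilizer (Equiv.Perm Cfsg.GolayPt) p) =
      (Cfsg.M24 ⊓ MulAction.stabilizer (Equiv.Perm Cfsg.GolayPt) o) ∧
    Nonempty (↥(Cfsg.M24 ⊓ MulAction.stabilizer (Equiv.Perm Cfsg.GolayPt) o ⊓
        MulAction.stabilizer (Equiv.Perm Cfsg.GolayPt) p) ≃* alternatingGroup (Fin 8)) := by
  have key : ∀ g ∈ StabS o, ∃ k ∈ Cfsg.M24, (∀ x ∈ o, k x = x) ∧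
      k⁻¹ * g ∈ StabS o ⊓ MulAction.stabilizer (Equiv.Perm Cfsg.GolayPt) p := by
    intro g hg
    have hgp : g p ∉ o := fun h => hp ((smul_mem_iff hg.2 p).mp h)
    obtain ⟨k, hk, hkfix, hkp⟩ := fix_trans o ho p (g p) hp hgp
    refine ⟨k, hk, hkfix, ⟨Cfsg.M24.mul_mem (Cfsg.M24.inv_mem hk) hg.1, ?_⟩, ?_⟩
    · show (k⁻¹ * g) • o = o
      have h1 : g • o = o := hg.2
      rw [mul_smul, h1, inv_smul_eq_iff, smul_eq_of_fix hkfix]
    · show (k⁻¹ * g) p = p
      rw [Equiv.Perm.mul_apply, Equiv.Perm.inv_eq_iff_eq]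
      exact hkp.symm
  refine ⟨?_, ?_, ?_⟩
  · rw [eq_bot_iff]
    rintro g ⟨⟨hgM, hfix⟩, ⟨-, hgp⟩⟩
    rw [Subgroup.mem_bot]
    exact fix_inf_stab o ho p hp g hgM ((mem_fixingSubgroup_iff _).mp hfix) hgp
  · apply le_antisymm
    · apply sup_le
      · intro g hg
        exact ⟨hg.1, smul_eq_of_fix ((mem_fixingSubgroup_iff _).mp hg.2)⟩
      · exact inf_le_left
    · intro g hg
      obtain ⟨k, hk, hkfix, hA⟩ := key g hg
      have h2 : g = k * (k⁻¹ * g) := by group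
      rw [h2]
      exact Subgroup.mul_mem_sup ⟨hk, (mem_fixingSubgroup_iff _).mpr hkfix⟩ hA
  · let f : ↥(StabS o ⊓ MulAction.stabilizer (Equiv.Perm Cfsg.GolayPt) p) →* Equiv.Perm ↥o :=
      (res o).comp (Subgroup.inclusion inf_le_left)
    have hinj : Function.Injective f := by
      rw [injective_iff_map_eq_one]
      intro a ha
      have hfix : ∀ x ∈ o, a.1 x = x := by
        intro x hx
        have := congrArg (fun e : Equiv.Perm ↥o => ((e ⟨x, hx⟩ : ↥o) : Cfsg.GolayPt)) ha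
        exact this
      apply Subtype.ext
      exact fix_inf_stab o ho p hp a.1 a.2.1.1 hfix a.2.2
    have hrange : f.range = alternatingGroup ↥o := by
      rw [← range_res o ho]
      apply le_antisymm
      · rintro _ ⟨a, rfl⟩
        exact ⟨_, rfl⟩
      · rintro _ ⟨g, rfl⟩
        obtain ⟨k, hk, hkfix, hA⟩ := key g.1 g.2
        refine ⟨⟨k⁻¹ * g.1, hA⟩, ?_⟩
        apply Equiv.ext
        intro x
        apply Subtype.ext
        show k⁻¹ (g.1 x.1) = g.1 x.1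
        rw [Equiv.Perm.inv_eq_iff_eq]
        exact (hkfix _ ((smul_mem_iff g.2.2 x.1).mpr x.2)).symm
    have e1 := MonoidHom.ofInjective hinj
    have e2 : ↥f.range ≃* ↥(alternatingGroup ↥o) := MulEquiv.subgroupCongr hrange
    have e3 : ↥(alternatingGroup ↥o) ≃* ↥(alternatingGroup (Fin 8)) :=
      Equiv.altCongrHom (Fintype.equivFinOfCardEq (by rw [Fintype.card_coe]; exact ho.2))
    exact ⟨(e1.trans e2).trans e3⟩

end Cfsg.Agent.Lib.Helper9.M24OS
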