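import Mathlib
import Cfsg.Prelude.Def_Sporadic_a
import Cfsg.Prelude.Def_Spor_Mathieu
import Cfsg.Agent.Lib.Helper9.M24OS
import Cfsg.Agent.Lib.Helper9.M24Dod

set_option autoImplicit false

/-! The stabiliser of the dodecad of squares (the Mathieu group of degree 12) and its
stabiliser chain. -/

namespace Cfsg.Agent.Lib.Helper9.M24M

open Cfsg.Agent.Lib.Helper9.Golay Cfsg.Agent.Lib.Helper9.GolayC Cfsg.Agent.Lib.Helper9.M24C
open Cfsg.Agent.Lib.Helper9.Octad Cfsg.Agent.Lib.Helper9.M24B Cfsg.Agent.Lib.Helper9.M24T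
open Cfsg.Agent.Lib.Helper9.M24O Cfsg.Agent.Lib.Helper9.M24Oct Cfsg.Agent.Lib.Helper9.M24OS
open Cfsg.Agent.Lib.Helper9.M24Dod
open scoped Pointwise

/-- The table `t` maps the set of the mask `m` to itself. -/
def invB (t : List ℕ) (m : ℕ) : Bool :=
  (List.range 24).all (fun i => m.testBit (t.getD i 0) == m.testBit i)

theorem invB_iff {g : Equiv.Perm Cfsg.GolayPt} {t : List ℕ} (h : IsTable g t) (m : ℕ) :
    g • maskSet m = maskSet m ↔ invB t m = true := by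
  unfold invB
  rw [List.all_eq_true]
  constructor
  · intro hs i hi
    rw [List.mem_range] at hi
    have h1 := smul_mem_iff hs (ptOf i)
    rw [mem_maskSet, mem_maskSet, h (ptOf i), idx_ptOf i hi] at h1
    rw [beq_iff_eq]
    exact Bool.eq_iff_iff.mpr h1
  · intro hb
    apply smul_eq_of_iff
    intro p
    have h1 := hb (idx p) (List.mem_range.mpr (idx_lt p))
    rw [beq_iff_eq] at h1
    rw [mem_maskSet, mem_maskSet, h p, h1]

/-- Orbit-stabiliser along a chain of permutation groups. -/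
theorem chain_card {K K' : Subgroup (Equiv.Perm Cfsg.GolayPt)} (b : Cfsg.GolayPt)
    (Δ : Finset Cfsg.GolayPt) (hK' : ∀ g, g ∈ K' ↔ g ∈ K ∧ g b = b)
    (horb : ∀ q, q ∈ Δ ↔ ∃ g ∈ K, g b = q) : Nat.card K = Δ.card * Nat.card K' := by
  have h1 := Subgroup.card_mul_index (MulAction.stabilizer K b)
  have h2 : MulAction.orbit K b = ↑Δ := by
    ext q
    rw [Finset.mem_coe, horb]
    constructor
    · rintro ⟨g, rfl⟩
      exact ⟨g.1, g.2, rfl⟩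
    · rintro ⟨g, hg, rfl⟩
      exact ⟨⟨g, hg⟩, rfl⟩
  rw [MulAction.index_stabilizer, h2, Set.ncard_coe_finset] at h1
  have h3 : Nat.card (MulAction.stabilizer K b) = Nat.card K' := by
    apply Nat.card_congr
    exact
      { toFun := fun x => ⟨x.1.1, (hK' _).mpr ⟨x.1.2, x.2⟩⟩
        invFun := fun y => ⟨⟨y.1, ((hK' _).mp y.2).1⟩, ((hK' _).mp y.2).2⟩
        left_inv := fun _ => rfl
        right_inv := fun _ => rfl }
  rw [h3] at h1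
  rw [← h1, mul_comm]

def PRM : List (ℕ × ℕ) := [(0, 2), (4, 0), (4, 2), (12, 0), (223, 0), (224, 2), (14, 2), (225, 0), (225, 2), (226, 2), (227, 2), (41, 0), (5, 0), (228, 0), (229, 0), (229, 2), (230, 1), (231, 0), (232, 0), (232, 2), (233, 2), (234, 1), (56, 2), (235, 1), (236, 2), (237, 0), (238, 2), (239, 0), (240, 0), (241, 0), (242, 0), (243, 2), (244, 0), (245, 2), (246, 0), (247, 0), (248, 2), (249, 2), (250, 0), (251, 2), (252, 0), (253, 1), (254, 2), (255, 0), (256, 2), (257, 1), (259, 0), (260, 0), (261, 0), (262, 2), (263, 0), (264, 0), (265, 0), (266, 2), (267, 0), (268, 2), (269, 1), (270, 2), (271, 2), (272, 0), (273, 0), (275, 2), (276, 0), (277, 2), (278, 0), (279, 0), (280, 2), (281, 0), (283, 0), (285, 1), (288, 0), (288, 2), (287, 1), (291, 291), (296, 296), (296, 297), (297, 297), (298, 299), (295, 300), (289, 2), (293, 293), (303, 303), (303, 304),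 (304, 304), (305, 306), (302, 307), (290, 1), (282, 282), (310, 310), (310, 311), (311, 311), (312, 313), (309, 314), (294, 0), (292, 292), (292, 317), (316, 318), (284, 1), (286, 286), (321, 321), (286, 322), (320, 323), (258, 0), (325, 274), (301, 301), (327, 327), (301, 328), (308, 308), (330, 330), (308, 331), (315, 315), (333, 333), (319, 319), (335, 335), (324, 324), (337, 337), (324, 338), (326, 326), (340, 340), (326, 341), (336, 301), (308, 315), (336, 315), (332, 345), (332, 329), (315, 347), (319, 327), (328, 349), (324, 330), (308, 351), (301, 334), (331, 353), (346, 346), (355, 355), (346, 356), (350, 350), (358, 358), (352, 352), (352, 360), (354, 354), (362, 362), (346, 319), (350, 319), (354, 319), (361, 319), (346, 367), (361, 368), (361, 364), (366, 366), (371, 371), (372, 372), (371, 373), (374, 370), (346, 365), (346, 376), (354, 352), (346, 378), (319,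 352), (365, 365), (381, 381), (382, 382), (381, 383), (384, 380), (369, 369), (377, 377), (377, 387), (387, 387), (388, 389), (379, 379), (379, 391), (391, 391), (392, 393), (375, 369), (369, 375), (390, 369), (369, 397), (379, 369), (390, 399), (394, 394), (386, 390), (395, 395), (403, 403), (404, 402), (394, 377), (386, 406), (400, 398), (401, 400), (407, 405), (407, 410), (398, 407), (398, 412), (400, 391), (405, 414), (398, 398), (400, 416), (405, 400), (393, 418), (398, 393), (407, 420), (319, 301), (342, 422), (315, 327), (329, 424), (326, 301), (336, 334), (301, 427), (339, 326), (301, 429), (326, 332), (331, 431), (423, 423), (423, 433), (433, 433), (434, 435), (425, 425), (437, 437), (428, 428), (428, 439), (430, 430), (441, 441), (442, 442), (441, 443), (432, 432), (432, 445), (445, 445), (446, 447), (425, 423), (430, 425), (428, 450), (444, 451), (428, 363), (438,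 453), (448, 426), (436, 455), (438, 423), (438, 457), (354, 436), (440, 459), (436, 363), (428, 461), (452, 452), (454, 454), (458, 458), (460, 460), (466, 466), (467, 467), (466, 468), (462, 462), (470, 470), (471, 471), (470, 472), (456, 452), (458, 452), (469, 475), (452, 476), (473, 475), (458, 478), (458, 475), (462, 480), (460, 464), (458, 482), (477, 477), (481, 481), (485, 485), (481, 477), (483, 477), (485, 477), (34, 99), (490, 139), (491, 181)]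

def MT : List (List ℕ) := [[0, 1, 2, 3, 4, 5, 6, 7, 8, 9, 10, 11, 12, 13, 14, 15, 16, 17, 18, 19, 20, 21, 22, 23],
  [12, 8, 13, 16, 18, 17, 9, 22, 2, 0, 11, 23, 4, 3, 21, 10, 1, 14, 6, 20, 5, 19, 15, 7],
  [16, 4, 0, 6, 12, 17, 18, 10, 1, 8, 14, 23, 13, 9, 20, 21, 3, 11, 2, 5, 15, 7, 19, 22],
  [6, 9, 18, 3, 12, 15, 1, 23, 2, 13, 22, 17, 8, 0, 7, 21, 16, 14, 4, 19, 20, 10, 5, 11],
  [8, 4, 3, 1, 18, 21, 2, 17, 12, 13, 22, 11, 0, 9, 20, 23, 16, 10, 6, 14, 19, 7, 5, 15],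
  [9, 16, 8, 13, 12, 20, 18, 23, 1, 6, 15, 10, 0, 2, 17, 22, 3, 5, 4, 21, 19, 14, 7, 11],
  [2, 8, 18, 16, 1, 19, 3, 21, 9, 13, 7, 17, 4, 12, 10, 20, 0, 5, 6, 22, 14, 15, 23, 11],
  [13, 6, 8, 3, 18, 22, 0, 14, 12, 1, 21, 23, 4, 9, 17, 5, 16, 11, 2, 19, 20, 15, 10, 7],
  [4, 2, 3, 1, 6, 14, 0, 15, 13, 12, 23, 7, 18, 16, 19, 11, 8, 21, 9, 5, 17, 20, 10, 22],
  [1, 12, 9, 8, 2, 21, 3, 22, 13, 0, 15, 5, 4, 18, 23, 11, 6, 10, 16, 14, 19, 17, 20, 7],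
  [3, 12, 16, 18, 13, 11, 2, 14, 4, 1, 20, 22, 9, 8, 15, 7, 6, 23, 0, 17, 21, 10, 5, 19],
  [18, 8, 2, 6, 13, 21, 4, 22, 0, 9, 19, 11, 1, 16, 10, 7, 3, 20, 12, 5, 15, 14, 17, 23],
  [0, 12, 18, 9, 4, 23, 1, 7, 16, 13, 14, 10, 8, 2, 20, 11, 6, 19, 3, 5, 15, 17, 22, 21],
  [0, 16, 18, 6, 8, 14, 3, 19, 12, 13, 23, 15, 4, 2, 21, 11, 9, 7, 1, 5, 10, 17, 22, 20],
  [0, 6, 13, 8, 12, 7, 1, 17, 2, 3, 20, 23, 18, 4, 15, 11, 16, 19, 9, 21, 5, 22, 10, 14],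
  [0, 13, 16, 4, 2, 19, 6, 23, 8, 12, 22, 14, 1, 9, 11, 20, 3, 15, 18, 7, 21, 17, 10, 5],
  [0, 18, 13, 6, 12, 19, 3, 17, 4, 16, 20, 15, 8, 9, 5, 11, 1, 21, 2, 7, 23, 14, 22, 10],
  [0, 8, 12, 4, 13, 22, 6, 21, 18, 3, 19, 11, 1, 16, 20, 7, 9, 10, 2, 14, 17, 5, 15, 23],
  [0, 4, 1, 13, 8, 20, 16, 19, 9, 2, 21, 23, 12, 18, 10, 15, 3, 5, 6, 14, 11, 7, 22, 17],
  [0, 2, 8, 16, 3, 23, 12, 15, 13, 4, 19, 17, 1, 18, 14, 11, 6, 10, 9, 21, 22, 20, 5, 7],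
  [0, 3, 4, 13, 16, 11, 12, 20, 9, 18, 7, 23, 8, 6, 22, 15, 1, 10, 2, 14, 19, 17, 5, 21],
  [0, 9, 18, 13, 3, 7, 12, 19, 2, 1, 11, 22, 8, 4, 15, 14, 6, 5, 16, 23, 17, 21, 10, 20],
  [0, 1, 12, 4, 6, 5, 3, 23, 18, 2, 17, 10, 9, 8, 14, 20, 16, 11, 13, 15, 19, 21, 7, 22],
  [0, 1, 6, 16, 12, 15, 18, 22, 3, 2, 7, 10, 8, 9, 14, 21, 4, 11, 13, 5, 19, 20, 17, 23],
  [0, 1, 4, 13, 3, 10, 8, 15, 18, 12, 14, 19, 9, 16, 17, 11, 6, 20, 2, 7, 22, 23, 21, 5],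
  [0, 1, 13, 9, 3, 23, 16, 15, 12, 6, 14, 19, 4, 2, 11, 22, 18, 5, 8, 10, 17, 7, 20, 21],
  [0, 1, 16, 9, 13, 22, 12, 19, 3, 2, 20, 21, 6, 8, 17, 7, 18, 15, 4, 23, 11, 10, 14, 5],
  [0, 1, 9, 6, 3, 5, 4, 22, 13, 12, 11, 17, 2, 18, 14, 19, 16, 10, 8, 20, 15, 21, 23, 7],
  [0, 1, 18, 4, 2, 23, 16, 19, 6, 12, 5, 15, 9, 3, 10, 7, 13, 14, 8, 11, 17, 22, 20, 21],
  [0, 1, 8, 12, 18, 15, 16, 23, 13, 6, 11, 7, 2, 3, 14, 19, 4, 10, 9, 21, 5, 20, 22, 17],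
  [0, 1, 3, 16, 9, 20, 13, 7, 4, 12, 23, 17, 18, 2, 14, 21, 6, 10, 8, 5, 15, 19, 11, 22],
  [0, 1, 2, 12, 16, 22, 6, 21, 18, 13, 14, 5, 9, 3, 17, 11, 8, 20, 4, 23, 10, 7, 15, 19],
  [0, 1, 2, 4, 13, 21, 12, 22, 6, 3, 23, 10, 16, 9, 15, 14, 8, 11, 18, 20, 5, 19, 7, 17],
  [0, 1, 2, 18, 16, 15, 12, 17, 9, 8, 10, 11, 6, 13, 14, 5, 4, 7, 3, 19, 21, 20, 23, 22],
  [0, 1, 2, 13, 18, 11, 6, 21, 16, 12, 20, 15, 3, 9, 10, 22, 4, 14, 8, 23, 17, 7, 5, 19],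
  [0, 1, 2, 9, 3, 20, 8, 22, 16, 13, 11, 17, 6, 4, 15, 14, 12, 23, 18, 21, 19, 5, 7, 10],
  [0, 1, 2, 6, 9, 21, 18, 22, 4, 16, 11, 10, 3, 13, 19, 20, 8, 23, 12, 14, 5, 15, 17, 7],
  [0, 1, 2, 16, 8, 7, 12, 19, 18, 9, 15, 21, 3, 4, 11, 10, 6, 5, 13, 17, 23, 22, 14, 20],
  [0, 1, 2, 8, 13, 5, 18, 7, 3, 12, 17, 11, 9, 4, 21, 19, 16, 10, 6, 15, 20, 14, 23, 22],
  [0, 1, 2, 3, 18, 23, 16, 20, 6, 8, 21, 15, 13, 4, 17, 22, 9, 14, 12, 11, 10, 7, 19, 5],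
  [0, 1, 2, 3, 9, 14, 4, 11, 18, 12, 22, 10, 6, 8, 5, 20, 13, 23, 16, 21, 19, 15, 7, 17],
  [0, 1, 2, 3, 13, 23, 8, 21, 9, 16, 20, 19, 18, 12, 17, 11, 6, 14, 4, 22, 7, 10, 15, 5],
  [0, 1, 2, 3, 6, 14, 12, 22, 13, 4, 11, 7, 9, 16, 5, 21, 18, 23, 8, 20, 15, 19, 10, 17],
  [0, 1, 2, 3, 8, 17, 18, 15, 12, 13, 19, 21, 16, 6, 23, 10, 4, 5, 9, 7, 11, 22, 20, 14],
  [0, 1, 2, 3, 16, 17, 13, 19, 4, 18, 15, 20, 8, 9, 23, 7, 12, 5, 6, 10, 22, 11, 21, 14],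
  [0, 1, 2, 3, 12, 5, 9, 10, 16, 6, 7, 22, 4, 18, 14, 19, 8, 17, 13, 15, 21, 20, 11, 23],
  [0, 16, 6, 18, 2, 20, 9, 10, 4, 12, 17, 5, 1, 13, 7, 19, 8, 14, 3, 23, 15, 22, 11, 21],
  [0, 4, 13, 6, 16, 23, 18, 14, 9, 1, 10, 11, 12, 3, 21, 5, 8, 15, 2, 22, 17, 19, 7, 20],
  [0, 12, 9, 16, 6, 10, 13, 5, 3, 8, 11, 15, 18, 1, 7, 22, 4, 20, 2, 19, 21, 14, 23, 17],
  [0, 6, 3, 12, 18, 22, 2, 14, 8, 16, 19, 23, 1, 9, 5, 11, 4, 17, 13, 15, 7, 21, 20, 10],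
  [0, 1, 4, 6, 13, 15, 12, 11, 8, 9, 7, 17, 18, 16, 19, 20, 2, 10, 3, 14, 21, 5, 23, 22],
  [0, 8, 13, 6, 3, 14, 16, 10, 4, 2, 23, 21, 1, 18, 7, 5, 9, 15, 12, 22, 20, 17, 11, 19],
  [0, 1, 16, 2, 8, 7, 9, 15, 4, 12, 19, 21, 3, 18, 11, 23, 13, 20, 6, 22, 10, 17, 14, 5],
  [0, 12, 4, 18, 8, 11, 2, 14, 16, 6, 7, 22, 9, 13, 17, 20, 1, 10, 3, 15, 5, 23, 21, 19],
  [0, 1, 16, 18, 2, 21, 3, 10, 8, 9, 17, 7, 6, 4, 19, 5, 13, 11, 12, 14, 15, 20, 23, 22],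
  [0, 8, 18, 2, 13, 17, 1, 10, 16, 12, 15, 23, 4, 3, 14, 22, 9, 21, 6, 20, 5, 7, 11, 19],
  [0, 3, 18, 16, 9, 19, 12, 7, 2, 8, 23, 21, 1, 6, 17, 14, 4, 5, 13, 11, 15, 22, 10, 20],
  [0, 3, 4, 9, 16, 5, 13, 22, 8, 1, 19, 15, 12, 18, 7, 23, 2, 17, 6, 21, 20, 10, 14, 11],
  [0, 12, 3, 6, 13, 5, 1, 21, 16, 18, 7, 19, 9, 8, 17, 20, 2, 10, 4, 23, 11, 15, 14, 22],
  [0, 6, 2, 4, 3, 5, 1, 19, 9, 8, 17, 14, 13, 12, 11, 15, 16, 10, 18, 7, 22, 21, 20, 23],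
  [0, 1, 13, 3, 6, 5, 16, 10, 9, 12, 23, 17, 8, 18, 19, 14, 4, 22, 2, 15, 20, 21, 11, 7],
  [0, 9, 16, 1, 2, 5, 18, 14, 8, 3, 21, 23, 12, 6, 22, 11, 4, 17, 13, 10, 20, 19, 7, 15],
  [0, 1, 18, 3, 16, 5, 4, 23, 12, 8, 7, 22, 9, 2, 15, 19, 6, 11, 13, 14, 20, 21, 17, 10],
  [0, 9, 8, 2, 1, 5, 4, 17, 16, 3, 7, 23, 13, 6, 11, 22, 18, 14, 12, 20, 10, 19, 21, 15],
  [0, 4, 3, 8, 16, 5, 12, 20, 9, 6, 7, 15, 13, 18, 19, 23, 2, 10, 1, 21, 22, 17, 11, 14],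
  [0, 3, 6, 12, 4, 5, 18, 11, 9, 1, 15, 14, 8, 2, 10, 7, 13, 22, 16, 21, 20, 23, 19, 17],
  [0, 9, 6, 1, 8, 5, 12, 15, 2, 4, 21, 23, 18, 16, 10, 11, 3, 7, 13, 22, 19, 20, 17, 14],
  [0, 13, 2, 18, 12, 5, 3, 7, 8, 1, 19, 21, 16, 9, 22, 10, 4, 17, 6, 15, 14, 23, 20, 11],
  [0, 13, 6, 18, 1, 5, 8, 7, 3, 12, 11, 17, 4, 9, 10, 22, 16, 21, 2, 15, 23, 14, 20, 19],
  [0, 9, 8, 2, 13, 5, 3, 7, 18, 4, 17, 21, 1, 12, 11, 20, 16, 14, 6, 22, 19, 10, 23, 15],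
  [0, 9, 2, 6, 16, 5, 18, 7, 8, 13, 15, 23, 4, 1, 20, 19, 12, 17, 3, 10, 22, 11, 14, 21],
  [0, 4, 18, 8, 12, 5, 2, 7, 6, 13, 14, 10, 9, 1, 21, 19, 16, 11, 3, 23, 22, 17, 15, 20],
  [0, 12, 3, 6, 9, 5, 18, 7, 2, 1, 21, 14, 13, 4, 17, 23, 16, 10, 8, 20, 15, 11, 19, 22],
  [0, 12, 8, 6, 1, 5, 2, 7, 18, 9, 22, 10, 16, 4, 23, 17, 13, 14, 3, 20, 11, 15, 19, 21],
  [0, 16, 3, 8, 4, 5, 2, 7, 18, 1, 20, 15, 13, 9, 11, 10, 12, 23, 6, 21, 14, 17, 19, 22],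
  [0, 1, 18, 3, 9, 5, 8, 7, 6, 4, 23, 17, 16, 13, 15, 14, 12, 11, 2, 19, 21, 20, 22, 10]]

def TRM : List (List ℕ) := [[0, 9, 6, 10, 8, 0, 3, 0, 4, 5, 0, 0, 1, 7, 0, 0, 2, 0, 11, 0, 0, 0, 0, 0],
  [0, 0, 19, 20, 18, 0, 14, 0, 17, 21, 0, 0, 12, 15, 0, 0, 13, 0, 16, 0, 0, 0, 0, 0],
  [0, 0, 0, 30, 24, 0, 23, 0, 29, 27, 0, 0, 22, 25, 0, 0, 26, 0, 28, 0, 0, 0, 0, 0],
  [0, 0, 0, 0, 32, 0, 36, 0, 38, 35, 0, 0, 31, 34, 0, 0, 37, 0, 33, 0, 0, 0, 0, 0],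
  [0, 0, 0, 0, 0, 0, 42, 0, 43, 40, 0, 0, 45, 41, 0, 0, 44, 0, 39, 0, 0, 0, 0, 0]]

def TRE : List (List ℕ) := [[0, 0, 0, 0, 0, 0, 0, 52, 0, 0, 48, 53, 0, 0, 51, 50, 0, 55, 0, 56, 46, 54, 49, 47],
  [0, 0, 0, 0, 0, 0, 0, 0, 0, 0, 60, 65, 0, 0, 61, 66, 0, 63, 0, 59, 64, 58, 57, 62],
  [0, 0, 0, 0, 0, 0, 0, 0, 0, 0, 0, 68, 0, 0, 71, 70, 0, 69, 0, 67, 74, 72, 73, 75]]

def WT : List ℕ := [1, 2, 3, 4, 14, 12, 18, 21, 9, 15, 19, 6, 22, 5, 10, 16, 17, 7, 11, 20, 8, 13, 23, 0]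

def DM : ℕ := 340831

def DM' : ℕ := 11569519

def CB : List ℕ := [0, 1, 2, 3, 4]

def EB : List ℕ := [5, 7, 10]

theorem MT_length : MT.length = 76 := by decide +kernel

set_option maxRecDepth 100000 in
theorem mt_run : ∀ t ∈ MT, t ∈ run TT PRM := by decide +kernel

set_option maxRecDepth 100000 in
theorem wt_run : WT ∈ run TT PRM := by decide +kernel

theorem mt_mem (n : ℕ) (hn : n < 76) : ∃ g ∈ Cfsg.M24, IsTable g (MT.getD n []) := by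
  apply run_TT PRM
  apply mt_run
  rw [List.getD_eq_getElem _ _ (by rw [MT_length]; exact hn)]
  exact List.getElem_mem _

/-- The dodecad of squares. -/
def Dset : Finset Cfsg.GolayPt := maskSet DM

theorem Dset_eq : Cfsg.Spor.squareDodecad = Dset := by
  unfold Cfsg.Spor.squareDodecad Dset
  rw [maskSet_eq]
  have : Cfsg.qrWord 0 = dec DM := by
    funext p
    exact qr_eq 0 p
  rw [this]
  rfl

theorem Dset_mem : Dset ∈ Cfsg.dodecads := by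
  rw [mem_dodecads]
  unfold Dset
  rw [ind_maskSet, card_maskSet]
  refine ⟨?_, by decide +kernel⟩
  have : Cfsg.qrWord 0 = dec DM := by
    funext p
    exact qr_eq 0 p
  rw [← this]
  exact qr_mem 0

/-- Base points inside the dodecad. -/
def C (k : ℕ) : Cfsg.GolayPt := ptOf (CB.getD k 0)

/-- Base points outside the dodecad. -/
def E (k : ℕ) : Cfsg.GolayPt := ptOf (EB.getD k 0)

theorem cb_lt : ∀ k < 5, CB.getD k 0 < 24 := by decide +kernel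
theorem eb_lt : ∀ k < 3, EB.getD k 0 < 24 := by decide +kernel

theorem idx_C (k : ℕ) (hk : k < 5) : idx (C k) = CB.getD k 0 := idx_ptOf _ (cb_lt k hk)
theorem idx_E (k : ℕ) (hk : k < 3) : idx (E k) = EB.getD k 0 := idx_ptOf _ (eb_lt k hk)

theorem C_inj : ∀ i < 5, ∀ j < 5, C i = C j → i = j := by decide +kernel
theorem E_inj : ∀ i < 3, ∀ j < 3, E i = E j → i = j := by decide +kernel
theorem C_bit : ∀ k < 5, DM.testBit (CB.getD k 0) = true := by decide +kernel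
theorem E_bit : ∀ k < 3, DM.testBit (EB.getD k 0) = false := by decide +kernel

theorem C_mem (k : ℕ) (hk : k < 5) : C k ∈ Dset := by
  unfold Dset
  rw [mem_maskSet, idx_C k hk]
  exact C_bit k hk

theorem E_notMem (k : ℕ) (hk : k < 3) : E k ∉ Dset := by
  unfold Dset
  rw [mem_maskSet, idx_E k hk, E_bit k hk]
  exact Bool.false_ne_true

theorem C_zero : C 0 = some 0 := by decide +kernel

/-- The chain: stabiliser of the dodecad and of the first `k` base points in it. -/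
def Mk (k : ℕ) : Subgroup (Equiv.Perm Cfsg.GolayPt) where
  carrier := {g | g ∈ Cfsg.M24 ∧ g • Dset = Dset ∧ ∀ i < k, g (C i) = C i}
  mul_mem' := by
    rintro a b ⟨ha, ha', ha''⟩ ⟨hb, hb', hb''⟩
    exact ⟨mul_mem ha hb, by rw [mul_smul, hb', ha'],
      fun i hi => by rw [Equiv.Perm.mul_apply, hb'' i hi, ha'' i hi]⟩
  one_mem' := ⟨one_mem _, one_smul _ _, fun i _ => rfl⟩
  inv_mem' := by
    rintro a ⟨ha, ha', ha''⟩
    exact ⟨inv_mem ha, by rw [inv_smul_eq_iff, ha'],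
      fun i hi => by rw [Equiv.Perm.inv_eq_iff_eq]; exact (ha'' i hi).symm⟩

theorem mem_Mk (k : ℕ) (g : Equiv.Perm Cfsg.GolayPt) :
    g ∈ Mk k ↔ g ∈ Cfsg.M24 ∧ g • Dset = Dset ∧ ∀ i < k, g (C i) = C i := Iff.rfl

/-- Index-level description of the orbits. -/
def dM (k β : ℕ) : Bool := DM.testBit β && (List.range k).all (fun i => β != CB.getD i 0)

set_option maxRecDepth 100000 in
theorem trm_ok : ∀ k < 5, ∀ β < 24, dM k β = true →
    (TRM.getD k []).getD β 0 < 76 ∧ invB (MT.getD ((TRM.getD k []).getD β 0) []) DM = true ∧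
    (MT.getD ((TRM.getD k []).getD β 0) []).getD (CB.getD k 0) 0 = β ∧
    ∀ i < k, (MT.getD ((TRM.getD k []).getD β 0) []).getD (CB.getD i 0) 0 = CB.getD i 0 := by
  decide +kernel

theorem exists_transM (k : ℕ) (hk : k < 5) (q : Cfsg.GolayPt) (hq : dM k (idx q) = true) :
    ∃ g ∈ Mk k, g (C k) = q := by
  obtain ⟨hn, hinv, h1, h2⟩ := trm_ok k hk (idx q) (idx_lt q) hq
  obtain ⟨g, hg, ht⟩ := mt_mem _ hn
  refine ⟨g, ⟨hg, (invB_iff ht DM).mpr hinv, fun i hi => ?_⟩, ?_⟩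
  · apply idx_inj
    rw [ht, idx_C i (by omega), h2 i hi]
  · apply idx_inj
    rw [ht, idx_C k hk, h1]

theorem orbit_dM (k : ℕ) (hk : k < 5) (g : Equiv.Perm Cfsg.GolayPt) (hg : g ∈ Mk k) :
    dM k (idx (g (C k))) = true := by
  obtain ⟨hg1, hg2, hg3⟩ := hg
  unfold dM
  rw [Bool.and_eq_true, List.all_eq_true]
  constructor
  · have := (smul_mem_iff hg2 (C k)).mpr (C_mem k hk)
    unfold Dset at this
    rw [mem_maskSet] at this
    exact this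
  · intro i hi
    rw [List.mem_range] at hi
    rw [bne_iff_ne]
    intro heq
    have h1 : g (C k) = C i := by
      apply idx_inj
      rw [heq, idx_C i (by omega)]
    rw [← hg3 i hi] at h1
    have := C_inj k hk i (by omega) (g.injective h1)
    omega

/-- The expected orbits. -/
def ΔM (k : ℕ) : Finset Cfsg.GolayPt := Finset.univ.filter (fun q => dM k (idx q) = true)

set_option maxRecDepth 100000 in
theorem card_ΔM : ∀ k < 5, (ΔM k).card = [12, 11, 10, 9, 8].getD k 0 := by decide +kernel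

theorem card_Mk (k : ℕ) (hk : k < 5) : Nat.card (Mk k) = (ΔM k).card * Nat.card (Mk (k + 1)) := by
  apply chain_card (C k)
  · intro g
    constructor
    · intro hg
      exact ⟨⟨hg.1, hg.2.1, fun i hi => hg.2.2 i (by omega)⟩, hg.2.2 k (by omega)⟩
    · rintro ⟨hg, hgk⟩
      refine ⟨hg.1, hg.2.1, fun i hi => ?_⟩
      rcases Nat.lt_succ_iff_lt_or_eq.mp hi with h | h
      · exact hg.2.2 i h
      · rw [h]
        exact hgk
  · intro q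
    unfold ΔM
    rw [Finset.mem_filter]
    constructor
    · intro hq
      exact exists_transM k hk q hq.2
    · rintro ⟨g, hg, rfl⟩
      exact ⟨Finset.mem_univ _, orbit_dM k hk g hg⟩

theorem w_ok : ∀ i < 5, WT.getD (BASE.getD i 0) 0 = CB.getD i 0 := by decide +kernel

theorem dm'_eq : pmI WT DM = DM' := by decide +kernel

set_option maxRecDepth 100000 in
theorem tabs5_dm : ∀ t ∈ tabs 2 5, invB t DM' = true → t = List.range 24 := by decide +kernel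

theorem exists_w : ∃ w ∈ Cfsg.M24, IsTable w WT ∧ ∀ i < 5, w (B i) = C i := by
  obtain ⟨w, hw, hT⟩ := run_TT PRM WT wt_run
  refine ⟨w, hw, hT, fun i hi => ?_⟩
  apply idx_inj
  rw [hT, idx_B i (by omega), w_ok i hi, idx_C i hi]

theorem Mk_five : Mk 5 = ⊥ := by
  rw [eq_bot_iff]
  rintro g ⟨hg1, hg2, hg3⟩
  rw [Subgroup.mem_bot]
  obtain ⟨w, hw, hT, hwB⟩ := exists_w
  have h5 : w⁻¹ * g * w ∈ Gk 5 := by
    refine ⟨mul_mem (mul_mem (inv_mem hw) hg1) hw, fun i hi => ?_⟩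
    rw [Equiv.Perm.mul_apply, Equiv.Perm.mul_apply, Equiv.Perm.inv_eq_iff_eq, hwB i hi]
    exact hg3 i hi
  obtain ⟨t', ht', hT'⟩ := Gk_tabs 2 5 rfl _ h5
  have hD : maskSet DM' = w⁻¹ • Dset := by
    rw [← dm'_eq, eq_inv_smul_iff]
    exact smul_maskSet_pmI hT DM
  have hinv : (w⁻¹ * g * w) • maskSet DM' = maskSet DM' := by
    rw [hD, mul_smul, mul_smul, smul_inv_smul, hg2]
  have h1 := tabs5_dm t' ht' ((invB_iff hT' DM').mp hinv)
  rw [h1] at hT'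
  have h2 := eq_one_of_isTable hT'
  have h3 : g = w * (w⁻¹ * g * w) * w⁻¹ := by group
  rw [h3, h2]
  group

theorem card_M5 : Nat.card (Mk 5) = 1 := by
  rw [Mk_five]
  exact Subgroup.card_bot

theorem card_M4 : Nat.card (Mk 4) = 8 := by
  rw [card_Mk 4 (by norm_num), card_M5, card_ΔM 4 (by norm_num)]
  rfl

theorem card_M3 : Nat.card (Mk 3) = 72 := by
  rw [card_Mk 3 (by norm_num), card_M4, card_ΔM 3 (by norm_num)]
  rfl

theorem card_M2 : Nat.card (Mk 2) = 720 := by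
  rw [card_Mk 2 (by norm_num), card_M3, card_ΔM 2 (by norm_num)]
  rfl

theorem card_M1 : Nat.card (Mk 1) = 7920 := by
  rw [card_Mk 1 (by norm_num), card_M2, card_ΔM 1 (by norm_num)]
  rfl

theorem card_M0 : Nat.card (Mk 0) = 95040 := by
  rw [card_Mk 0 (by norm_num), card_M1, card_ΔM 0 (by norm_num)]
  rfl

theorem Mk_zero : Mk 0 = Cfsg.Spor.M12 := by
  ext g
  rw [mem_Mk]
  unfold Cfsg.Spor.M12
  rw [Dset_eq]
  constructor
  · rintro ⟨h1, h2, -⟩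
    exact ⟨h1, h2⟩
  · rintro ⟨h1, h2⟩
    exact ⟨h1, h2, fun i hi => absurd hi (Nat.not_lt_zero i)⟩

theorem Mk_one : Mk 1 = Cfsg.Spor.M11 := by
  ext g
  rw [mem_Mk]
  unfold Cfsg.Spor.M11 Cfsg.Spor.M12
  rw [Dset_eq]
  constructor
  · rintro ⟨h1, h2, h3⟩
    refine ⟨⟨h1, h2⟩, ?_⟩
    have := h3 0 (by norm_num)
    rw [C_zero] at this
    exact this
  · rintro ⟨⟨h1, h2⟩, h3⟩
    refine ⟨h1, h2, fun i hi => ?_⟩
    interval_cases i
    rw [C_zero]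
    exact h3

theorem card_M12 : Nat.card Cfsg.Spor.M12 = 95040 := by
  rw [← Mk_zero]
  exact card_M0

theorem card_M11 : Nat.card Cfsg.Spor.M11 = 7920 := by
  rw [← Mk_one]
  exact card_M1

/-- Transitivity of the chain: injective tuples inside the dodecad. -/
theorem exists_tupleM : ∀ k ≤ 5, ∀ x : ℕ → Cfsg.GolayPt, (∀ i < k, x i ∈ Dset) →
    (∀ i < k, ∀ j < k, x i = x j → i = j) → ∃ g ∈ Mk 0, ∀ i < k, g (C i) = x i := by
  intro k
  induction k with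
  | zero =>
    intro _ x _ _
    exact ⟨1, one_mem _, fun i hi => absurd hi (Nat.not_lt_zero i)⟩
  | succ k ih =>
    intro hk x hxD hx
    obtain ⟨g0, hg0, h0⟩ := ih (by omega) x (fun i hi => hxD i (by omega))
      (fun i hi j hj => hx i (by omega) j (by omega))
    have hq : dM k (idx (g0⁻¹ (x k))) = true := by
      unfold dM
      rw [Bool.and_eq_true, List.all_eq_true]
      constructor
      · have h1 : g0⁻¹ • Dset = Dset := by rw [inv_smul_eq_iff, hg0.2.1]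
        have := (smul_mem_iff h1 (x k)).mpr (hxD k (by omega))
        unfold Dset at this
        rw [mem_maskSet] at this
        exact this
      · intro i hi
        rw [List.mem_range] at hi
        rw [bne_iff_ne]
        intro heq
        have h1 : g0⁻¹ (x k) = C i := by
          apply idx_inj
          rw [heq, idx_C i (by omega)]
        rw [Equiv.Perm.inv_eq_iff_eq, h0 i hi] at h1
        have := hx k (by omega) i (by omega) h1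
        omega
    obtain ⟨u, hu, huq⟩ := exists_transM k (by omega) _ hq
    refine ⟨g0 * u, mul_mem hg0 ⟨hu.1, hu.2.1, fun i hi => absurd hi (Nat.not_lt_zero i)⟩,
      fun i hi => ?_⟩
    rw [Equiv.Perm.mul_apply]
    rcases Nat.lt_succ_iff_lt_or_eq.mp hi with h | h
    · rw [hu.2.2 i h, h0 i h]
    · rw [h, huq]
      simp

end Cfsg.Agent.Lib.Helper9.M24M
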