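import Mathlib
import Cfsg.Prelude.Def_Sporadic_a
import Cfsg.Prelude.Def_Spor_Mathieu
import Cfsg.Agent.Lib.Helper9.M24M

set_option autoImplicit false

/-! Dodecad stabilisers for arbitrary dodecads. -/

namespace Cfsg.Agent.Lib.Helper9.M24M2

open Cfsg.Agent.Lib.Helper9.Golay Cfsg.Agent.Lib.Helper9.GolayC Cfsg.Agent.Lib.Helper9.M24C
open Cfsg.Agent.Lib.Helper9.Octad Cfsg.Agent.Lib.Helper9.M24B Cfsg.Agent.Lib.Helper9.M24T
open Cfsg.Agent.Lib.Helper9.M24O Cfsg.Agent.Lib.Helper9.M24Oct Cfsg.Agent.Lib.Helper9.M24OS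
open Cfsg.Agent.Lib.Helper9.M24Dod Cfsg.Agent.Lib.Helper9.M24M
open scoped Pointwise

/-- Index-level description of the orbits outside the dodecad. -/
def dE (k β : ℕ) : Bool := !DM.testBit β && (List.range k).all (fun i => β != EB.getD i 0)

set_option maxRecDepth 100000 in
theorem tre_ok : ∀ k < 3, ∀ β < 24, dE k β = true →
    (TRE.getD k []).getD β 0 < 76 ∧ invB (MT.getD ((TRE.getD k []).getD β 0) []) DM = true ∧
    (MT.getD ((TRE.getD k []).getD β 0) []).getD (CB.getD 0 0) 0 = CB.getD 0 0 ∧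
    (MT.getD ((TRE.getD k []).getD β 0) []).getD (EB.getD k 0) 0 = β ∧
    ∀ i < k, (MT.getD ((TRE.getD k []).getD β 0) []).getD (EB.getD i 0) 0 = EB.getD i 0 := by
  decide +kernel

theorem exists_transE (k : ℕ) (hk : k < 3) (q : Cfsg.GolayPt) (hq : dE k (idx q) = true) :
    ∃ g ∈ Mk 1, g (E k) = q ∧ ∀ i < k, g (E i) = E i := by
  obtain ⟨hn, hinv, h0, h1, h2⟩ := tre_ok k hk (idx q) (idx_lt q) hq
  obtain ⟨g, hg, ht⟩ := mt_mem _ hn
  refine ⟨g, ⟨hg, (invB_iff ht DM).mpr hinv, fun i hi => ?_⟩, ?_, fun i hi => ?_⟩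
  · have hi0 : i = 0 := by omega
    subst hi0
    apply idx_inj
    rw [ht, idx_C 0 (by norm_num), h0]
  · apply idx_inj
    rw [ht, idx_E k hk, h1]
  · apply idx_inj
    rw [ht, idx_E i (by omega), h2 i hi]

theorem exists_tupleE : ∀ k ≤ 3, ∀ x : ℕ → Cfsg.GolayPt, (∀ i < k, x i ∉ Dset) →
    (∀ i < k, ∀ j < k, x i = x j → i = j) → ∃ g ∈ Mk 1, ∀ i < k, g (E i) = x i := by
  intro k
  induction k with
  | zero =>
    intro _ x _ _
    exact ⟨1, one_mem _, fun i hi => absurd hi (Nat.not_lt_zero i)⟩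
  | succ k ih =>
    intro hk x hxD hx
    obtain ⟨g0, hg0, h0⟩ := ih (by omega) x (fun i hi => hxD i (by omega))
      (fun i hi j hj => hx i (by omega) j (by omega))
    have hq : dE k (idx (g0⁻¹ (x k))) = true := by
      unfold dE
      rw [Bool.and_eq_true, List.all_eq_true]
      constructor
      · have h1 : g0⁻¹ • Dset = Dset := by rw [inv_smul_eq_iff, hg0.2.1]
        have h2 : g0⁻¹ (x k) ∉ Dset := fun h => hxD k (by omega) ((smul_mem_iff h1 (x k)).mp h)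
        unfold Dset at h2
        rw [mem_maskSet] at h2
        simpa using h2
      · intro i hi
        rw [List.mem_range] at hi
        rw [bne_iff_ne]
        intro heq
        have h1 : g0⁻¹ (x k) = E i := by
          apply idx_inj
          rw [heq, idx_E i (by omega)]
        rw [Equiv.Perm.inv_eq_iff_eq, h0 i hi] at h1
        have := hx k (by omega) i (by omega) h1
        omega
    obtain ⟨u, hu, huq, hufix⟩ := exists_transE k (by omega) _ hq
    refine ⟨g0 * u, mul_mem hg0 hu, fun i hi => ?_⟩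
    rw [Equiv.Perm.mul_apply]
    rcases Nat.lt_succ_iff_lt_or_eq.mp hi with h | h
    · rw [hufix i h, h0 i h]
    · rw [h, huq]
      simp

/-- Transitivity on pairs (dodecad, point of it). -/
theorem pair_transD (d : Finset Cfsg.GolayPt) (hd : d ∈ Cfsg.dodecads) (p : Cfsg.GolayPt)
    (hp : p ∈ d) : ∃ g ∈ Cfsg.M24, g • Dset = d ∧ g (C 0) = p := by
  obtain ⟨g1, hg1, rfl⟩ := dodecad_trans Dset d Dset_mem hd
  have hp' : g1⁻¹ p ∈ Dset := by
    have := Finset.smul_mem_smul_finset (a := g1⁻¹) hp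
    rw [inv_smul_smul] at this
    exact this
  obtain ⟨h, hh, hh0⟩ := exists_tupleM 1 (by norm_num) (fun _ => g1⁻¹ p) (fun _ _ => hp')
    (by intro i hi j hj _; omega)
  refine ⟨g1 * h, mul_mem hg1 hh.1, ?_, ?_⟩
  · rw [mul_smul, hh.2.1]
  · rw [Equiv.Perm.mul_apply, hh0 0 (by norm_num)]
    simp

theorem card_stab_dodecad (d : Finset Cfsg.GolayPt) (hd : d ∈ Cfsg.dodecads) :
    Nat.card (MulAction.stabilizer Cfsg.M24 d) = 95040 := by
  obtain ⟨g0, hg0, rfl⟩ := dodecad_trans Dset d Dset_mem hd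
  rw [← card_M0]
  apply Nat.card_congr
  exact
    { toFun := fun x => ⟨g0⁻¹ * x.1.1 * g0, mul_mem (mul_mem (inv_mem hg0) x.1.2) hg0, by
        have h1 : x.1.1 • g0 • Dset = g0 • Dset := x.2
        rw [mul_smul, mul_smul, h1, inv_smul_smul], fun i hi => absurd hi (Nat.not_lt_zero i)⟩
      invFun := fun y => ⟨⟨g0 * y.1 * g0⁻¹, mul_mem (mul_mem hg0 y.2.1) (inv_mem hg0)⟩, by
        show (g0 * y.1 * g0⁻¹) • g0 • Dset = g0 • Dset
        rw [mul_smul, mul_smul, inv_smul_smul, y.2.2.1]⟩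
      left_inv := fun x => by
        apply Subtype.ext
        apply Subtype.ext
        show g0 * (g0⁻¹ * x.1.1 * g0) * g0⁻¹ = x.1.1
        group
      right_inv := fun y => by
        apply Subtype.ext
        show g0⁻¹ * (g0 * y.1 * g0⁻¹) * g0 = y.1
        group }

theorem card_stab_dodecad_pt (d : Finset Cfsg.GolayPt) (hd : d ∈ Cfsg.dodecads)
    (p : Cfsg.GolayPt) (hp : p ∈ d) :
    Nat.card ↥(MulAction.stabilizer Cfsg.M24 d ⊓ MulAction.stabilizer Cfsg.M24 p) = 7920 := by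
  obtain ⟨g0, hg0, rfl, rfl⟩ := pair_transD d hd p hp
  rw [← card_M1]
  apply Nat.card_congr
  exact
    { toFun := fun x => ⟨g0⁻¹ * x.1.1 * g0, mul_mem (mul_mem (inv_mem hg0) x.1.2) hg0, by
        have h1 : x.1.1 • g0 • Dset = g0 • Dset := x.2.1
        rw [mul_smul, mul_smul, h1, inv_smul_smul], fun i hi => by
        have hi0 : i = 0 := by omega
        subst hi0
        have h2 : x.1.1 (g0 (C 0)) = g0 (C 0) := x.2.2
        rw [Equiv.Perm.mul_apply, Equiv.Perm.mul_apply, h2]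
        simp⟩
      invFun := fun y => ⟨⟨g0 * y.1 * g0⁻¹, mul_mem (mul_mem hg0 y.2.1) (inv_mem hg0)⟩, by
        constructor
        · show (g0 * y.1 * g0⁻¹) • g0 • Dset = g0 • Dset
          rw [mul_smul, mul_smul, inv_smul_smul, y.2.2.1]
        · show (g0 * y.1 * g0⁻¹) (g0 (C 0)) = g0 (C 0)
          rw [Equiv.Perm.mul_apply, Equiv.Perm.mul_apply]
          simp [y.2.2.2 0 (by norm_num)]⟩
      left_inv := fun x => by
        apply Subtype.ext
        apply Subtype.ext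
        show g0 * (g0⁻¹ * x.1.1 * g0) * g0⁻¹ = x.1.1
        group
      right_inv := fun y => by
        apply Subtype.ext
        show g0⁻¹ * (g0 * y.1 * g0⁻¹) * g0 = y.1
        group }

/-- The stabiliser of a dodecad and a point of it is 3-transitive outside the dodecad. -/
theorem m11_three_trans (d : Finset Cfsg.GolayPt) (hd : d ∈ Cfsg.dodecads) (p : Cfsg.GolayPt)
    (hp : p ∈ d) (x y : Fin 3 ↪ Cfsg.GolayPt) (hx : ∀ i, x i ∉ d) (hy : ∀ i, y i ∉ d) :
    ∃ g ∈ MulAction.stabilizer Cfsg.M24 d ⊓ MulAction.stabilizer Cfsg.M24 p,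
      ∀ i, (g : Equiv.Perm Cfsg.GolayPt) (x i) = y i := by
  obtain ⟨g0, hg0, rfl, rfl⟩ := pair_transD d hd p hp
  have hout : ∀ r : Cfsg.GolayPt, r ∉ g0 • Dset → g0⁻¹ r ∉ Dset := by
    intro r hr h
    apply hr
    have := Finset.smul_mem_smul_finset (a := g0) h
    simpa using this
  have key : ∀ z : Fin 3 ↪ Cfsg.GolayPt, (∀ i, z i ∉ g0 • Dset) →
      ∃ h ∈ Mk 1, ∀ i : Fin 3, h (E i) = g0⁻¹ (z i) := by
    intro z hz
    obtain ⟨h, hh, h3⟩ := exists_tupleE 3 le_rfl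
      (fun i => if hi : i < 3 then g0⁻¹ (z ⟨i, hi⟩) else none)
      (by
        intro i hi
        beta_reduce
        rw [dif_pos hi]
        exact hout _ (hz _))
      (by
        intro i hi j hj hij
        beta_reduce at hij
        rw [dif_pos hi, dif_pos hj] at hij
        have := z.injective (g0⁻¹.injective hij)
        exact congrArg Fin.val this)
    refine ⟨h, hh, fun i => ?_⟩
    have := h3 i.1 i.2
    beta_reduce at this
    rw [dif_pos i.2] at this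
    exact this
  obtain ⟨h1, hh1, h1x⟩ := key x hx
  obtain ⟨h2, hh2, h2y⟩ := key y hy
  have hm : h2 * h1⁻¹ ∈ Mk 1 := mul_mem hh2 (inv_mem hh1)
  refine ⟨⟨g0 * (h2 * h1⁻¹) * g0⁻¹, mul_mem (mul_mem hg0 hm.1) (inv_mem hg0)⟩, ⟨?_, ?_⟩, ?_⟩
  · show (g0 * (h2 * h1⁻¹) * g0⁻¹) • g0 • Dset = g0 • Dset
    rw [mul_smul, mul_smul, inv_smul_smul, hm.2.1]
  · show (g0 * (h2 * h1⁻¹) * g0⁻¹) (g0 (C 0)) = g0 (C 0)
    rw [Equiv.Perm.mul_apply, Equiv.Perm.mul_apply]
    simp [hm.2.2 0 (by norm_num)]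
  · intro i
    show (g0 * (h2 * h1⁻¹) * g0⁻¹) (x i) = y i
    rw [Equiv.Perm.mul_apply, Equiv.Perm.mul_apply, Equiv.Perm.mul_apply, ← h1x i]
    simp [h2y i]

/-- The stabiliser of a dodecad is sharply 5-transitive on it. -/
theorem m12_sharp (d : Finset Cfsg.GolayPt) (hd : d ∈ Cfsg.dodecads) (x y : Fin 5 ↪ Cfsg.GolayPt)
    (hx : ∀ i, x i ∈ d) (hy : ∀ i, y i ∈ d) :
    ∃! g : MulAction.stabilizer Cfsg.M24 d,
      ∀ i, ((g : Cfsg.M24) : Equiv.Perm Cfsg.GolayPt) (x i) = y i := by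
  obtain ⟨g0, hg0, rfl⟩ := dodecad_trans Dset d Dset_mem hd
  have hin : ∀ r : Cfsg.GolayPt, r ∈ g0 • Dset → g0⁻¹ r ∈ Dset := by
    intro r hr
    have := Finset.smul_mem_smul_finset (a := g0⁻¹) hr
    rw [inv_smul_smul] at this
    exact this
  have key : ∀ z : Fin 5 ↪ Cfsg.GolayPt, (∀ i, z i ∈ g0 • Dset) →
      ∃ h ∈ Mk 0, ∀ i : Fin 5, h (C i) = g0⁻¹ (z i) := by
    intro z hz
    obtain ⟨h, hh, h3⟩ := exists_tupleM 5 le_rfl
      (fun i => if hi : i < 5 then g0⁻¹ (z ⟨i, hi⟩) else none)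
      (by
        intro i hi
        beta_reduce
        rw [dif_pos hi]
        exact hin _ (hz _))
      (by
        intro i hi j hj hij
        beta_reduce at hij
        rw [dif_pos hi, dif_pos hj] at hij
        have := z.injective (g0⁻¹.injective hij)
        exact congrArg Fin.val this)
    refine ⟨h, hh, fun i => ?_⟩
    have := h3 i.1 i.2
    beta_reduce at this
    rw [dif_pos i.2] at this
    exact this
  obtain ⟨h1, hh1, h1x⟩ := key x hx
  obtain ⟨h2, hh2, h2y⟩ := key y hy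
  have hm : h2 * h1⁻¹ ∈ Mk 0 := mul_mem hh2 (inv_mem hh1)
  refine ⟨⟨⟨g0 * (h2 * h1⁻¹) * g0⁻¹, mul_mem (mul_mem hg0 hm.1) (inv_mem hg0)⟩, ?_⟩, ?_, ?_⟩
  · show (g0 * (h2 * h1⁻¹) * g0⁻¹) • g0 • Dset = g0 • Dset
    rw [mul_smul, mul_smul, inv_smul_smul, hm.2.1]
  · intro i
    show (g0 * (h2 * h1⁻¹) * g0⁻¹) (x i) = y i
    rw [Equiv.Perm.mul_apply, Equiv.Perm.mul_apply, Equiv.Perm.mul_apply, ← h1x i]
    simp [h2y i]
  · intro g' hg'
    apply Subtype.ext
    apply Subtype.ext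
    show g'.1.1 = g0 * (h2 * h1⁻¹) * g0⁻¹
    have hstab : g'.1.1 • g0 • Dset = g0 • Dset := g'.2
    have h5 : (g0 * h2)⁻¹ * g'.1.1 * (g0 * h1) ∈ Mk 5 := by
      refine ⟨mul_mem (mul_mem (inv_mem (mul_mem hg0 hh2.1)) g'.1.2) (mul_mem hg0 hh1.1), ?_,
        fun i hi => ?_⟩
      · rw [mul_smul, mul_smul, mul_smul, hh1.2.1, hstab, inv_smul_eq_iff, mul_smul, hh2.2.1]
      · have e1 := h1x ⟨i, hi⟩
        have e2 := h2y ⟨i, hi⟩
        have e3 := hg' ⟨i, hi⟩
        rw [Equiv.Perm.mul_apply, Equiv.Perm.mul_apply, Equiv.Perm.inv_eq_iff_eq,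
          Equiv.Perm.mul_apply, Equiv.Perm.mul_apply, e1, e2]
        simpa using e3
    rw [Mk_five, Subgroup.mem_bot] at h5
    have h6 : g'.1.1 = (g0 * h2) * ((g0 * h2)⁻¹ * g'.1.1 * (g0 * h1)) * (g0 * h1)⁻¹ := by group
    rw [h6, h5]
    group

end Cfsg.Agent.Lib.Helper9.M24M2
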