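import Mathlib

set_option autoImplicit false

/-! Simplicity of permutation groups: a step lemma for triply transitive groups and a
certificate lemma based on Sylow's theorems. -/

namespace Cfsg.Agent.Lib.Helper9.Simp

variable {Ω : Type*} [Fintype Ω] [DecidableEq Ω]

/-- Simplicity of a subgroup, phrased inside the ambient group. -/
def IsSimpleIn (G : Subgroup (Equiv.Perm Ω)) : Prop :=
  G ≠ ⊥ ∧ ∀ N : Subgroup (Equiv.Perm Ω), N ≤ G → (∀ g ∈ G, ∀ n ∈ N, g * n * g⁻¹ ∈ N) →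
    N = ⊥ ∨ N = G

/-- A non-trivial normal subgroup of a doubly transitive group is transitive. -/
theorem trans_of_normal (G N : Subgroup (Equiv.Perm Ω)) (a : Ω) (Δ : Finset Ω)
    (hΔ : ∀ g ∈ G, g a ∈ Δ) (h1 : ∀ b ∈ Δ, ∃ g ∈ G, g a = b)
    (h2 : ∀ b ∈ Δ, b ≠ a → ∀ c ∈ Δ, c ≠ a → ∃ g ∈ G, g a = a ∧ g b = c)
    (hfaith : ∀ g ∈ G, (∀ x ∈ Δ, g x = x) → g = 1)
    (hNG : N ≤ G) (hnorm : ∀ g ∈ G, ∀ n ∈ N, g * n * g⁻¹ ∈ N) (hN : N ≠ ⊥) :
    ∀ c ∈ Δ, ∃ n ∈ N, n a = c := by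
  obtain ⟨⟨n0, hn0⟩, hne⟩ := (Subgroup.ne_bot_iff_exists_ne_one).mp hN
  have hn01 : n0 ≠ 1 := fun h => hne (Subtype.ext h)
  have hmove : ∃ x ∈ Δ, n0 x ≠ x := by
    by_contra hcon
    push Not at hcon
    exact hn01 (hfaith n0 (hNG hn0) hcon)
  obtain ⟨x, hx, hnx⟩ := hmove
  obtain ⟨g, hg, hga⟩ := h1 x hx
  have hn1 : g⁻¹ * n0 * g ∈ N := by
    have := hnorm g⁻¹ (inv_mem hg) n0 hn0
    rwa [inv_inv] at this
  have hn1a : (g⁻¹ * n0 * g) a ≠ a := by
    rw [Equiv.Perm.mul_apply, Equiv.Perm.mul_apply, hga]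
    intro h
    apply hnx
    rw [Equiv.Perm.inv_eq_iff_eq] at h
    rw [h, hga]
  have hbΔ : (g⁻¹ * n0 * g) a ∈ Δ := hΔ _ (hNG hn1)
  intro c hc
  by_cases hca : c = a
  · exact ⟨1, one_mem _, by rw [hca]; rfl⟩
  · obtain ⟨g', hg', hg'a, hg'b⟩ := h2 _ hbΔ hn1a c hc hca
    refine ⟨g' * (g⁻¹ * n0 * g) * g'⁻¹, hnorm g' hg' _ hn1, ?_⟩
    have : g'⁻¹ a = a := by rw [Equiv.Perm.inv_eq_iff_eq, hg'a]
    rw [Equiv.Perm.mul_apply, Equiv.Perm.mul_apply, this, hg'b]

theorem card_dvd (G N : Subgroup (Equiv.Perm Ω)) (a : Ω) (Δ : Finset Ω)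
    (hΔ : ∀ g ∈ G, g a ∈ Δ) (h1 : ∀ b ∈ Δ, ∃ g ∈ G, g a = b)
    (h2 : ∀ b ∈ Δ, b ≠ a → ∀ c ∈ Δ, c ≠ a → ∃ g ∈ G, g a = a ∧ g b = c)
    (hfaith : ∀ g ∈ G, (∀ x ∈ Δ, g x = x) → g = 1)
    (hNG : N ≤ G) (hnorm : ∀ g ∈ G, ∀ n ∈ N, g * n * g⁻¹ ∈ N) (hN : N ≠ ⊥) :
    Δ.card ∣ Nat.card N := by
  have htr := trans_of_normal G N a Δ hΔ h1 h2 hfaith hNG hnorm hN
  have horb : MulAction.orbit ↥N a = ↑Δ := by
    ext c
    constructor
    · rintro ⟨n, rfl⟩
      exact hΔ n.1 (hNG n.2)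
    · intro hc
      obtain ⟨n, hn, hna⟩ := htr c hc
      exact ⟨⟨n, hn⟩, hna⟩
  have h := Subgroup.card_mul_index (MulAction.stabilizer ↥N a)
  rw [MulAction.index_stabilizer, horb, Set.ncard_coe_finset] at h
  exact Dvd.intro_left _ h

/-- A triply transitive group with a simple point stabiliser, on a set whose size is not a
power of 2, is simple. -/
theorem simple_step (G : Subgroup (Equiv.Perm Ω)) (a b : Ω) (Δ : Finset Ω)
    (hΔ : ∀ g ∈ G, g a ∈ Δ) (h1 : ∀ c ∈ Δ, ∃ g ∈ G, g a = c)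
    (h2 : ∀ c ∈ Δ, c ≠ a → ∀ d ∈ Δ, d ≠ a → ∃ g ∈ G, g a = a ∧ g c = d)
    (hb : b ∈ Δ) (hba : b ≠ a)
    (h3 : ∀ c ∈ Δ, c ≠ a → c ≠ b → ∀ d ∈ Δ, d ≠ a → d ≠ b →
      ∃ g ∈ G, g a = a ∧ g b = b ∧ g c = d)
    (hfaith : ∀ g ∈ G, (∀ x ∈ Δ, g x = x) → g = 1)
    (hc4 : 4 ≤ Δ.card) (hpow : ∀ k, Δ.card ≠ 2 ^ k)
    (Ga : Subgroup (Equiv.Perm Ω)) (hGa : ∀ g, g ∈ Ga ↔ g ∈ G ∧ g a = a)
    (hS : IsSimpleIn Ga) : IsSimpleIn G := by
  refine ⟨?_, ?_⟩
  · intro hG
    apply hS.1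
    rw [eq_bot_iff]
    intro x hx
    rw [← hG]
    exact ((hGa x).mp hx).1
  · intro N hNG hnorm
    by_cases hN : N = ⊥
    · exact Or.inl hN
    right
    have htr := trans_of_normal G N a Δ hΔ h1 h2 hfaith hNG hnorm hN
    have hNa := hS.2 (N ⊓ Ga) inf_le_right (by
      intro g hg n hn
      have hn' := Subgroup.mem_inf.mp hn
      exact Subgroup.mem_inf.mpr ⟨hnorm g ((hGa g).mp hg).1 n hn'.1,
        Ga.mul_mem (Ga.mul_mem hg hn'.2) (Ga.inv_mem hg)⟩)
    rcases hNa with hbot | htop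
    · exfalso
      have key : ∀ n ∈ N, n a = a → n = 1 := by
        intro n hn hna
        have : n ∈ N ⊓ Ga := Subgroup.mem_inf.mpr ⟨hn, (hGa n).mpr ⟨hNG hn, hna⟩⟩
        rw [hbot, Subgroup.mem_bot] at this
        exact this
      have inj : ∀ n1 ∈ N, ∀ n2 ∈ N, n1 a = n2 a → n1 = n2 := by
        intro n1 hn1 n2 hn2 h
        have h1' : (n1⁻¹ * n2) a = a := by
          rw [Equiv.Perm.mul_apply, ← h]
          simp
        have := key _ (mul_mem (inv_mem hn1) hn2) h1'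
        rw [inv_mul_eq_one] at this
        exact this
      obtain ⟨n1, hn1, hn1a⟩ := htr b hb
      have sq : n1 * n1 = 1 := by
        by_contra hsq
        have hcΔ : (n1 * n1) a ∈ Δ := hΔ _ (hNG (mul_mem hn1 hn1))
        have hca : (n1 * n1) a ≠ a := fun h => hsq (key _ (mul_mem hn1 hn1) h)
        have hcb : (n1 * n1) a ≠ b := by
          intro h
          rw [Equiv.Perm.mul_apply, hn1a] at h
          have h' : n1 b = n1 a := by rw [hn1a]; exact h
          exact hba (n1.injective h')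
        obtain ⟨d, hd⟩ : ∃ d, d ∈ ((Δ.erase a).erase b).erase ((n1 * n1) a) := by
          apply Finset.card_pos.mp
          have e1 := Finset.pred_card_le_card_erase (s := Δ) (a := a)
          have e2 := Finset.pred_card_le_card_erase (s := Δ.erase a) (a := b)
          have e3 := Finset.pred_card_le_card_erase (s := (Δ.erase a).erase b) (a := (n1 * n1) a)
          omega
        rw [Finset.mem_erase, Finset.mem_erase, Finset.mem_erase] at hd
        obtain ⟨hdc, hdb, hda, hdΔ⟩ := hd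
        obtain ⟨g, hg, hga, hgb, hgc⟩ := h3 _ hcΔ hca hcb d hdΔ hda hdb
        have hginv : g⁻¹ a = a := by rw [Equiv.Perm.inv_eq_iff_eq, hga]
        have hm : g * n1 * g⁻¹ = n1 := by
          apply inj _ (hnorm g hg n1 hn1) _ hn1
          rw [Equiv.Perm.mul_apply, Equiv.Perm.mul_apply, hginv, hn1a, hgb]
        have hcomm : g * n1 = n1 * g := by
          calc g * n1 = g * n1 * g⁻¹ * g := by group
            _ = n1 * g := by rw [hm]
        apply hdc
        rw [← hgc]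
        have e1 : g ((n1 * n1) a) = (g * n1) (n1 a) := rfl
        have e2 : (n1 * g) (n1 a) = n1 ((g * n1) a) := rfl
        have e3 : (n1 * g) a = n1 a := by rw [Equiv.Perm.mul_apply, hga]
        rw [e1, hcomm, e2, hcomm, e3]
        rfl
      have all : ∀ n ∈ N, n * n = 1 := by
        intro n hn
        by_cases hn1' : n = 1
        · rw [hn1', mul_one]
        · have hna : n a ≠ a := fun h => hn1' (key n hn h)
          obtain ⟨g, hg, hga, hgb⟩ := h2 b hb hba (n a) (hΔ n (hNG hn)) hna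
          have hginv : g⁻¹ a = a := by rw [Equiv.Perm.inv_eq_iff_eq, hga]
          have hm : g * n1 * g⁻¹ = n := by
            apply inj _ (hnorm g hg n1 hn1) _ hn
            rw [Equiv.Perm.mul_apply, Equiv.Perm.mul_apply, hginv, hn1a, hgb]
          rw [← hm]
          have : g * n1 * g⁻¹ * (g * n1 * g⁻¹) = g * (n1 * n1) * g⁻¹ := by group
          rw [this, sq]
          group
      have hp : IsPGroup 2 ↥N := by
        intro x
        refine ⟨1, ?_⟩
        apply Subtype.ext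
        rw [pow_one, pow_two]
        exact all x.1 x.2
      haveI : Fact (Nat.Prime 2) := ⟨Nat.prime_two⟩
      obtain ⟨k, hk⟩ := IsPGroup.iff_card.mp hp
      have hcard : Nat.card ↥N = Δ.card := by
        rw [← Fintype.card_coe Δ, ← Nat.card_eq_fintype_card]
        apply Nat.card_congr
        apply Equiv.ofBijective (fun n : ↥N => (⟨n.1 a, hΔ n.1 (hNG n.2)⟩ : ↥Δ))
        constructor
        · intro x y hxy
          apply Subtype.ext
          exact inj x.1 x.2 y.1 y.2 (congrArg Subtype.val hxy)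
        · intro c
          obtain ⟨n, hn, hna⟩ := htr c.1 c.2
          exact ⟨⟨n, hn⟩, Subtype.ext hna⟩
      exact hpow k (hcard ▸ hk)
    · apply le_antisymm hNG
      intro g hg
      obtain ⟨n, hn, hna⟩ := htr (g a) (hΔ g hg)
      have h1' : n⁻¹ * g ∈ Ga := by
        rw [hGa]
        refine ⟨mul_mem (inv_mem (hNG hn)) hg, ?_⟩
        rw [Equiv.Perm.mul_apply, ← hna]
        simp
      have h2' : n⁻¹ * g ∈ N := by
        have : n⁻¹ * g ∈ N ⊓ Ga := by rw [htop]; exact h1'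
        exact (Subgroup.mem_inf.mp this).1
      have := mul_mem hn h2'
      rwa [mul_inv_cancel_left] at this

/-- A certificate of simplicity: a prime dividing the order of every non-trivial normal
subgroup exactly once in the group order, and an element of that order whose normal closure
is everything. -/
theorem simple_of_cert (G : Subgroup (Equiv.Perm Ω)) (p : ℕ) [Fact p.Prime]
    (s : Equiv.Perm Ω) (hs : s ∈ G) (hord : orderOf s = p) (hp2 : ¬ p ^ 2 ∣ Nat.card G)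
    (hdiv : ∀ N : Subgroup (Equiv.Perm Ω), N ≤ G → (∀ g ∈ G, ∀ n ∈ N, g * n * g⁻¹ ∈ N) →
      N ≠ ⊥ → p ∣ Nat.card N)
    (hclos : ∀ N : Subgroup (Equiv.Perm Ω), N ≤ G → (∀ g ∈ G, ∀ n ∈ N, g * n * g⁻¹ ∈ N) →
      s ∈ N → G ≤ N) : IsSimpleIn G := by
  have hpp : p.Prime := Fact.out
  refine ⟨?_, ?_⟩
  · intro hG
    rw [hG, Subgroup.mem_bot] at hs
    rw [hs, orderOf_one] at hord
    exact hpp.one_lt.ne hord
  · intro N hNG hnorm
    by_cases hN : N = ⊥
    · exact Or.inl hN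
    right
    apply le_antisymm hNG
    apply hclos N hNG hnorm
    obtain ⟨x, hx⟩ := exists_prime_orderOf_dvd_card' p (hdiv N hNG hnorm hN)
    let x' : ↥G := ⟨x.1, hNG x.2⟩
    let s' : ↥G := ⟨s, hs⟩
    have hox : orderOf x' = p := by
      rw [← Subgroup.orderOf_coe x', ← hx, ← Subgroup.orderOf_coe x]
    have hos : orderOf s' = p := by
      rw [← Subgroup.orderOf_coe s']
      exact hord
    have hPx : IsPGroup p (Subgroup.zpowers x') :=
      IsPGroup.of_card (n := 1) (by rw [Nat.card_zpowers, hox, pow_one])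
    have hPs : IsPGroup p (Subgroup.zpowers s') :=
      IsPGroup.of_card (n := 1) (by rw [Nat.card_zpowers, hos, pow_one])
    obtain ⟨Q1, hQ1⟩ := hPx.exists_le_sylow
    obtain ⟨Q2, hQ2⟩ := hPs.exists_le_sylow
    obtain ⟨g, hg⟩ := MulAction.exists_smul_eq ↥G Q1 Q2
    have hQ1card : Nat.card Q1 = p := by
      have hc := Sylow.card_eq_multiplicity Q1
      have hdvd : p ^ (Nat.card ↥G).factorization p ∣ Nat.card ↥G := Nat.ordProj_dvd _ _
      have hk1 : (Nat.card ↥G).factorization p ≤ 1 := by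
        by_contra hk
        push Not at hk
        exact hp2 ((pow_dvd_pow p hk).trans hdvd)
      have hk0 : (Nat.card ↥G).factorization p ≠ 0 := by
        intro h0
        rw [h0, pow_zero] at hc
        have := Subgroup.card_dvd_of_le hQ1
        rw [Nat.card_zpowers, hox, hc] at this
        exact hpp.one_lt.ne' (Nat.dvd_one.mp this)
      have : (Nat.card ↥G).factorization p = 1 := by omega
      rw [hc, this, pow_one]
    have hQ1eq : Subgroup.zpowers x' = (Q1 : Subgroup ↥G) :=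
      Subgroup.eq_of_le_of_card_ge hQ1 (by rw [hQ1card, Nat.card_zpowers, hox])
    have hs2 : s' ∈ (Q2 : Subgroup ↥G) := hQ2 (Subgroup.mem_zpowers s')
    rw [← hg, Sylow.smul_def, Sylow.pointwise_smul_def,
      Subgroup.mem_pointwise_smul_iff_inv_smul_mem, ← hQ1eq, Subgroup.mem_zpowers_iff] at hs2
    obtain ⟨k, hk⟩ := hs2
    have hk' : ((x' ^ k : ↥G) : Equiv.Perm Ω) = (g : Equiv.Perm Ω)⁻¹ * s * (g : Equiv.Perm Ω) := by
      rw [hk, MulAut.smul_def, ← map_inv, MulAut.conj_apply, inv_inv]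
      rfl
    have hxk : ((x' ^ k : ↥G) : Equiv.Perm Ω) ∈ N := by
      have : ((x' ^ k : ↥G) : Equiv.Perm Ω) = (x.1) ^ k := by
        rw [Subgroup.coe_zpow]
      rw [this]
      exact zpow_mem x.2 k
    have := hnorm (g : Equiv.Perm Ω) g.2 _ hxk
    rw [hk'] at this
    have e : (g : Equiv.Perm Ω) * ((g : Equiv.Perm Ω)⁻¹ * s * (g : Equiv.Perm Ω)) *
        (g : Equiv.Perm Ω)⁻¹ = s := by group
    rwa [e] at this

/-- Simplicity is invariant under conjugation. -/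
theorem simpleIn_conj (G G' : Subgroup (Equiv.Perm Ω)) (g0 : Equiv.Perm Ω)
    (h : ∀ x, x ∈ G' ↔ g0⁻¹ * x * g0 ∈ G) (hG : IsSimpleIn G) : IsSimpleIn G' := by
  refine ⟨?_, ?_⟩
  · intro hG'
    apply hG.1
    rw [eq_bot_iff]
    intro x hx
    have : g0 * x * g0⁻¹ ∈ G' := by
      rw [h]
      have e : g0⁻¹ * (g0 * x * g0⁻¹) * g0 = x := by group
      rwa [e]
    rw [hG', Subgroup.mem_bot] at this
    rw [Subgroup.mem_bot]
    have e2 : x = g0⁻¹ * (g0 * x * g0⁻¹) * g0 := by group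
    rw [e2, this]
    group
  · intro N' hN' hnorm'
    let N : Subgroup (Equiv.Perm Ω) := N'.comap (MulAut.conj g0).toMonoidHom
    have hmemN : ∀ x, x ∈ N ↔ g0 * x * g0⁻¹ ∈ N' := fun x => Iff.rfl
    have hNG : N ≤ G := by
      intro x hx
      have := (h _).mp (hN' ((hmemN x).mp hx))
      have e : g0⁻¹ * (g0 * x * g0⁻¹) * g0 = x := by group
      rwa [e] at this
    have hnorm : ∀ g ∈ G, ∀ n ∈ N, g * n * g⁻¹ ∈ N := by
      intro g hg n hn
      rw [hmemN]
      have hg' : g0 * g * g0⁻¹ ∈ G' := by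
        rw [h]
        have e : g0⁻¹ * (g0 * g * g0⁻¹) * g0 = g := by group
        rwa [e]
      have := hnorm' _ hg' _ ((hmemN n).mp hn)
      have e : g0 * g * g0⁻¹ * (g0 * n * g0⁻¹) * (g0 * g * g0⁻¹)⁻¹ = g0 * (g * n * g⁻¹) * g0⁻¹ := by
        group
      rwa [e] at this
    rcases hG.2 N hNG hnorm with hb | ht
    · left
      rw [eq_bot_iff]
      intro x hx
      have : g0⁻¹ * x * g0 ∈ N := by
        rw [hmemN]
        have e : g0 * (g0⁻¹ * x * g0) * g0⁻¹ = x := by group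
        rwa [e]
      rw [hb, Subgroup.mem_bot] at this
      rw [Subgroup.mem_bot]
      have e2 : x = g0 * (g0⁻¹ * x * g0) * g0⁻¹ := by group
      rw [e2, this]
      group
    · right
      apply le_antisymm hN'
      intro x hx
      have : g0⁻¹ * x * g0 ∈ N := by
        rw [ht]
        exact (h x).mp hx
      rw [hmemN] at this
      have e : g0 * (g0⁻¹ * x * g0) * g0⁻¹ = x := by group
      rwa [e] at this

/-- From simplicity inside the ambient group to simplicity of a subgroup of a subgroup. -/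
theorem bridge (M : Subgroup (Equiv.Perm Ω)) (S : Subgroup ↥M) (K : Subgroup (Equiv.Perm Ω))
    (hK : ∀ x : ↥M, x ∈ S ↔ (x : Equiv.Perm Ω) ∈ K) (hKM : K ≤ M) (h : IsSimpleIn K) :
    IsSimpleGroup ↥S := by
  haveI : Nontrivial ↥S := by
    obtain ⟨⟨k, hk⟩, hne⟩ := (Subgroup.ne_bot_iff_exists_ne_one).mp h.1
    refine ⟨⟨⟨⟨k, hKM hk⟩, (hK _).mpr hk⟩, 1, ?_⟩⟩
    intro heq
    apply hne
    apply Subtype.ext
    have := congrArg (fun z : ↥S => ((z : ↥M) : Equiv.Perm Ω)) heq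
    exact this
  refine ⟨fun H hH => ?_⟩
  let N : Subgroup (Equiv.Perm Ω) := (H.map S.subtype).map M.subtype
  have hmemN : ∀ x, x ∈ N ↔ ∃ y : ↥S, y ∈ H ∧ ((y : ↥M) : Equiv.Perm Ω) = x := by
    intro x
    constructor
    · rintro ⟨m, ⟨y, hy, rfl⟩, rfl⟩
      exact ⟨y, hy, rfl⟩
    · rintro ⟨y, hy, rfl⟩
      exact ⟨(y : ↥M), ⟨y, hy, rfl⟩, rfl⟩
  have hNK : N ≤ K := by
    intro x hx
    obtain ⟨y, -, rfl⟩ := (hmemN x).mp hx
    exact (hK _).mp y.2
  have hnorm : ∀ g ∈ K, ∀ n ∈ N, g * n * g⁻¹ ∈ N := by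
    intro g hg n hn
    obtain ⟨y, hy, rfl⟩ := (hmemN n).mp hn
    rw [hmemN]
    let g' : ↥S := ⟨⟨g, hKM hg⟩, (hK _).mpr hg⟩
    exact ⟨g' * y * g'⁻¹, hH.conj_mem y hy g', rfl⟩
  rcases h.2 N hNK hnorm with hb | ht
  · left
    rw [eq_bot_iff]
    intro y hy
    have : ((y : ↥M) : Equiv.Perm Ω) ∈ N := (hmemN _).mpr ⟨y, hy, rfl⟩
    rw [hb, Subgroup.mem_bot] at this
    rw [Subgroup.mem_bot]
    apply Subtype.ext
    apply Subtype.ext
    exact this
  · right
    rw [eq_top_iff]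
    intro y _
    have : ((y : ↥M) : Equiv.Perm Ω) ∈ N := by
      rw [ht]
      exact (hK _).mp y.2
    obtain ⟨z, hz, hzy⟩ := (hmemN _).mp this
    have : z = y := by
      apply Subtype.ext
      apply Subtype.ext
      exact hzy
    rw [← this]
    exact hz

/-- From simplicity inside the ambient group to simplicity of the subgroup as a group. -/
theorem bridge0 (K : Subgroup (Equiv.Perm Ω)) (h : IsSimpleIn K) : IsSimpleGroup ↥K := by
  haveI : Nontrivial ↥K := (Subgroup.nontrivial_iff_ne_bot K).mpr h.1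
  refine ⟨fun H hH => ?_⟩
  let N : Subgroup (Equiv.Perm Ω) := H.map K.subtype
  have hmemN : ∀ x, x ∈ N ↔ ∃ y : ↥K, y ∈ H ∧ (y : Equiv.Perm Ω) = x := by
    intro x
    constructor
    · rintro ⟨y, hy, rfl⟩
      exact ⟨y, hy, rfl⟩
    · rintro ⟨y, hy, rfl⟩
      exact ⟨y, hy, rfl⟩
  have hNK : N ≤ K := by
    intro x hx
    obtain ⟨y, -, rfl⟩ := (hmemN x).mp hx
    exact y.2
  have hnorm : ∀ g ∈ K, ∀ n ∈ N, g * n * g⁻¹ ∈ N := by
    intro g hg n hn
    obtain ⟨y, hy, rfl⟩ := (hmemN n).mp hn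
    rw [hmemN]
    exact ⟨⟨g, hg⟩ * y * ⟨g, hg⟩⁻¹, hH.conj_mem y hy ⟨g, hg⟩, rfl⟩
  rcases h.2 N hNK hnorm with hb | ht
  · left
    rw [eq_bot_iff]
    intro y hy
    have : (y : Equiv.Perm Ω) ∈ N := (hmemN _).mpr ⟨y, hy, rfl⟩
    rw [hb, Subgroup.mem_bot] at this
    rw [Subgroup.mem_bot]
    exact Subtype.ext this
  · right
    rw [eq_top_iff]
    intro y _
    have : (y : Equiv.Perm Ω) ∈ N := by
      rw [ht]
      exact y.2
    obtain ⟨z, hz, hzy⟩ := (hmemN _).mp this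
    have : z = y := Subtype.ext hzy
    rw [← this]
    exact hz

end Cfsg.Agent.Lib.Helper9.Simp
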