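import Mathlib
import Cfsg.Prelude.Def_Sporadic_a
import Cfsg.Agent.Lib.Helper9.M24M2
import Cfsg.Agent.Lib.Helper9.Simp

set_option autoImplicit false

/-! Normal closure certificates along a stabiliser chain. -/

namespace Cfsg.Agent.Lib.Helper9.M24Sx

open Cfsg.Agent.Lib.Helper9.Golay Cfsg.Agent.Lib.Helper9.GolayC Cfsg.Agent.Lib.Helper9.M24C
open Cfsg.Agent.Lib.Helper9.Octad Cfsg.Agent.Lib.Helper9.M24B Cfsg.Agent.Lib.Helper9.M24T
open Cfsg.Agent.Lib.Helper9.M24O Cfsg.Agent.Lib.Helper9.M24Oct Cfsg.Agent.Lib.Helper9.M24OS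
open Cfsg.Agent.Lib.Helper9.M24Dod Cfsg.Agent.Lib.Helper9.M24M Cfsg.Agent.Lib.Helper9.M24M2
open scoped Pointwise

/-- Sifting through a stabiliser chain. -/
theorem sift (Kc : ℕ → Subgroup (Equiv.Perm Cfsg.GolayPt)) (b : ℕ → Cfsg.GolayPt)
    (ob : ℕ → ℕ → Bool) (top : ℕ) (hbot : Kc top = ⊥)
    (hstep : ∀ k, ∀ g ∈ Kc k, g (b k) = b k → g ∈ Kc (k + 1))
    (horb : ∀ k < top, ∀ g ∈ Kc k, ob k (idx (g (b k))) = true)
    (N : Subgroup (Equiv.Perm Cfsg.GolayPt)) (k0 : ℕ)
    (hW : ∀ k, k0 ≤ k → k < top → ∀ β < 24, ob k β = true →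
      ∃ n ∈ N, n ∈ Kc k ∧ idx (n (b k)) = β) :
    ∀ j k, k + j = top → k0 ≤ k → Kc k ≤ N := by
  intro j
  induction j with
  | zero =>
    intro k hk _
    have : k = top := by omega
    rw [this, hbot]
    exact bot_le
  | succ j ih =>
    intro k hk hk0 g hg
    have hkt : k < top := by omega
    obtain ⟨n, hn, hnK, hnb⟩ := hW k hk0 hkt (idx (g (b k))) (idx_lt _) (horb k hkt g hg)
    have hnb' : n (b k) = g (b k) := idx_inj hnb
    have h1 : n⁻¹ * g ∈ Kc (k + 1) := by
      apply hstep k _ ((Kc k).mul_mem ((Kc k).inv_mem hnK) hg)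
      rw [Equiv.Perm.mul_apply, ← hnb']
      simp
    have h2 := ih (k + 1) (by omega) (by omega) h1
    have := N.mul_mem hn h2
    rwa [mul_inv_cancel_left] at this

/-- Check of a list of witness indices. -/
def witOk (L : List (List ℕ)) (bs : List ℕ) (ob : ℕ → ℕ → Bool) (k0 top : ℕ)
    (W : List (List ℕ)) : Bool :=
  (List.range top).all (fun k => decide (k < k0) || (List.range 24).all (fun β => !ob k β ||
    (decide ((W.getD k []).getD β 0 < L.length) &&
      (List.range k).all (fun i =>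
        decide ((L.getD ((W.getD k []).getD β 0) []).getD (bs.getD i 0) 0 = bs.getD i 0)) &&
      decide ((L.getD ((W.getD k []).getD β 0) []).getD (bs.getD k 0) 0 = β))))

theorem closure_cert (Kc : ℕ → Subgroup (Equiv.Perm Cfsg.GolayPt)) (b : ℕ → Cfsg.GolayPt)
    (bs : List ℕ) (ob : ℕ → ℕ → Bool) (top k0 : ℕ) (hk0 : k0 ≤ top)
    (hbs : ∀ k < top, idx (b k) = bs.getD k 0) (hbot : Kc top = ⊥)
    (hstep : ∀ k, ∀ g ∈ Kc k, g (b k) = b k → g ∈ Kc (k + 1))
    (horb : ∀ k < top, ∀ g ∈ Kc k, ob k (idx (g (b k))) = true)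
    (hmem : ∀ k, ∀ g ∈ Kc k0, (∀ i < k, g (b i) = b i) → g ∈ Kc k)
    (N : Subgroup (Equiv.Perm Cfsg.GolayPt)) (hNK : N ≤ Kc k0)
    (L : List (List ℕ)) (hL : ∀ t ∈ L, ∃ n ∈ N, IsTable n t)
    (W : List (List ℕ)) (hW : witOk L bs ob k0 top W = true) : Kc k0 ≤ N := by
  apply sift Kc b ob top hbot hstep horb N k0 _ (top - k0) k0 (by omega) le_rfl
  intro k hk hkt β hβ hob
  unfold witOk at hW
  rw [List.all_eq_true] at hW
  have h1 := hW k (List.mem_range.mpr hkt)
  rw [Bool.or_eq_true, decide_eq_true_eq] at h1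
  rcases h1 with h1 | h1
  · omega
  rw [List.all_eq_true] at h1
  have h2 := h1 β (List.mem_range.mpr hβ)
  rw [hob] at h2
  simp only [Bool.not_true, Bool.false_or, Bool.and_eq_true, decide_eq_true_eq,
    List.all_eq_true, List.mem_range] at h2
  obtain ⟨⟨hlen, hfix⟩, himg⟩ := h2
  have hmemL : L.getD ((W.getD k []).getD β 0) [] ∈ L := by
    rw [List.getD_eq_getElem _ _ hlen]
    exact List.getElem_mem _
  obtain ⟨n, hn, hT⟩ := hL _ hmemL
  refine ⟨n, hn, ?_, ?_⟩
  · apply hmem k n (hNK hn)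
    intro i hi
    apply idx_inj
    rw [hT, hbs i (by omega), hfix i hi]
  · rw [hT, hbs k hkt, himg]

/-- Table of a conjugate. -/
theorem conj_table {c s : Equiv.Perm Cfsg.GolayPt} {ct st y : List ℕ} (hc : IsTable c ct)
    (hs : IsTable s st) (h : comp y ct = comp ct st) : IsTable (c * s * c⁻¹) y := by
  intro p
  have h1 := isTable_mul hc hs (c⁻¹ p)
  rw [← h, comp_getD _ _ _ (idx_lt _), ← hc] at h1
  have h2 : c (c⁻¹ p) = p := by simp
  rw [h2] at h1
  rw [← h1]
  rfl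

/-- Lockstep check that the `ys` are the conjugates of `S` by the `cs`. -/
def ysOk (S : List ℕ) : List (List ℕ) → List (List ℕ) → Bool
  | [], [] => true
  | y :: ys, c :: cs => decide (comp y c = comp c S) && ysOk S ys cs
  | _, _ => false

theorem ys_sound (G N : Subgroup (Equiv.Perm Cfsg.GolayPt))
    (hnorm : ∀ g ∈ G, ∀ n ∈ N, g * n * g⁻¹ ∈ N) (s : Equiv.Perm Cfsg.GolayPt) (hs : s ∈ N)
    (S : List ℕ) (hS : IsTable s S) :
    ∀ (YS CJ : List (List ℕ)), (∀ c ∈ CJ, ∃ g ∈ G, IsTable g c) → ysOk S YS CJ = true →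
      ∀ y ∈ YS, ∃ n ∈ N, IsTable n y := by
  intro YS
  induction YS with
  | nil =>
    intro CJ _ _ y hy
    simp at hy
  | cons y0 ys ih =>
    intro CJ hCJ hok y hy
    cases CJ with
    | nil => simp [ysOk] at hok
    | cons c cs =>
      unfold ysOk at hok
      rw [Bool.and_eq_true, decide_eq_true_eq] at hok
      rcases List.mem_cons.mp hy with rfl | hy'
      · obtain ⟨g, hg, hgT⟩ := hCJ c List.mem_cons_self
        exact ⟨g * s * g⁻¹, hnorm g hg s hs, conj_table hgT hS hok.1⟩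
      · exact ih cs (fun c' hc' => hCJ c' (List.mem_cons_of_mem _ hc')) hok.2 y hy'

/-- A permutation is determined by its table. -/
theorem isTable_inj {g g' : Equiv.Perm Cfsg.GolayPt} {t : List ℕ} (h : IsTable g t)
    (h' : IsTable g' t) : g = g' := by
  apply Equiv.ext
  intro p
  apply idx_inj
  rw [h, h']

/-- Table of a power. -/
def powT : ℕ → List ℕ → List ℕ
  | 0, _ => List.range 24
  | n + 1, t => comp t (powT n t)

theorem isTable_pow {s : Equiv.Perm Cfsg.GolayPt} {t : List ℕ} (h : IsTable s t) :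
    ∀ n, IsTable (s ^ n) (powT n t) := by
  intro n
  induction n with
  | zero =>
    rw [pow_zero]
    exact isTable_one
  | succ n ih =>
    rw [pow_succ']
    exact isTable_mul h ih

theorem order_prime {s : Equiv.Perm Cfsg.GolayPt} {t : List ℕ} (h : IsTable s t) (p : ℕ)
    [Fact p.Prime] (hp : powT p t = List.range 24) (i : ℕ) (hi : i < 24)
    (hne : t.getD i 0 ≠ i) : orderOf s = p := by
  apply orderOf_eq_prime
  · apply eq_one_of_isTable
    rw [← hp]
    exact isTable_pow h p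
  · intro h1
    apply hne
    have := h (ptOf i)
    rw [h1, Equiv.Perm.one_apply, idx_ptOf i hi] at this
    exact this.symm

end Cfsg.Agent.Lib.Helper9.M24Sx
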