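import Mathlib
import Cfsg.Prelude.Def_Sporadic_a
import Cfsg.Prelude.Def_Spor_Mathieu
import Cfsg.Agent.Lib.Helper9.M24M
import Cfsg.Agent.Lib.Helper9.M24Sx

set_option autoImplicit false

/-! Enumeration of the point stabiliser in the stabiliser of a dodecad; elements of prime order
fix a point outside the dodecad. -/

namespace Cfsg.Agent.Lib.Helper9.M24M11

open Cfsg.Agent.Lib.Helper9.Golay Cfsg.Agent.Lib.Helper9.GolayC Cfsg.Agent.Lib.Helper9.M24C
open Cfsg.Agent.Lib.Helper9.Octad Cfsg.Agent.Lib.Helper9.M24B Cfsg.Agent.Lib.Helper9.M24T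
open Cfsg.Agent.Lib.Helper9.M24O Cfsg.Agent.Lib.Helper9.M24M Cfsg.Agent.Lib.Helper9.M24Sx
open scoped Pointwise

/-- Tables of the transversal at level `k` of the dodecad chain. -/
def levelM (k : ℕ) : List (List ℕ) :=
  ((List.range 24).filter (fun β => dM k β)).map
    (fun β => MT.getD ((TRM.getD k []).getD β 0) [])

/-- Tables of all members of the `k`-th group of the dodecad chain (`k + j = 5`). -/
def tabsM : ℕ → ℕ → List (List ℕ)
  | 0, _ => [List.range 24]
  | j + 1, k => (levelM k).flatMap (fun u => (tabsM j (k + 1)).map (comp u))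

theorem Mk_tabs : ∀ j k, k + j = 5 → ∀ g ∈ Mk k, ∃ t ∈ tabsM j k, IsTable g t := by
  intro j
  induction j with
  | zero =>
    intro k hk g hg
    have : k = 5 := by omega
    subst this
    rw [Mk_five, Subgroup.mem_bot] at hg
    rw [hg]
    exact ⟨List.range 24, by simp [tabsM], isTable_one⟩
  | succ j ih =>
    intro k hk g hg
    have hk5 : k < 5 := by omega
    have hdM := orbit_dM k hk5 g hg
    obtain ⟨hn, hinv, h1, h2⟩ := trm_ok k hk5 (idx (g (C k))) (idx_lt _) hdM
    obtain ⟨u, hu, hut⟩ := mt_mem _ hn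
    have huD : u • Dset = Dset := (invB_iff hut DM).mpr hinv
    have huq : u (C k) = g (C k) := by
      apply idx_inj
      rw [hut, idx_C k hk5, h1]
    have hufix : ∀ i < k, u (C i) = C i := by
      intro i hi
      apply idx_inj
      rw [hut, idx_C i (by omega), h2 i hi]
    have hmem : u⁻¹ * g ∈ Mk (k + 1) := by
      refine ⟨mul_mem (inv_mem hu) hg.1, ?_, fun i hi => ?_⟩
      · rw [mul_smul, hg.2.1, inv_smul_eq_iff, huD]
      · rw [Equiv.Perm.mul_apply, Equiv.Perm.inv_eq_iff_eq]
        rcases Nat.lt_succ_iff_lt_or_eq.mp hi with h | h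
        · rw [hg.2.2 i h, hufix i h]
        · rw [h]
          exact huq.symm
    obtain ⟨t', ht', hT'⟩ := ih (k + 1) (by omega) _ hmem
    have h2' : g = u * (u⁻¹ * g) := by group
    refine ⟨comp (MT.getD ((TRM.getD k []).getD (idx (g (C k))) 0) []) t', ?_, ?_⟩
    · simp only [tabsM, List.mem_flatMap, List.mem_map]
      refine ⟨MT.getD ((TRM.getD k []).getD (idx (g (C k))) 0) [], ?_, t', ht', rfl⟩
      unfold levelM
      rw [List.mem_map]
      refine ⟨idx (g (C k)), ?_, rfl⟩
      rw [List.mem_filter, List.mem_range]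
      exact ⟨idx_lt _, hdM⟩
    · have h3 := isTable_mul hut hT'
      rw [← h2'] at h3
      exact h3

/-- The table is the identity. -/
def isId (u : List ℕ) : Bool := (List.range 24).all (fun i => u.getD i 0 == i)

theorem isId_one {u : List ℕ} (h : IsTable 1 u) : isId u = true := by
  unfold isId
  rw [List.all_eq_true]
  intro i hi
  rw [List.mem_range] at hi
  rw [beq_iff_eq]
  have := h (ptOf i)
  rw [idx_ptOf i hi] at this
  rw [← this]
  exact idx_ptOf i hi

/-- The table fixes a point outside the dodecad. -/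
def fixE (t : List ℕ) : Bool := (List.range 24).any (fun i => !DM.testBit i && t.getD i 0 == i)

def okT (t : List ℕ) : Bool :=
  fixE t || (!isId (powT 2 t) && !isId (powT 3 t) && !isId (powT 5 t) && !isId (powT 11 t))

set_option maxRecDepth 100000 in
theorem ok_all : ∀ t ∈ tabsM 4 1, okT t = true := by decide +kernel

theorem m11_fix (g : Equiv.Perm Cfsg.GolayPt) (hg : g ∈ Cfsg.Spor.M11)
    (hord : (orderOf g).Prime) : ∃ x : Cfsg.GolayPt, x ∉ Cfsg.Spor.squareDodecad ∧ g x = x := by
  rw [← Mk_one] at hg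
  obtain ⟨t, ht, hT⟩ := Mk_tabs 4 1 rfl g hg
  have hok := ok_all t ht
  unfold okT at hok
  rw [Bool.or_eq_true] at hok
  rcases hok with hfix | hpow
  · unfold fixE at hfix
    rw [List.any_eq_true] at hfix
    obtain ⟨i, hi, hi2⟩ := hfix
    rw [List.mem_range] at hi
    rw [Bool.and_eq_true, beq_iff_eq] at hi2
    refine ⟨ptOf i, ?_, ?_⟩
    · rw [Dset_eq]
      unfold Dset
      rw [mem_maskSet, idx_ptOf i hi]
      simpa using hi2.1
    · apply idx_inj
      rw [hT, idx_ptOf i hi, hi2.2]
  · exfalso
    have hdvd : orderOf g ∣ 7920 := by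
      have := orderOf_dvd_natCard (⟨g, hg⟩ : ↥(Mk 1))
      rw [card_M1, Subgroup.orderOf_mk] at this
      exact this
    have hp : orderOf g = 2 ∨ orderOf g = 3 ∨ orderOf g = 5 ∨ orderOf g = 11 := by
      have h7920 : (7920 : ℕ) = 2 ^ 4 * 3 ^ 2 * 5 * 11 := by norm_num
      rw [h7920] at hdvd
      rcases (Nat.Prime.dvd_mul hord).mp hdvd with h | h
      · rcases (Nat.Prime.dvd_mul hord).mp h with h | h
        · rcases (Nat.Prime.dvd_mul hord).mp h with h | h
          · left
            exact (Nat.prime_dvd_prime_iff_eq hord Nat.prime_two).mp (hord.dvd_of_dvd_pow h)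
          · right; left
            exact (Nat.prime_dvd_prime_iff_eq hord Nat.prime_three).mp (hord.dvd_of_dvd_pow h)
        · right; right; left
          exact (Nat.prime_dvd_prime_iff_eq hord Nat.prime_five).mp h
      · right; right; right
        exact (Nat.prime_dvd_prime_iff_eq hord (by norm_num)).mp h
    have hpow1 : ∀ n, orderOf g = n → isId (powT n t) = true := by
      intro n hn
      have h1 : g ^ n = 1 := by
        rw [← hn]
        exact pow_orderOf_eq_one g
      have h2 := isTable_pow hT n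
      rw [h1] at h2
      exact isId_one h2
    simp only [Bool.and_eq_true, Bool.not_eq_true'] at hpow
    obtain ⟨⟨⟨q2, q3⟩, q5⟩, q11⟩ := hpow
    rcases hp with h | h | h | h
    · rw [hpow1 2 h] at q2
      exact Bool.noConfusion q2
    · rw [hpow1 3 h] at q3
      exact Bool.noConfusion q3
    · rw [hpow1 5 h] at q5
      exact Bool.noConfusion q5
    · rw [hpow1 11 h] at q11
      exact Bool.noConfusion q11

end Cfsg.Agent.Lib.Helper9.M24M11
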