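import Mathlib
import Cfsg.Prelude.Def_Sporadic_a
import Cfsg.Prelude.Def_Spor_Mathieu
import Cfsg.Agent.Lib.Helper9.M24B

set_option autoImplicit false

/-! Transitivity properties of the group of the length-24 code. -/

namespace Cfsg.Agent.Lib.Helper9.M24T

open Cfsg.Agent.Lib.Helper9.Golay Cfsg.Agent.Lib.Helper9.GolayC Cfsg.Agent.Lib.Helper9.M24C
open Cfsg.Agent.Lib.Helper9.Octad Cfsg.Agent.Lib.Helper9.M24B
open scoped Pointwise

/-- `k`-transitivity for `k ≤ 5`: every injective `k`-tuple is the image of the base tuple. -/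
theorem exists_tuple : ∀ k ≤ 5, ∀ x : ℕ → Cfsg.GolayPt,
    (∀ i < k, ∀ j < k, x i = x j → i = j) → ∃ g ∈ Cfsg.M24, ∀ i < k, g (B i) = x i := by
  intro k
  induction k with
  | zero =>
    intro _ x _
    exact ⟨1, one_mem _, fun i hi => absurd hi (Nat.not_lt_zero i)⟩
  | succ k ih =>
    intro hk x hx
    obtain ⟨g0, hg0, h0⟩ := ih (by omega) x (fun i hi j hj => hx i (by omega) j (by omega))
    have hD : D k (g0⁻¹ (x k)) := by
      refine ⟨fun i hi heq => ?_, fun h5 => by omega, fun h6 => by omega⟩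
      rw [Equiv.Perm.inv_eq_iff_eq] at heq
      rw [h0 i hi] at heq
      have := hx k (by omega) i (by omega) heq
      omega
    obtain ⟨u, hu, huq⟩ := exists_move k (by omega) _ hD
    refine ⟨g0 * u, mul_mem hg0 hu.1, fun i hi => ?_⟩
    rw [Equiv.Perm.mul_apply]
    rcases Nat.lt_succ_iff_lt_or_eq.mp hi with h | h
    · rw [hu.2 i h, h0 i h]
    · rw [h, huq]
      simp

/-- Any injective `k`-tuple (`k ≤ 5`) can be moved to any other by an element of the group. -/
theorem exists_tuple₂ (k : ℕ) (hk : k ≤ 5) (x y : ℕ → Cfsg.GolayPt)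
    (hx : ∀ i < k, ∀ j < k, x i = x j → i = j) (hy : ∀ i < k, ∀ j < k, y i = y j → i = j) :
    ∃ g ∈ Cfsg.M24, ∀ i < k, g (x i) = y i := by
  obtain ⟨g1, hg1, h1⟩ := exists_tuple k hk x hx
  obtain ⟨g2, hg2, h2⟩ := exists_tuple k hk y hy
  refine ⟨g2 * g1⁻¹, mul_mem hg2 (inv_mem hg1), fun i hi => ?_⟩
  rw [Equiv.Perm.mul_apply, ← h1 i hi]
  simp [h2 i hi]

theorem five_trans (x y : Fin 5 ↪ Cfsg.GolayPt) : ∃ g ∈ Cfsg.M24, ∀ i, g (x i) = y i := by
  obtain ⟨g, hg, h⟩ := exists_tuple₂ 5 le_rfl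
    (fun i => if h : i < 5 then x ⟨i, h⟩ else none)
    (fun i => if h : i < 5 then y ⟨i, h⟩ else none)
    (by
      intro i hi j hj hij
      rw [dif_pos hi, dif_pos hj] at hij
      have := x.injective hij
      exact congrArg Fin.val this)
    (by
      intro i hi j hj hij
      rw [dif_pos hi, dif_pos hj] at hij
      have := y.injective hij
      exact congrArg Fin.val this)
  refine ⟨g, hg, fun i => ?_⟩
  have := h i.1 i.2
  rw [dif_pos i.2, dif_pos i.2] at this
  exact this

theorem trans (p q : Cfsg.GolayPt) : ∃ g ∈ Cfsg.M24, g p = q := by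
  obtain ⟨g, hg, h⟩ := exists_tuple₂ 1 (by norm_num) (fun _ => p) (fun _ => q)
    (by intro i hi j hj _; omega) (by intro i hi j hj _; omega)
  exact ⟨g, hg, h 0 (by norm_num)⟩

instance : MulAction.IsPretransitive Cfsg.M24 Cfsg.GolayPt :=
  ⟨fun p q => by
    obtain ⟨g, hg, h⟩ := trans p q
    exact ⟨⟨g, hg⟩, h⟩⟩

/-- The pointwise stabiliser of a `k`-tuple in the image of the base tuple has the order of
the corresponding member of the chain. -/
theorem card_fix (k : ℕ) (x : ℕ → Cfsg.GolayPt) (g : Equiv.Perm Cfsg.GolayPt)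
    (hg : g ∈ Cfsg.M24) (hgx : ∀ i < k, g (B i) = x i) :
    Nat.card {h : Equiv.Perm Cfsg.GolayPt // h ∈ Cfsg.M24 ∧ ∀ i < k, h (x i) = x i} =
      Nat.card (Gk k) := by
  apply Nat.card_congr
  exact
    { toFun := fun h => ⟨g⁻¹ * h.1 * g, mul_mem (mul_mem (inv_mem hg) h.2.1) hg, fun i hi => by
        rw [Equiv.Perm.mul_apply, Equiv.Perm.mul_apply, hgx i hi, h.2.2 i hi, ← hgx i hi]
        simp⟩
      invFun := fun y => ⟨g * y.1 * g⁻¹, mul_mem (mul_mem hg y.2.1) (inv_mem hg), fun i hi => by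
        rw [Equiv.Perm.mul_apply, Equiv.Perm.mul_apply, ← hgx i hi]
        simp [y.2.2 i hi]⟩
      left_inv := fun h => by
        apply Subtype.ext
        show g * (g⁻¹ * h.1 * g) * g⁻¹ = h.1
        group
      right_inv := fun y => by
        apply Subtype.ext
        show g⁻¹ * (g * y.1 * g⁻¹) * g = y.1
        group }

/-- Enumerate a finite set of points. -/
theorem exists_enum (o : Finset Cfsg.GolayPt) (n : ℕ) (h : o.card = n) :
    ∃ x : ℕ → Cfsg.GolayPt, (∀ i < n, x i ∈ o) ∧ (∀ i < n, ∀ j < n, x i = x j → i = j) ∧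
      ∀ p ∈ o, ∃ i < n, x i = p := by
  subst h
  refine ⟨fun i => if h : i < o.card then (o.equivFin.symm ⟨i, h⟩ : Cfsg.GolayPt) else none,
    ?_, ?_, ?_⟩
  · intro i hi
    beta_reduce
    rw [dif_pos hi]
    exact (o.equivFin.symm ⟨i, hi⟩).2
  · intro i hi j hj hij
    beta_reduce at hij
    rw [dif_pos hi, dif_pos hj] at hij
    have := o.equivFin.symm.injective (Subtype.ext hij)
    exact congrArg Fin.val this
  · intro p hp
    refine ⟨(o.equivFin ⟨p, hp⟩).1, (o.equivFin ⟨p, hp⟩).2, ?_⟩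
    beta_reduce
    rw [dif_pos (o.equivFin ⟨p, hp⟩).2]
    simp

/-- The group is transitive on octads. -/
theorem octad_trans (o : Finset Cfsg.GolayPt) (ho : o ∈ Cfsg.octads) :
    ∃ g ∈ Cfsg.M24, g • Oset = o := by
  obtain ⟨x, hx1, hx2, -⟩ := exists_enum o 8 ho.2
  obtain ⟨g, hg, h⟩ := exists_tuple 5 le_rfl x (fun i hi j hj => hx2 i (by omega) j (by omega))
  refine ⟨g, hg, ?_⟩
  have ho' := smul_octad hg Oset_mem
  have hsub : (Finset.range 5).image x ⊆ (g • Oset) ∩ o := by
    intro p hp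
    rw [Finset.mem_image] at hp
    obtain ⟨i, hi, rfl⟩ := hp
    rw [Finset.mem_range] at hi
    rw [Finset.mem_inter]
    refine ⟨?_, hx1 i (by omega)⟩
    rw [← h i hi]
    apply Finset.smul_mem_smul_finset
    unfold Oset
    rw [mem_maskSet]
    exact B_mem_O i (by omega)
  have hcard : ((Finset.range 5).image x).card = 5 := by
    rw [Finset.card_image_of_injOn, Finset.card_range]
    intro i hi j hj hij
    rw [Finset.coe_range, Set.mem_Iio] at hi hj
    exact hx2 i (by omega) j (by omega) hij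
  have hc := Finset.card_le_card hsub
  rcases inter_cases ho' ho with h' | h' | h' | h'
  · omega
  · omega
  · omega
  · exact h'

/-! ### Tables of the members of the chain -/

theorem exists_trans_tab (k : ℕ) (hk : k < 7) (q : Cfsg.GolayPt) (hq : dB k (idx q) = true) :
    ∃ g ∈ H, IsTable g (TT.getD ((TR.getD k []).getD (idx q) 0) []) ∧ g (B k) = q ∧
      ∀ i < k, g (B i) = B i := by
  obtain ⟨hn, h1, h2⟩ := tr_ok k hk (idx q) (idx_lt q) hq
  obtain ⟨g, hg, ht⟩ := node_mem _ hn
  refine ⟨g, hg, ht, ?_, ?_⟩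
  · apply idx_inj
    rw [ht, idx_B k hk, h1]
  · intro i hi
    apply idx_inj
    rw [ht, idx_B i (by omega), h2 i hi]

theorem range_getD (i : ℕ) (hi : i < 24) : (List.range 24).getD i 0 = i := by
  rw [List.getD_eq_getElem _ _ (by simpa using hi)]
  simp

theorem isTable_one : IsTable 1 (List.range 24) := by
  intro p
  rw [range_getD _ (idx_lt p)]
  rfl

theorem eq_one_of_isTable {g : Equiv.Perm Cfsg.GolayPt} (h : IsTable g (List.range 24)) :
    g = 1 := by
  apply Equiv.ext
  intro p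
  apply idx_inj
  rw [h p, range_getD _ (idx_lt p)]
  rfl

/-- Tables of the transversal at level `k`. -/
def levelT (k : ℕ) : List (List ℕ) :=
  ((List.range 24).filter (fun β => dB k β)).map
    (fun β => TT.getD ((TR.getD k []).getD β 0) [])

/-- Tables of all members of the `k`-th group of the chain (`k + j = 7`). -/
def tabs : ℕ → ℕ → List (List ℕ)
  | 0, _ => [List.range 24]
  | j + 1, k => (levelT k).flatMap (fun u => (tabs j (k + 1)).map (comp u))

theorem Gk_tabs : ∀ j k, k + j = 7 → ∀ g ∈ Gk k, ∃ t ∈ tabs j k, IsTable g t := by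
  intro j
  induction j with
  | zero =>
    intro k hk g hg
    have : k = 7 := by omega
    subst this
    rw [Gk_seven, Subgroup.mem_bot] at hg
    rw [hg]
    exact ⟨List.range 24, by simp [tabs], isTable_one⟩
  | succ j ih =>
    intro k hk g hg
    have hk7 : k < 7 := by omega
    have hdB := D_dB k _ (orbit_D k hk7 g hg)
    obtain ⟨u, hu, hut, huq, hufix⟩ := exists_trans_tab k hk7 (g (B k)) hdB
    have hmem : u⁻¹ * g ∈ Gk (k + 1) := by
      refine ⟨mul_mem (inv_mem (H_le hu)) hg.1, fun i hi => ?_⟩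
      rw [Equiv.Perm.mul_apply, Equiv.Perm.inv_eq_iff_eq]
      rcases Nat.lt_succ_iff_lt_or_eq.mp hi with h | h
      · rw [hg.2 i h, hufix i h]
      · rw [h]
        exact huq.symm
    obtain ⟨t', ht', hT'⟩ := ih (k + 1) (by omega) _ hmem
    have h2 : g = u * (u⁻¹ * g) := by group
    refine ⟨comp (TT.getD ((TR.getD k []).getD (idx (g (B k))) 0) []) t', ?_, ?_⟩
    · simp only [tabs, List.mem_flatMap, List.mem_map]
      refine ⟨TT.getD ((TR.getD k []).getD (idx (g (B k))) 0) [], ?_, t', ht', rfl⟩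
      unfold levelT
      rw [List.mem_map]
      refine ⟨idx (g (B k)), ?_, rfl⟩
      rw [List.mem_filter, List.mem_range]
      exact ⟨idx_lt _, hdB⟩
    · have h3 := isTable_mul hut hT'
      rw [← h2] at h3
      exact h3

set_option maxRecDepth 100000 in
theorem tabs6_ok : ∀ t ∈ tabs 1 6, (∀ i < 24, OM.testBit i = true → t.getD i 0 = i) ∧
    comp t t = List.range 24 := by
  decide +kernel

theorem Gk6_iff (g : Equiv.Perm Cfsg.GolayPt) :
    g ∈ Gk 6 ↔ g ∈ Cfsg.M24 ∧ ∀ p ∈ Oset, g p = p := by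
  constructor
  · intro hg
    refine ⟨hg.1, fun p hp => ?_⟩
    obtain ⟨t, ht, hT⟩ := Gk_tabs 1 6 rfl g hg
    unfold Oset at hp
    rw [mem_maskSet] at hp
    apply idx_inj
    rw [hT p, (tabs6_ok t ht).1 _ (idx_lt p) hp]
  · rintro ⟨hg, h⟩
    refine ⟨hg, fun i hi => h _ ?_⟩
    unfold Oset
    rw [mem_maskSet]
    exact B_mem_O i hi

theorem Gk6_sq (g : Equiv.Perm Cfsg.GolayPt) (hg : g ∈ Gk 6) : g * g = 1 := by
  obtain ⟨t, ht, hT⟩ := Gk_tabs 1 6 rfl g hg
  apply eq_one_of_isTable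
  rw [← (tabs6_ok t ht).2]
  exact isTable_mul hT hT

theorem octad_fix_conj (g0 : Equiv.Perm Cfsg.GolayPt) (hg0 : g0 ∈ Cfsg.M24)
    (h : Equiv.Perm Cfsg.GolayPt) :
    h ∈ Cfsg.M24 ⊓ fixingSubgroup (Equiv.Perm Cfsg.GolayPt)
      ((g0 • Oset : Finset Cfsg.GolayPt) : Set Cfsg.GolayPt) ↔ g0⁻¹ * h * g0 ∈ Gk 6 := by
  rw [Gk6_iff, Subgroup.mem_inf, mem_fixingSubgroup_iff]
  constructor
  · rintro ⟨h1, h2⟩
    refine ⟨mul_mem (mul_mem (inv_mem hg0) h1) hg0, fun q hq => ?_⟩
    rw [Equiv.Perm.mul_apply, Equiv.Perm.mul_apply, Equiv.Perm.inv_eq_iff_eq]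
    exact h2 (g0 q) (Finset.mem_coe.mpr (Finset.smul_mem_smul_finset hq))
  · rintro ⟨h1, h2⟩
    constructor
    · have : h = g0 * (g0⁻¹ * h * g0) * g0⁻¹ := by group
      rw [this]
      exact mul_mem (mul_mem hg0 h1) (inv_mem hg0)
    · intro p hp
      rw [Finset.mem_coe, Finset.mem_smul_finset] at hp
      obtain ⟨q, hq, rfl⟩ := hp
      have := h2 q hq
      rw [Equiv.Perm.mul_apply, Equiv.Perm.mul_apply, Equiv.Perm.inv_eq_iff_eq] at this
      exact this

theorem octads_eq : Cfsg.octads = (fun c => maskSet (lin LB c)) ''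
    (↑((Finset.range 4096).filter (fun c => pc 24 (lin LB c) = 8)) : Set ℕ) := by
  ext o
  constructor
  · intro ho
    have ho' := (mem_octads o).mp ho
    obtain ⟨c, hc, hcw⟩ := (mem_iff _).mp ho'.1
    refine ⟨c, ?_, ?_⟩
    · rw [Finset.mem_coe, Finset.mem_filter, Finset.mem_range]
      refine ⟨hc, ?_⟩
      rw [← norm_dec, ← hcw, norm_ind]
      exact ho'.2
    · show maskSet _ = o
      rw [maskSet_eq, ← hcw, supp_ind]
  · rintro ⟨c, hc, rfl⟩
    rw [Finset.mem_coe, Finset.mem_filter] at hc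
    exact maskSet_octad c hc.2

theorem maskSet_lin_injOn : Set.InjOn (fun c => maskSet (lin LB c))
    (↑((Finset.range 4096).filter (fun c => pc 24 (lin LB c) = 8)) : Set ℕ) := by
  intro c hc c' hc' h
  rw [Finset.mem_coe, Finset.mem_filter, Finset.mem_range] at hc hc'
  apply dec_lin_inj c c' hc.1 hc'.1
  rw [← ind_maskSet, ← ind_maskSet]
  exact congrArg ind h

set_option maxRecDepth 100000 in
theorem card_oct_filter :
    ((Finset.range 4096).filter (fun c => pc 24 (lin LB c) = 8)).card = 759 := by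
  decide +kernel

theorem card_octads : Cfsg.octads.ncard = 759 := by
  rw [octads_eq, maskSet_lin_injOn.ncard_image, Set.ncard_coe_finset]
  exact card_oct_filter

/-- The group of the code is the automorphism group of the octad system. -/
theorem M24_eq_aut : Cfsg.M24 = Cfsg.setSystemAut Cfsg.octads := by
  apply le_antisymm
  · intro g hg
    rw [MulAction.mem_stabilizer_iff]
    apply Set.Subset.antisymm
    · rintro _ ⟨o, ho, rfl⟩
      exact smul_octad hg ho
    · intro o ho
      refine ⟨g⁻¹ • o, smul_octad (inv_mem hg) ho, ?_⟩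
      show g • g⁻¹ • o = o
      rw [smul_inv_smul]
  · intro g hg
    rw [MulAction.mem_stabilizer_iff] at hg
    have hg' : g⁻¹ • Cfsg.octads = Cfsg.octads := by
      rw [inv_smul_eq_iff, hg]
    apply mem_M24_of_comp
    intro w hw
    rw [← span_octads Cfsg.golayCode min_weight card_pts finrank_golay] at hw
    induction hw using Submodule.span_induction with
    | mem w hw =>
      obtain ⟨hwC, hw8⟩ := hw
      have ho : supp w ∈ Cfsg.octads := by
        rw [mem_octads, ind_supp, ← hammingNorm_eq]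
        exact ⟨hwC, hw8⟩
      have h2 : g⁻¹ • supp w ∈ Cfsg.octads := by
        rw [← hg']
        exact Set.smul_mem_smul_set ho
      have h3 : g⁻¹ • supp w = supp (fun p => w (g p)) := smul_supp g⁻¹ w
      rw [h3, mem_octads, ind_supp] at h2
      exact h2.1
    | zero => exact Cfsg.golayCode.zero_mem
    | add x y _ _ hx hy => exact Cfsg.golayCode.add_mem hx hy
    | smul a x _ hx => exact Cfsg.golayCode.smul_mem a hx

theorem Gk_anti (k : ℕ) : Gk (k + 1) ≤ Gk k :=
  fun _ hg => ⟨hg.1, fun i hi => hg.2 i (by omega)⟩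

theorem tabs_mem : ∀ j k, k + j = 7 → ∀ t ∈ tabs j k, ∃ g ∈ Gk k, IsTable g t := by
  intro j
  induction j with
  | zero =>
    intro k _ t ht
    simp only [tabs, List.mem_singleton] at ht
    rw [ht]
    exact ⟨1, one_mem _, isTable_one⟩
  | succ j ih =>
    intro k hk t ht
    have hk7 : k < 7 := by omega
    simp only [tabs, List.mem_flatMap, List.mem_map] at ht
    obtain ⟨u, hu, t', ht', rfl⟩ := ht
    unfold levelT at hu
    rw [List.mem_map] at hu
    obtain ⟨β, hβ, rfl⟩ := hu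
    rw [List.mem_filter, List.mem_range] at hβ
    obtain ⟨hn, h1, h2⟩ := tr_ok k hk7 β hβ.1 hβ.2
    obtain ⟨gu, hgu, hut⟩ := node_mem _ hn
    obtain ⟨g', hg', hT'⟩ := ih (k + 1) (by omega) t' ht'
    refine ⟨gu * g', mul_mem ⟨H_le hgu, fun i hi => ?_⟩ (Gk_anti k hg'), isTable_mul hut hT'⟩
    apply idx_inj
    rw [hut, idx_B i (by omega), h2 i hi]

set_option maxRecDepth 100000 in
theorem tabs5_fix : ∀ q < 24, OM.testBit q = false →
    ∃ t ∈ tabs 2 5, t.getD q 0 = q ∧ ∃ i < 24, t.getD i 0 ≠ i := by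
  decide +kernel

theorem pt6_notMem : OM.testBit 6 = false := by decide +kernel

/-- Any six points are fixed by a non-identity element: the case of the base. -/
theorem exists_fix6 (q : Cfsg.GolayPt) :
    ∃ h ∈ Cfsg.M24, h ≠ 1 ∧ (∀ i < 5, h (B i) = B i) ∧ h q = q := by
  by_cases hq : q ∈ Oset
  · have hD : D 6 (ptOf 6) := by
      have h6 : ptOf 6 ∉ Oset := by
        unfold Oset
        rw [mem_maskSet, idx_ptOf 6 (by norm_num), pt6_notMem]
        exact Bool.false_ne_true
      refine ⟨fun i hi heq => h6 ?_, fun h => by omega, fun _ => h6⟩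
      rw [heq]
      unfold Oset
      rw [mem_maskSet]
      exact B_mem_O i hi
    obtain ⟨h, hh, hh6⟩ := exists_move 6 (by norm_num) _ hD
    refine ⟨h, hh.1, ?_, fun i hi => hh.2 i (by omega), ((Gk6_iff h).mp hh).2 q hq⟩
    intro h1
    rw [h1] at hh6
    have : B 6 = ptOf 6 := hh6
    have h2 := congrArg idx this
    rw [idx_B 6 (by norm_num), idx_ptOf 6 (by norm_num)] at h2
    revert h2
    decide
  · unfold Oset at hq
    rw [mem_maskSet, Bool.not_eq_true] at hq
    obtain ⟨t, ht, htq, i, hi, hti⟩ := tabs5_fix (idx q) (idx_lt q) hq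
    obtain ⟨h, hh, hT⟩ := tabs_mem 2 5 rfl t ht
    refine ⟨h, hh.1, ?_, hh.2, ?_⟩
    · intro h1
      apply hti
      have := hT (ptOf i)
      rw [h1, idx_ptOf i hi] at this
      rw [← this]
      exact idx_ptOf i hi
    · apply idx_inj
      rw [hT, htq]

end Cfsg.Agent.Lib.Helper9.M24T
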