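import Mathlib
import Cfsg.Prelude.Def_Sporadic_a
import Cfsg.Agent.Lib.Helper9.M24T

set_option autoImplicit false

/-! Generic kernel-checkable tools for the group of the length-24 code: straight-line
programs over the known tables, the action on bitmasks, and orbit certificates. -/

namespace Cfsg.Agent.Lib.Helper9.M24O

open Cfsg.Agent.Lib.Helper9.Golay Cfsg.Agent.Lib.Helper9.GolayC Cfsg.Agent.Lib.Helper9.M24C
open Cfsg.Agent.Lib.Helper9.Octad Cfsg.Agent.Lib.Helper9.M24B Cfsg.Agent.Lib.Helper9.M24T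
open scoped Pointwise

/-- The number with bits `f i, f (i+1), …, f (i+n-1)`. -/
def ofBits (f : ℕ → Bool) : ℕ → ℕ → ℕ
  | 0, _ => 0
  | n + 1, i => Nat.bit (f i) (ofBits f n (i + 1))

theorem testBit_ofBits (f : ℕ → Bool) :
    ∀ (n i j : ℕ), (ofBits f n i).testBit j = (decide (j < n) && f (i + j)) := by
  intro n
  induction n with
  | zero =>
    intro i j
    simp [ofBits]
  | succ n ih =>
    intro i j
    cases j with
    | zero => simp [ofBits, Nat.testBit_bit_zero]
    | succ j =>
      rw [ofBits, Nat.testBit_bit_succ, ih]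
      have : i + 1 + j = i + (j + 1) := by omega
      rw [this]
      simp

/-- Preimage of a bitmask under the permutation with table `t`. -/
def pmI (t : List ℕ) (m : ℕ) : ℕ := ofBits (fun i => m.testBit (t.getD i 0)) 24 0

theorem testBit_pmI (t : List ℕ) (m j : ℕ) (hj : j < 24) :
    (pmI t m).testBit j = m.testBit (t.getD j 0) := by
  unfold pmI
  rw [testBit_ofBits]
  simp [hj]

theorem smul_maskSet_pmI {g : Equiv.Perm Cfsg.GolayPt} {t : List ℕ} (h : IsTable g t) (m : ℕ) :
    g • maskSet (pmI t m) = maskSet m := by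
  ext p
  rw [Finset.mem_smul_finset]
  constructor
  · rintro ⟨q, hq, rfl⟩
    rw [mem_maskSet, testBit_pmI _ _ _ (idx_lt q), ← h q] at hq
    rw [mem_maskSet]
    exact hq
  · intro hp
    refine ⟨g⁻¹ p, ?_, by simp⟩
    rw [mem_maskSet, testBit_pmI _ _ _ (idx_lt _), ← h]
    rw [mem_maskSet] at hp
    simpa using hp

theorem maskSet_and (a b : ℕ) : maskSet (a &&& b) = maskSet a ∩ maskSet b := by
  ext p
  rw [Finset.mem_inter, mem_maskSet, mem_maskSet, mem_maskSet, Nat.testBit_and, Bool.and_eq_true]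

/-! ### Straight-line programs -/

/-- One step: append the product of two earlier tables. -/
def step (acc : List (List ℕ)) (pr : ℕ × ℕ) : List (List ℕ) :=
  match acc[pr.1]?, acc[pr.2]? with
  | some t, some u => acc ++ [comp t u]
  | _, _ => acc

/-- Run a straight-line program. -/
def run (init : List (List ℕ)) (prs : List (ℕ × ℕ)) : List (List ℕ) := prs.foldl step init

theorem run_mem (K : Subgroup (Equiv.Perm Cfsg.GolayPt)) (prs : List (ℕ × ℕ)) :
    ∀ init : List (List ℕ), (∀ t ∈ init, ∃ g ∈ K, IsTable g t) →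
      ∀ t ∈ run init prs, ∃ g ∈ K, IsTable g t := by
  induction prs with
  | nil =>
    intro init h
    exact h
  | cons pr prs ih =>
    intro init h
    apply ih
    intro t ht
    unfold step at ht
    split at ht
    · rename_i t1 u1 h1 h2
      rw [List.mem_append, List.mem_singleton] at ht
      rcases ht with ht | rfl
      · exact h t ht
      · obtain ⟨g1, hg1, hT1⟩ := h t1 (List.mem_of_getElem? h1)
        obtain ⟨g2, hg2, hT2⟩ := h u1 (List.mem_of_getElem? h2)
        exact ⟨g1 * g2, K.mul_mem hg1 hg2, isTable_mul hT1 hT2⟩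
    · exact h t ht

theorem TT_length : TT.length = 223 := by decide +kernel

theorem TT_mem : ∀ t ∈ TT, ∃ g ∈ Cfsg.M24, IsTable g t := by
  intro t ht
  obtain ⟨n, hn, rfl⟩ := List.getElem_of_mem ht
  rw [TT_length] at hn
  obtain ⟨g, hg, hT⟩ := node_mem n hn
  refine ⟨g, H_le hg, ?_⟩
  rw [List.getD_eq_getElem _ _ (by rw [TT_length]; exact hn)] at hT
  exact hT

/-- Every table produced by a program over the known tables belongs to the group. -/
theorem run_TT (prs : List (ℕ × ℕ)) : ∀ t ∈ run TT prs, ∃ g ∈ Cfsg.M24, IsTable g t :=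
  run_mem Cfsg.M24 prs TT TT_mem

/-! ### Orbit certificates -/

/-- `X (n+1)` is the preimage of an earlier member of `X` under one of the generators. -/
def orbOk (gs : List (List ℕ)) (X : List ℕ) (P : List (ℕ × ℕ)) : Bool :=
  (List.range P.length).all (fun n =>
    decide ((P.getD n (0, 0)).2 ≤ n) && decide ((P.getD n (0, 0)).1 < gs.length) &&
      decide (X.getD (n + 1) 0 = pmI (gs.getD (P.getD n (0, 0)).1 []) (X.getD (P.getD n (0, 0)).2 0)))

theorem orb_sound (K : Subgroup (Equiv.Perm Cfsg.GolayPt)) (gs : List (List ℕ)) (X : List ℕ)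
    (P : List (ℕ × ℕ)) (hgs : ∀ t ∈ gs, ∃ g ∈ K, IsTable g t) (h : orbOk gs X P = true) :
    ∀ n ≤ P.length, ∃ g ∈ K, g • maskSet (X.getD n 0) = maskSet (X.getD 0 0) := by
  unfold orbOk at h
  rw [List.all_eq_true] at h
  intro n
  induction n using Nat.strong_induction_on with
  | _ n ih =>
    intro hn
    cases n with
    | zero => exact ⟨1, K.one_mem, one_smul _ _⟩
    | succ n =>
      have h1 := h n (List.mem_range.mpr (by omega))
      rw [Bool.and_eq_true, Bool.and_eq_true, decide_eq_true_eq, decide_eq_true_eq,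
        decide_eq_true_eq] at h1
      obtain ⟨⟨hle, hlt⟩, heq⟩ := h1
      obtain ⟨g', hg', hg'X⟩ := ih _ (by omega : (P.getD n (0, 0)).2 < n + 1) (by omega)
      have hmem : gs.getD (P.getD n (0, 0)).1 [] ∈ gs := by
        rw [List.getD_eq_getElem _ _ hlt]
        exact List.getElem_mem hlt
      obtain ⟨g, hg, hT⟩ := hgs _ hmem
      refine ⟨g' * g, K.mul_mem hg' hg, ?_⟩
      rw [heq, mul_smul, smul_maskSet_pmI hT, hg'X]

/-- All members of an orbit certificate are conjugate under `K`. -/
theorem orb_trans (K : Subgroup (Equiv.Perm Cfsg.GolayPt)) (gs : List (List ℕ)) (X : List ℕ)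
    (P : List (ℕ × ℕ)) (hgs : ∀ t ∈ gs, ∃ g ∈ K, IsTable g t) (h : orbOk gs X P = true)
    (hlen : X.length = P.length + 1) (a b : ℕ) (ha : a ∈ X) (hb : b ∈ X) :
    ∃ g ∈ K, g • maskSet a = maskSet b := by
  obtain ⟨i, hi, rfl⟩ := List.getElem_of_mem ha
  obtain ⟨j, hj, rfl⟩ := List.getElem_of_mem hb
  obtain ⟨g1, hg1, h1⟩ := orb_sound K gs X P hgs h i (by omega)
  obtain ⟨g2, hg2, h2⟩ := orb_sound K gs X P hgs h j (by omega)
  rw [List.getD_eq_getElem _ _ hi] at h1
  rw [List.getD_eq_getElem _ _ hj] at h2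
  refine ⟨g2⁻¹ * g1, K.mul_mem (K.inv_mem hg2) hg1, ?_⟩
  rw [mul_smul, h1, ← h2, inv_smul_smul]

end Cfsg.Agent.Lib.Helper9.M24O
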