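import Mathlib
import Cfsg.Prelude.Def_Sporadic_a
import Cfsg.Agent.Lib.Helper9.M24Sx

set_option autoImplicit false

/-! Simplicity of the Mathieu groups in the stabiliser chains of the length-24 code. -/

namespace Cfsg.Agent.Lib.Helper9.M24Sim

open Cfsg.Agent.Lib.Helper9.Golay Cfsg.Agent.Lib.Helper9.GolayC Cfsg.Agent.Lib.Helper9.M24C
open Cfsg.Agent.Lib.Helper9.Octad Cfsg.Agent.Lib.Helper9.M24B Cfsg.Agent.Lib.Helper9.M24T
open Cfsg.Agent.Lib.Helper9.M24O Cfsg.Agent.Lib.Helper9.M24Oct Cfsg.Agent.Lib.Helper9.M24OS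
open Cfsg.Agent.Lib.Helper9.M24Dod Cfsg.Agent.Lib.Helper9.M24M Cfsg.Agent.Lib.Helper9.M24M2
open Cfsg.Agent.Lib.Helper9.M24Sx Cfsg.Agent.Lib.Helper9.Simp
open scoped Pointwise

/-- The expected orbit at a level of a chain, as a finite set. -/
def Dl (ob : ℕ → ℕ → Bool) (k : ℕ) : Finset Cfsg.GolayPt :=
  Finset.univ.filter (fun q => ob k (idx q) = true)

theorem mem_Dl (ob : ℕ → ℕ → Bool) (k : ℕ) (q : Cfsg.GolayPt) :
    q ∈ Dl ob k ↔ ob k (idx q) = true := by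
  simp [Dl]

theorem not_pow2 (n : ℕ) (h : n = 22 ∨ n = 23 ∨ n = 24 ∨ n = 12) : ∀ j, n ≠ 2 ^ j := by
  intro j hj
  have hj5 : j < 5 := by
    by_contra hcon
    have := Nat.pow_le_pow_right (show 1 ≤ 2 by norm_num) (show 5 ≤ j by omega)
    omega
  interval_cases j <;> omega

/-- Two-point transitivity data of a chain at level `k`. -/
theorem chain_h2 (Kc : ℕ → Subgroup (Equiv.Perm Cfsg.GolayPt)) (b : ℕ → Cfsg.GolayPt)
    (ob : ℕ → ℕ → Bool) (k : ℕ)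
    (hmemK : ∀ g, g ∈ Kc (k + 1) ↔ g ∈ Kc k ∧ g (b k) = b k)
    (htr : ∀ q, ob (k + 1) (idx q) = true → ∃ g ∈ Kc (k + 1), g (b (k + 1)) = q)
    (hsub : ∀ β < 24, ob k β = true → β ≠ idx (b k) → ob (k + 1) β = true) :
    ∀ c ∈ Dl ob k, c ≠ b k → ∀ d ∈ Dl ob k, d ≠ b k → ∃ g ∈ Kc k, g (b k) = b k ∧ g c = d := by
  intro c hc hcb d hd hdb
  rw [mem_Dl] at hc hd
  obtain ⟨g1, hg1, hg1c⟩ := htr c (hsub _ (idx_lt c) hc (fun h => hcb (idx_inj h)))
  obtain ⟨g2, hg2, hg2d⟩ := htr d (hsub _ (idx_lt d) hd (fun h => hdb (idx_inj h)))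
  have hm : g2 * g1⁻¹ ∈ Kc (k + 1) := (Kc (k + 1)).mul_mem hg2 ((Kc (k + 1)).inv_mem hg1)
  refine ⟨g2 * g1⁻¹, ((hmemK _).mp hm).1, ((hmemK _).mp hm).2, ?_⟩
  rw [Equiv.Perm.mul_apply, ← hg1c]
  simp [hg2d]

/-- Base case: a doubly transitive group in a chain with a closure certificate. -/
theorem chain_base (Kc : ℕ → Subgroup (Equiv.Perm Cfsg.GolayPt)) (b : ℕ → Cfsg.GolayPt)
    (ob : ℕ → ℕ → Bool) (k : ℕ)
    (hmemK : ∀ g, g ∈ Kc (k + 1) ↔ g ∈ Kc k ∧ g (b k) = b k)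
    (horb : ∀ g ∈ Kc k, ob k (idx (g (b k))) = true)
    (htr0 : ∀ q, ob k (idx q) = true → ∃ g ∈ Kc k, g (b k) = q)
    (htr1 : ∀ q, ob (k + 1) (idx q) = true → ∃ g ∈ Kc (k + 1), g (b (k + 1)) = q)
    (hsub : ∀ β < 24, ob k β = true → β ≠ idx (b k) → ob (k + 1) β = true)
    (hfaith : ∀ g ∈ Kc k, (∀ q, ob k (idx q) = true → g q = q) → g = 1)
    (p : ℕ) [Fact p.Prime] (hp : p ∣ (Dl ob k).card) (hp2 : ¬ p ^ 2 ∣ Nat.card (Kc k))
    (s : Equiv.Perm Cfsg.GolayPt) (hs : s ∈ Kc k) (hord : orderOf s = p)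
    (hclos : ∀ N : Subgroup (Equiv.Perm Cfsg.GolayPt), N ≤ Kc k →
      (∀ g ∈ Kc k, ∀ n ∈ N, g * n * g⁻¹ ∈ N) → s ∈ N → Kc k ≤ N) : IsSimpleIn (Kc k) := by
  apply simple_of_cert (Kc k) p s hs hord hp2 _ hclos
  intro N hNK hnorm hN
  apply hp.trans
  apply card_dvd (Kc k) N (b k) (Dl ob k) _ _ _ _ hNK hnorm hN
  · intro g hg
    rw [mem_Dl]
    exact horb g hg
  · intro c hc
    rw [mem_Dl] at hc
    exact htr0 c hc
  · exact chain_h2 Kc b ob k hmemK htr1 hsub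
  · intro g hg hfix
    exact hfaith g hg (fun q hq => hfix q ((mem_Dl ob k q).mpr hq))

/-- Inductive step along a chain. -/
theorem chain_step (Kc : ℕ → Subgroup (Equiv.Perm Cfsg.GolayPt)) (b : ℕ → Cfsg.GolayPt)
    (ob : ℕ → ℕ → Bool) (k : ℕ)
    (hmemK : ∀ j, ∀ g, g ∈ Kc (j + 1) ↔ g ∈ Kc j ∧ g (b j) = b j)
    (horb : ∀ g ∈ Kc k, ob k (idx (g (b k))) = true)
    (htr : ∀ j, j ≤ k + 2 → ∀ q, ob j (idx q) = true → ∃ g ∈ Kc j, g (b j) = q)
    (hsub1 : ∀ β < 24, ob k β = true → β ≠ idx (b k) → ob (k + 1) β = true)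
    (hsub2 : ∀ β < 24, ob (k + 1) β = true → β ≠ idx (b (k + 1)) → ob (k + 2) β = true)
    (hb1 : ob k (idx (b (k + 1))) = true) (hbne : b (k + 1) ≠ b k)
    (hfaith : ∀ g ∈ Kc k, (∀ q, ob k (idx q) = true → g q = q) → g = 1)
    (hc4 : 4 ≤ (Dl ob k).card) (hpow : ∀ j, (Dl ob k).card ≠ 2 ^ j)
    (hS : IsSimpleIn (Kc (k + 1))) : IsSimpleIn (Kc k) := by
  apply simple_step (Kc k) (b k) (b (k + 1)) (Dl ob k) _ _ _ _ hbne _ _ hc4 hpow (Kc (k + 1))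
    (hmemK k) hS
  · intro g hg
    rw [mem_Dl]
    exact horb g hg
  · intro c hc
    rw [mem_Dl] at hc
    exact htr k (by omega) c hc
  · exact chain_h2 Kc b ob k (hmemK k) (htr (k + 1) (by omega)) hsub1
  · rw [mem_Dl]
    exact hb1
  · intro c hc hca hcb d hd hda hdb
    rw [mem_Dl] at hc hd
    have hc1 := hsub1 _ (idx_lt c) hc (fun h => hca (idx_inj h))
    have hd1 := hsub1 _ (idx_lt d) hd (fun h => hda (idx_inj h))
    obtain ⟨g, hg, hgb, hgc⟩ := chain_h2 Kc b ob (k + 1) (hmemK (k + 1))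
      (htr (k + 2) le_rfl) hsub2 c ((mem_Dl _ _ _).mpr hc1) hcb d ((mem_Dl _ _ _).mpr hd1) hdb
    exact ⟨g, ((hmemK k g).mp hg).1, ((hmemK k g).mp hg).2, hgb, hgc⟩
  · intro g hg hfix
    exact hfaith g hg (fun q hq => hfix q ((mem_Dl ob k q).mpr hq))

/-! ### The chain of point stabilisers -/

theorem memG (j : ℕ) (g : Equiv.Perm Cfsg.GolayPt) :
    g ∈ Gk (j + 1) ↔ g ∈ Gk j ∧ g (B j) = B j := by
  constructor
  · intro hg
    exact ⟨⟨hg.1, fun i hi => hg.2 i (by omega)⟩, hg.2 j (by omega)⟩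
  · rintro ⟨hg, hj⟩
    refine ⟨hg.1, fun i hi => ?_⟩
    rcases Nat.lt_succ_iff_lt_or_eq.mp hi with h | h
    · exact hg.2 i h
    · rw [h]; exact hj

theorem horbG (k : ℕ) (hk : k < 7) (g : Equiv.Perm Cfsg.GolayPt) (hg : g ∈ Gk k) :
    dB k (idx (g (B k))) = true := D_dB k _ (orbit_D k hk g hg)

theorem htrG (k : ℕ) (hk : k < 7) (q : Cfsg.GolayPt) (hq : dB k (idx q) = true) :
    ∃ g ∈ Gk k, g (B k) = q := by
  obtain ⟨g, hg, h1, h2⟩ := exists_trans k hk q hq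
  exact ⟨g, ⟨H_le hg, h2⟩, h1⟩

set_option maxRecDepth 100000 in
theorem hsubG : ∀ k < 4, ∀ β < 24, dB k β = true → β ≠ BASE.getD k 0 → dB (k + 1) β = true := by
  decide +kernel

set_option maxRecDepth 100000 in
theorem hcovG : ∀ k < 5, ∀ β < 24, dB k β = true ∨ ∃ i < k, BASE.getD i 0 = β := by
  decide +kernel

set_option maxRecDepth 100000 in
theorem hb1G : ∀ k < 4, dB k (BASE.getD (k + 1) 0) = true := by decide +kernel

theorem hfaithG (k : ℕ) (hk : k < 5) (g : Equiv.Perm Cfsg.GolayPt) (hg : g ∈ Gk k)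
    (hfix : ∀ q, dB k (idx q) = true → g q = q) : g = 1 := by
  apply Equiv.ext
  intro q
  rcases hcovG k hk (idx q) (idx_lt q) with h | ⟨i, hi, h⟩
  · exact hfix q h
  · have : q = B i := by
      apply idx_inj
      rw [idx_B i (by omega), h]
    rw [this]
    exact hg.2 i hi

theorem cardG (k : ℕ) (hk : k < 7) : (Dl dB k).card = [24, 23, 22, 21, 20, 3, 16].getD k 0 :=
  card_Δ k hk

def PC7 : List (ℕ × ℕ) := [(139, 178), (223, 188), (224, 216), (137, 188), (226, 221), (148, 184), (228, 220), (148, 157), (230, 188), (231, 193), (124, 182), (233, 215)]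

def S7 : List ℕ := [0, 1, 13, 11, 12, 9, 15, 17, 6, 22, 16, 8, 3, 14, 5, 4, 7, 21, 10, 18, 2, 19, 20, 23]

def CJ7 : List (List ℕ) := [[0, 1, 2, 3, 4, 5, 6, 7, 8, 9, 10, 11, 12, 13, 14, 15, 16, 17, 18, 19, 20, 21, 22, 23],
  [0, 1, 21, 11, 22, 5, 4, 18, 20, 2, 19, 17, 16, 3, 9, 6, 12, 13, 8, 10, 7, 14, 15, 23],
  [0, 1, 19, 21, 4, 6, 16, 12, 17, 22, 8, 18, 13, 20, 7, 9, 3, 2, 15, 10, 14, 5, 11, 23],
  [0, 1, 19, 2, 10, 7, 4, 11, 22, 18, 13, 9, 14, 16, 6, 17, 12, 21, 8, 20, 15, 3, 5, 23],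
  [0, 1, 22, 16, 15, 4, 18, 5, 7, 19, 9, 11, 17, 3, 2, 8, 12, 13, 10, 6, 14, 20, 21, 23]]

def YS7 : List (List ℕ) := [[0, 1, 13, 11, 12, 9, 15, 17, 6, 22, 16, 8, 3, 14, 5, 4, 7, 21, 10, 18, 2, 19, 20, 23],
  [0, 1, 15, 9, 6, 2, 22, 21, 19, 5, 8, 17, 18, 14, 10, 7, 11, 20, 13, 12, 4, 3, 16, 23],
  [0, 1, 5, 12, 13, 10, 22, 6, 3, 4, 15, 14, 2, 21, 19, 8, 9, 16, 17, 20, 7, 18, 11, 23],
  [0, 1, 9, 20, 17, 15, 7, 18, 13, 22, 14, 21, 11, 12, 2, 19, 6, 10, 5, 16, 8, 3, 4, 23],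
  [0, 1, 4, 2, 19, 13, 10, 18, 15, 12, 9, 7, 5, 20, 22, 17, 11, 16, 8, 21, 6, 14, 3, 23]]

def PN7 : List (ℕ × ℕ) := [(0, 0), (5, 5), (5, 6), (1, 1), (8, 8), (8, 9), (2, 2), (11, 11), (11, 12), (3, 3), (14, 14), (14, 15), (4, 4), (17, 17), (17, 18), (0, 7), (7, 7), (2, 0), (3, 0), (7, 16), (4, 0), (7, 19), (2, 1), (10, 13), (3, 1), (10, 16), (4, 1), (0, 3), (1, 4), (19, 10), (1, 22), (2, 22), (3, 23), (24, 16), (3, 29), (30, 16), (4, 3), (24, 41), (16, 19), (43, 23), (3, 2), (10, 45), (13, 16), (47, 1), (3, 11), (21, 49), (3, 39), (34, 51), (40, 16), (53, 33), (0, 5), (13, 55), (6, 2), (0, 32), (26, 58), (0, 37), (28, 60), (38, 7), (62, 27), (2, 11), (10, 64), (12, 1), (42, 42), (46, 42), (50, 42), (52, 42), (44, 54), (56, 42), (44, 57), (61, 42), (44, 63), (65, 42), (52, 46), (56, 46), (48, 57), (61, 46), (46, 65), (66, 48), (56, 67), (67, 57), (59, 68), (79, 75), (42, 70), (69, 87), (71,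 44), (89, 69), (42, 81), (73, 91), (82, 44), (93, 72), (52, 74), (73, 95), (52, 80), (66, 97), (65, 77), (84, 99), (46, 76), (66, 101), (56, 61), (90, 100), (94, 96), (98, 88), (90, 106), (103, 92), (94, 108), (100, 88), (94, 110), (105, 104), (109, 104), (86, 104), (107, 105), (109, 105), (111, 86)]

def W7 : List (List ℕ) := [[0, 0, 0, 0, 0, 0, 0, 0, 0, 0, 0, 0, 0, 0, 0, 0, 0, 0, 0, 0, 0, 0, 0, 0],
  [0, 0, 0, 0, 0, 0, 0, 0, 0, 0, 0, 0, 0, 0, 0, 0, 0, 0, 0, 0, 0, 0, 0, 0],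
  [0, 0, 0, 0, 0, 0, 0, 0, 0, 0, 0, 0, 0, 0, 0, 0, 0, 0, 0, 0, 0, 0, 0, 0],
  [0, 0, 20, 35, 4, 2, 33, 8, 27, 3, 11, 37, 23, 0, 5, 1, 39, 31, 36, 29, 25, 22, 32, 0],
  [0, 0, 0, 20, 85, 67, 61, 56, 68, 65, 42, 81, 74, 78, 50, 77, 46, 70, 72, 83, 69, 76, 80, 0],
  [0, 0, 0, 0, 0, 20, 0, 0, 0, 0, 0, 0, 0, 0, 92, 0, 0, 88, 0, 0, 0, 0, 0, 0],
  [0, 0, 0, 0, 20, 0, 114, 98, 86, 102, 107, 117, 112, 111, 0, 113, 103, 0, 115, 116, 104, 105, 109, 0]]

set_option maxRecDepth 100000 in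
theorem cj7_ok : ∀ t ∈ S7 :: CJ7, (t = List.range 24 ∨ t ∈ run TT PC7) ∧ t.getD 23 0 = 23 ∧
    t.getD 0 0 = 0 ∧ t.getD 1 0 = 1 := by decide +kernel

theorem g3_of_table (t : List ℕ) (h : (t = List.range 24 ∨ t ∈ run TT PC7) ∧ t.getD 23 0 = 23 ∧
    t.getD 0 0 = 0 ∧ t.getD 1 0 = 1) : ∃ g ∈ Gk 3, IsTable g t := by
  obtain ⟨h1, h23, h0, h1'⟩ := h
  have hex : ∃ g ∈ Cfsg.M24, IsTable g t := by
    rcases h1 with h1 | h1
    · exact ⟨1, one_mem _, by rw [h1]; exact isTable_one⟩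
    · exact run_TT PC7 t h1
  obtain ⟨g, hg, hT⟩ := hex
  refine ⟨g, ⟨hg, fun i hi => ?_⟩, hT⟩
  apply idx_inj
  rw [hT, idx_B i (by omega)]
  interval_cases i
  · exact h23
  · exact h0
  · exact h1'

set_option maxRecDepth 100000 in
theorem ys7_ok : ysOk S7 YS7 CJ7 = true := by decide +kernel

set_option maxRecDepth 100000 in
theorem w7_ok : witOk (run YS7 PN7) BASE dB 3 7 W7 = true := by decide +kernel

theorem clos7 (N : Subgroup (Equiv.Perm Cfsg.GolayPt)) (hNG : N ≤ Gk 3)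
    (hnorm : ∀ g ∈ Gk 3, ∀ n ∈ N, g * n * g⁻¹ ∈ N) (s : Equiv.Perm Cfsg.GolayPt) (hs : s ∈ N)
    (hsT : IsTable s S7) : Gk 3 ≤ N := by
  have hYS := ys_sound (Gk 3) N hnorm s hs S7 hsT YS7 CJ7
    (fun c hc => g3_of_table c (cj7_ok c (List.mem_cons_of_mem _ hc))) ys7_ok
  have hL := run_mem N PN7 YS7 hYS
  exact closure_cert Gk B BASE dB 7 3 (by norm_num) (fun k hk => idx_B k hk) Gk_seven
    (fun k g hg hfix => (memG k g).mpr ⟨hg, hfix⟩) horbG (fun k g hg hfix => ⟨hg.1, hfix⟩)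
    N hNG _ hL W7 w7_ok

set_option maxRecDepth 100000 in
theorem s7_pow : powT 7 S7 = List.range 24 ∧ S7.getD 2 0 ≠ 2 := by decide +kernel

theorem simple_G3 : IsSimpleIn (Gk 3) := by
  obtain ⟨s, hsG, hsT⟩ := g3_of_table S7 (cj7_ok S7 List.mem_cons_self)
  haveI : Fact (Nat.Prime 7) := ⟨by norm_num⟩
  apply chain_base Gk B dB 3 (memG 3) (horbG 3 (by norm_num)) (htrG 3 (by norm_num))
    (htrG 4 (by norm_num))
    (fun β hβ h1 h2 => hsubG 3 (by norm_num) β hβ h1 (by rw [← idx_B 3 (by norm_num)]; exact h2))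
    (hfaithG 3 (by norm_num)) 7 (by rw [cardG 3 (by norm_num)]; decide)
    (by rw [card_G3]; decide) s hsG (order_prime hsT 7 s7_pow.1 2 (by norm_num) s7_pow.2)
  intro N hNG hnorm hsN
  exact clos7 N hNG hnorm s hsN hsT

theorem simple_G (k : ℕ) (hk : k ≤ 3) : IsSimpleIn (Gk k) := by
  have step : ∀ j < 3, IsSimpleIn (Gk (j + 1)) → IsSimpleIn (Gk j) := by
    intro j hj hS
    apply chain_step Gk B dB j memG (horbG j (by omega)) (fun i hi => htrG i (by omega))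
      (fun β hβ h1 h2 => hsubG j (by omega) β hβ h1 (by rw [← idx_B j (by omega)]; exact h2))
      (fun β hβ h1 h2 => hsubG (j + 1) (by omega) β hβ h1
        (by rw [← idx_B (j + 1) (by omega)]; exact h2))
      (by rw [idx_B (j + 1) (by omega)]; exact hb1G j (by omega))
      (fun h => by have := B_inj (j + 1) (by omega) j (by omega) h; omega)
      (hfaithG j (by omega)) _ _ hS
    · rw [cardG j (by omega)]
      interval_cases j <;> decide
    · apply not_pow2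
      rw [cardG j (by omega)]
      interval_cases j <;> decide
  have h3 := simple_G3
  have h2 := step 2 (by norm_num) h3
  have h1 := step 1 (by norm_num) h2
  have h0 := step 0 (by norm_num) h1
  interval_cases k
  · exact h0
  · exact h1
  · exact h2
  · exact h3

def PC11 : List (ℕ × ℕ) := [(17, 30), (76, 43), (12, 23), (78, 35), (79, 44), (16, 29), (81, 34), (82, 44), (13, 27), (84, 33), (85, 44), (13, 23), (87, 31)]

def S11 : List ℕ := [0, 8, 4, 9, 13, 19, 18, 5, 2, 12, 22, 14, 6, 16, 15, 23, 3, 17, 1, 21, 10, 11, 7, 20]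

def CJ11 : List (List ℕ) := [[0, 1, 2, 3, 4, 5, 6, 7, 8, 9, 10, 11, 12, 13, 14, 15, 16, 17, 18, 19, 20, 21, 22, 23],
  [0, 12, 1, 18, 16, 21, 8, 15, 6, 2, 20, 23, 4, 13, 7, 19, 3, 5, 9, 14, 22, 10, 11, 17],
  [0, 18, 4, 6, 2, 5, 3, 21, 16, 9, 22, 20, 12, 13, 14, 23, 8, 17, 1, 19, 11, 7, 10, 15],
  [0, 16, 13, 12, 6, 22, 1, 10, 9, 3, 14, 17, 4, 2, 20, 23, 8, 5, 18, 15, 19, 7, 11, 21],
  [0, 16, 3, 12, 8, 7, 1, 10, 2, 13, 21, 11, 18, 9, 15, 23, 6, 5, 4, 20, 19, 22, 17, 14]]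

def YS11 : List (List ℕ) := [[0, 8, 4, 9, 13, 19, 18, 5, 2, 12, 22, 14, 6, 16, 15, 23, 3, 17, 1, 21, 10, 11, 7, 20],
  [0, 16, 4, 18, 8, 5, 1, 19, 9, 12, 23, 15, 6, 3, 10, 21, 13, 22, 2, 17, 11, 14, 20, 7],
  [0, 18, 13, 1, 2, 19, 9, 20, 6, 12, 21, 22, 3, 8, 23, 11, 4, 17, 16, 7, 14, 5, 10, 15],
  [0, 18, 8, 4, 1, 5, 2, 17, 12, 13, 22, 10, 3, 6, 11, 7, 9, 20, 16, 14, 23, 19, 15, 21],
  [0, 4, 3, 8, 16, 5, 12, 20, 9, 6, 7, 15, 13, 18, 19, 23, 2, 10, 1, 21, 22, 17, 11, 14]]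

def PN11 : List (ℕ × ℕ) := [(0, 0), (5, 5), (6, 6), (5, 7), (1, 1), (9, 9), (10, 10), (9, 11), (2, 2), (13, 13), (14, 14), (13, 15), (3, 3), (17, 17), (18, 18), (17, 19), (4, 4), (21, 21), (22, 22), (21, 23), (0, 8), (8, 8), (1, 0), (8, 12), (2, 0), (8, 16), (3, 0), (0, 1), (12, 8), (12, 12), (4, 1), (26, 35), (12, 24), (37, 5), (3, 29), (26, 39), (30, 20), (41, 5), (3, 9), (30, 43), (34, 20), (45, 29), (0, 2), (16, 8), (3, 27), (34, 49), (28, 20), (51, 9), (0, 32), (28, 53), (33, 8), (55, 27), (2, 29), (28, 57), (57, 27), (4, 2), (58, 36), (36, 44), (46, 38), (36, 47), (48, 38), (54, 36), (52, 66), (38, 56), (68, 50), (47, 58), (59, 48), (36, 58), (42, 72), (59, 38), (74, 40), (47, 62), (65, 76), (63, 48), (78, 64), (60, 61), (59, 80), (80, 58), (60, 44), (38, 83), (40, 58), (63, 85), (59, 42), (87, 62), (50, 40), (38, 89), (42, 52), (91, 36), (70, 67), (69, 71), (79, 90), (92, 77), (86,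 75), (82, 97), (97, 81), (75, 86), (86, 93), (94, 88)]

def W11 : List (List ℕ) := [[0, 0, 0, 0, 0, 0, 0, 0, 0, 0, 0, 0, 0, 0, 0, 0, 0, 0, 0, 0, 0, 0, 0, 0],
  [0, 25, 5, 32, 4, 0, 29, 0, 0, 27, 0, 0, 31, 9, 0, 0, 1, 0, 2, 0, 0, 0, 0, 0],
  [0, 0, 25, 44, 36, 0, 62, 0, 50, 61, 0, 0, 64, 58, 0, 0, 47, 0, 40, 0, 0, 0, 0, 0],
  [0, 0, 0, 25, 70, 0, 73, 0, 77, 81, 0, 0, 84, 93, 0, 0, 67, 0, 75, 0, 0, 0, 0, 0],
  [0, 0, 0, 0, 25, 0, 101, 0, 95, 102, 0, 0, 100, 98, 0, 0, 96, 0, 99, 0, 0, 0, 0, 0]]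

/-! ### The chain inside a dodecad stabiliser -/

theorem memM (j : ℕ) (g : Equiv.Perm Cfsg.GolayPt) :
    g ∈ Mk (j + 1) ↔ g ∈ Mk j ∧ g (C j) = C j := by
  constructor
  · intro hg
    exact ⟨⟨hg.1, hg.2.1, fun i hi => hg.2.2 i (by omega)⟩, hg.2.2 j (by omega)⟩
  · rintro ⟨hg, hj⟩
    refine ⟨hg.1, hg.2.1, fun i hi => ?_⟩
    rcases Nat.lt_succ_iff_lt_or_eq.mp hi with h | h
    · exact hg.2.2 i h
    · rw [h]; exact hj

set_option maxRecDepth 100000 in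
theorem hsubM : ∀ k < 4, ∀ β < 24, dM k β = true → β ≠ CB.getD k 0 → dM (k + 1) β = true := by
  decide +kernel

set_option maxRecDepth 100000 in
theorem hcovM : ∀ k < 5, ∀ i < 5, k ≤ i → dM k (CB.getD i 0) = true := by decide +kernel

theorem hfaithM (k : ℕ) (hk : k < 5) (g : Equiv.Perm Cfsg.GolayPt) (hg : g ∈ Mk k)
    (hfix : ∀ q, dM k (idx q) = true → g q = q) : g = 1 := by
  have h5 : g ∈ Mk 5 := by
    refine ⟨hg.1, hg.2.1, fun i hi => ?_⟩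
    by_cases hik : i < k
    · exact hg.2.2 i hik
    · apply hfix
      rw [idx_C i hi]
      exact hcovM k hk i hi (by omega)
  rw [Mk_five, Subgroup.mem_bot] at h5
  exact h5

theorem cardM (k : ℕ) (hk : k < 5) : (Dl dM k).card = [12, 11, 10, 9, 8].getD k 0 :=
  card_ΔM k hk

set_option maxRecDepth 100000 in
theorem cj11_ok : ∀ t ∈ S11 :: CJ11, (t = List.range 24 ∨ t ∈ run MT PC11) ∧ invB t DM = true ∧
    t.getD 0 0 = 0 := by decide +kernel

theorem m1_of_table (t : List ℕ) (h : (t = List.range 24 ∨ t ∈ run MT PC11) ∧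
    invB t DM = true ∧ t.getD 0 0 = 0) : ∃ g ∈ Mk 1, IsTable g t := by
  obtain ⟨h1, hinv, h0⟩ := h
  have hex : ∃ g ∈ Cfsg.M24, IsTable g t := by
    rcases h1 with h1 | h1
    · exact ⟨1, one_mem _, by rw [h1]; exact isTable_one⟩
    · exact run_mem Cfsg.M24 PC11 MT (fun t ht => run_TT PRM t (mt_run t ht)) t h1
  obtain ⟨g, hg, hT⟩ := hex
  refine ⟨g, ⟨hg, (invB_iff hT DM).mpr hinv, fun i hi => ?_⟩, hT⟩
  apply idx_inj
  rw [hT, idx_C i (by omega)]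
  interval_cases i
  exact h0

set_option maxRecDepth 100000 in
theorem ys11_ok : ysOk S11 YS11 CJ11 = true := by decide +kernel

set_option maxRecDepth 100000 in
theorem w11_ok : witOk (run YS11 PN11) CB dM 1 5 W11 = true := by decide +kernel

theorem clos11 (N : Subgroup (Equiv.Perm Cfsg.GolayPt)) (hNG : N ≤ Mk 1)
    (hnorm : ∀ g ∈ Mk 1, ∀ n ∈ N, g * n * g⁻¹ ∈ N) (s : Equiv.Perm Cfsg.GolayPt) (hs : s ∈ N)
    (hsT : IsTable s S11) : Mk 1 ≤ N := by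
  have hYS := ys_sound (Mk 1) N hnorm s hs S11 hsT YS11 CJ11
    (fun c hc => m1_of_table c (cj11_ok c (List.mem_cons_of_mem _ hc))) ys11_ok
  have hL := run_mem N PN11 YS11 hYS
  exact closure_cert Mk C CB dM 5 1 (by norm_num) (fun k hk => idx_C k hk) Mk_five
    (fun k g hg hfix => (memM k g).mpr ⟨hg, hfix⟩) orbit_dM
    (fun k g hg hfix => ⟨hg.1, hg.2.1, hfix⟩) N hNG _ hL W11 w11_ok

set_option maxRecDepth 100000 in
theorem s11_pow : powT 11 S11 = List.range 24 ∧ S11.getD 1 0 ≠ 1 := by decide +kernel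

theorem simple_M1 : IsSimpleIn (Mk 1) := by
  obtain ⟨s, hsG, hsT⟩ := m1_of_table S11 (cj11_ok S11 List.mem_cons_self)
  haveI : Fact (Nat.Prime 11) := ⟨by norm_num⟩
  apply chain_base Mk C dM 1 (memM 1) (orbit_dM 1 (by norm_num))
    (exists_transM 1 (by norm_num)) (exists_transM 2 (by norm_num))
    (fun β hβ h1 h2 => hsubM 1 (by norm_num) β hβ h1 (by rw [← idx_C 1 (by norm_num)]; exact h2))
    (hfaithM 1 (by norm_num)) 11 (by rw [cardM 1 (by norm_num)]; decide)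
    (by rw [card_M1]; decide) s hsG (order_prime hsT 11 s11_pow.1 1 (by norm_num) s11_pow.2)
  intro N hNG hnorm hsN
  exact clos11 N hNG hnorm s hsN hsT

theorem simple_M0 : IsSimpleIn (Mk 0) := by
  apply chain_step Mk C dM 0 memM (orbit_dM 0 (by norm_num))
    (fun i hi => exists_transM i (by omega))
    (fun β hβ h1 h2 => hsubM 0 (by norm_num) β hβ h1 (by rw [← idx_C 0 (by norm_num)]; exact h2))
    (fun β hβ h1 h2 => hsubM 1 (by norm_num) β hβ h1 (by rw [← idx_C 1 (by norm_num)]; exact h2))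
    (by rw [idx_C 1 (by norm_num)]; exact hcovM 0 (by norm_num) 1 (by norm_num) (by norm_num))
    (fun h => by have := C_inj 1 (by norm_num) 0 (by norm_num) h; omega)
    (hfaithM 0 (by norm_num)) _ _ simple_M1
  · rw [cardM 0 (by norm_num)]
    decide
  · apply not_pow2
    rw [cardM 0 (by norm_num)]
    decide

/-! ### The statements -/

theorem simple_M24 : IsSimpleGroup ↥Cfsg.M24 := by
  have h := bridge0 (Gk 0) (simple_G 0 (by norm_num))
  rw [Gk_zero] at h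
  exact h

theorem conj_mem_iff (g0 x : Equiv.Perm Cfsg.GolayPt) (hg0 : g0 ∈ Cfsg.M24) :
    g0⁻¹ * x * g0 ∈ Cfsg.M24 ↔ x ∈ Cfsg.M24 := by
  constructor
  · intro h
    have := Cfsg.M24.mul_mem (Cfsg.M24.mul_mem hg0 h) (Cfsg.M24.inv_mem hg0)
    have e : g0 * (g0⁻¹ * x * g0) * g0⁻¹ = x := by group
    rwa [e] at this
  · intro h
    exact Cfsg.M24.mul_mem (Cfsg.M24.mul_mem (Cfsg.M24.inv_mem hg0) h) hg0

theorem conj_fix_iff (g0 x : Equiv.Perm Cfsg.GolayPt) (b : Cfsg.GolayPt) :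
    (g0⁻¹ * x * g0) b = b ↔ x (g0 b) = g0 b := by
  rw [Equiv.Perm.mul_apply, Equiv.Perm.mul_apply, Equiv.Perm.inv_eq_iff_eq]

theorem conj_set_iff (g0 x : Equiv.Perm Cfsg.GolayPt) (d : Finset Cfsg.GolayPt) :
    (g0⁻¹ * x * g0) • d = d ↔ x • g0 • d = g0 • d := by
  rw [mul_smul, mul_smul, inv_smul_eq_iff]

theorem simple_pt (p : Cfsg.GolayPt) : IsSimpleGroup ↥(MulAction.stabilizer Cfsg.M24 p) := by
  obtain ⟨g0, hg0, hg0x⟩ := exists_tuple 1 (by norm_num) (fun _ => p)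
    (fun i hi j hj _ => by omega)
  have hp : g0 (B 0) = p := hg0x 0 (by norm_num)
  apply bridge Cfsg.M24 (MulAction.stabilizer Cfsg.M24 p)
    (Cfsg.M24 ⊓ MulAction.stabilizer (Equiv.Perm Cfsg.GolayPt) p)
  · intro x
    rw [MulAction.mem_stabilizer_iff]
    constructor
    · intro h
      exact Subgroup.mem_inf.mpr ⟨x.2, MulAction.mem_stabilizer_iff.mpr h⟩
    · intro h
      exact MulAction.mem_stabilizer_iff.mp (Subgroup.mem_inf.mp h).2
  · exact inf_le_left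
  · apply simpleIn_conj (Gk 1) _ g0 _ (simple_G 1 (by norm_num))
    intro x
    constructor
    · intro h
      obtain ⟨h1, h2⟩ := Subgroup.mem_inf.mp h
      refine ⟨(conj_mem_iff g0 x hg0).mpr h1, fun i hi => ?_⟩
      have hi0 : i = 0 := by omega
      subst hi0
      rw [conj_fix_iff, hp]
      exact MulAction.mem_stabilizer_iff.mp h2
    · rintro ⟨h1, h2⟩
      refine Subgroup.mem_inf.mpr ⟨(conj_mem_iff g0 x hg0).mp h1, ?_⟩
      rw [MulAction.mem_stabilizer_iff]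
      have := h2 0 (by norm_num)
      rw [conj_fix_iff, hp] at this
      exact this

theorem simple_pt2 (p q : Cfsg.GolayPt) (hpq : p ≠ q) :
    IsSimpleGroup ↥(MulAction.stabilizer Cfsg.M24 p ⊓ MulAction.stabilizer Cfsg.M24 q) := by
  obtain ⟨g0, hg0, hg0x⟩ := exists_tuple 2 (by norm_num) (fun i => if i = 0 then p else q)
    (fun i hi j hj h => by
      by_cases hi0 : i = 0 <;> by_cases hj0 : j = 0 <;>
        simp only [hi0, hj0, if_true, if_false] at h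
      · omega
      · exact absurd h hpq
      · exact absurd h.symm hpq
      · omega)
  have hp : g0 (B 0) = p := hg0x 0 (by norm_num)
  have hq : g0 (B 1) = q := hg0x 1 (by norm_num)
  apply bridge Cfsg.M24 (MulAction.stabilizer Cfsg.M24 p ⊓ MulAction.stabilizer Cfsg.M24 q)
    (Cfsg.M24 ⊓ MulAction.stabilizer (Equiv.Perm Cfsg.GolayPt) p ⊓
      MulAction.stabilizer (Equiv.Perm Cfsg.GolayPt) q)
  · intro x
    constructor
    · intro h
      obtain ⟨h1, h2⟩ := Subgroup.mem_inf.mp h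
      exact Subgroup.mem_inf.mpr ⟨Subgroup.mem_inf.mpr ⟨x.2,
        MulAction.mem_stabilizer_iff.mpr (MulAction.mem_stabilizer_iff.mp h1)⟩,
        MulAction.mem_stabilizer_iff.mpr (MulAction.mem_stabilizer_iff.mp h2)⟩
    · intro h
      obtain ⟨h1, h2⟩ := Subgroup.mem_inf.mp h
      obtain ⟨h3, h4⟩ := Subgroup.mem_inf.mp h1
      exact Subgroup.mem_inf.mpr ⟨MulAction.mem_stabilizer_iff.mpr
        (MulAction.mem_stabilizer_iff.mp h4),
        MulAction.mem_stabilizer_iff.mpr (MulAction.mem_stabilizer_iff.mp h2)⟩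
  · exact inf_le_left.trans inf_le_left
  · apply simpleIn_conj (Gk 2) _ g0 _ (simple_G 2 (by norm_num))
    intro x
    constructor
    · intro h
      obtain ⟨h1, h2⟩ := Subgroup.mem_inf.mp h
      obtain ⟨h3, h4⟩ := Subgroup.mem_inf.mp h1
      refine ⟨(conj_mem_iff g0 x hg0).mpr h3, fun i hi => ?_⟩
      interval_cases i
      · rw [conj_fix_iff, hp]
        exact MulAction.mem_stabilizer_iff.mp h4
      · rw [conj_fix_iff, hq]
        exact MulAction.mem_stabilizer_iff.mp h2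
    · rintro ⟨h1, h2⟩
      have e0 := h2 0 (by norm_num)
      have e1 := h2 1 (by norm_num)
      rw [conj_fix_iff, hp] at e0
      rw [conj_fix_iff, hq] at e1
      exact Subgroup.mem_inf.mpr ⟨Subgroup.mem_inf.mpr ⟨(conj_mem_iff g0 x hg0).mp h1,
        MulAction.mem_stabilizer_iff.mpr e0⟩, MulAction.mem_stabilizer_iff.mpr e1⟩

theorem simple_dod (d : Finset Cfsg.GolayPt) (hd : d ∈ Cfsg.dodecads) :
    IsSimpleGroup ↥(MulAction.stabilizer Cfsg.M24 d) := by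
  obtain ⟨g0, hg0, rfl⟩ := dodecad_trans Dset d Dset_mem hd
  apply bridge Cfsg.M24 (MulAction.stabilizer Cfsg.M24 (g0 • Dset))
    (Cfsg.M24 ⊓ MulAction.stabilizer (Equiv.Perm Cfsg.GolayPt) (g0 • Dset))
  · intro x
    rw [MulAction.mem_stabilizer_iff]
    constructor
    · intro h
      exact Subgroup.mem_inf.mpr ⟨x.2, MulAction.mem_stabilizer_iff.mpr h⟩
    · intro h
      exact MulAction.mem_stabilizer_iff.mp (Subgroup.mem_inf.mp h).2
  · exact inf_le_left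
  · apply simpleIn_conj (Mk 0) _ g0 _ simple_M0
    intro x
    constructor
    · intro h
      obtain ⟨h1, h2⟩ := Subgroup.mem_inf.mp h
      refine ⟨(conj_mem_iff g0 x hg0).mpr h1, ?_, fun i hi => absurd hi (Nat.not_lt_zero i)⟩
      rw [conj_set_iff]
      exact MulAction.mem_stabilizer_iff.mp h2
    · rintro ⟨h1, h2, -⟩
      rw [conj_set_iff] at h2
      exact Subgroup.mem_inf.mpr ⟨(conj_mem_iff g0 x hg0).mp h1,
        MulAction.mem_stabilizer_iff.mpr h2⟩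

theorem simple_dod_pt (d : Finset Cfsg.GolayPt) (hd : d ∈ Cfsg.dodecads) (p : Cfsg.GolayPt)
    (hp : p ∈ d) :
    IsSimpleGroup ↥(MulAction.stabilizer Cfsg.M24 d ⊓ MulAction.stabilizer Cfsg.M24 p) := by
  obtain ⟨g0, hg0, rfl, rfl⟩ := pair_transD d hd p hp
  apply bridge Cfsg.M24 (MulAction.stabilizer Cfsg.M24 (g0 • Dset) ⊓
      MulAction.stabilizer Cfsg.M24 (g0 (C 0)))
    (Cfsg.M24 ⊓ MulAction.stabilizer (Equiv.Perm Cfsg.GolayPt) (g0 • Dset) ⊓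
      MulAction.stabilizer (Equiv.Perm Cfsg.GolayPt) (g0 (C 0)))
  · intro x
    constructor
    · intro h
      obtain ⟨h1, h2⟩ := Subgroup.mem_inf.mp h
      exact Subgroup.mem_inf.mpr ⟨Subgroup.mem_inf.mpr ⟨x.2,
        MulAction.mem_stabilizer_iff.mpr (MulAction.mem_stabilizer_iff.mp h1)⟩,
        MulAction.mem_stabilizer_iff.mpr (MulAction.mem_stabilizer_iff.mp h2)⟩
    · intro h
      obtain ⟨h1, h2⟩ := Subgroup.mem_inf.mp h
      obtain ⟨h3, h4⟩ := Subgroup.mem_inf.mp h1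
      exact Subgroup.mem_inf.mpr ⟨MulAction.mem_stabilizer_iff.mpr
        (MulAction.mem_stabilizer_iff.mp h4),
        MulAction.mem_stabilizer_iff.mpr (MulAction.mem_stabilizer_iff.mp h2)⟩
  · exact inf_le_left.trans inf_le_left
  · apply simpleIn_conj (Mk 1) _ g0 _ simple_M1
    intro x
    constructor
    · intro h
      obtain ⟨h1, h2⟩ := Subgroup.mem_inf.mp h
      obtain ⟨h3, h4⟩ := Subgroup.mem_inf.mp h1
      refine ⟨(conj_mem_iff g0 x hg0).mpr h3, ?_, fun i hi => ?_⟩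
      · rw [conj_set_iff]
        exact MulAction.mem_stabilizer_iff.mp h4
      · have hi0 : i = 0 := by omega
        subst hi0
        rw [conj_fix_iff]
        exact MulAction.mem_stabilizer_iff.mp h2
    · rintro ⟨h1, h2, h3⟩
      have e0 := h3 0 (by norm_num)
      rw [conj_fix_iff] at e0
      rw [conj_set_iff] at h2
      exact Subgroup.mem_inf.mpr ⟨Subgroup.mem_inf.mpr ⟨(conj_mem_iff g0 x hg0).mp h1,
        MulAction.mem_stabilizer_iff.mpr h2⟩, MulAction.mem_stabilizer_iff.mpr e0⟩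

end Cfsg.Agent.Lib.Helper9.M24Sim
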