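import Mathlib
import Cfsg.Agent.Lib.Helper9.Coatom
import Cfsg.Agent.S5904

open scoped Pointwise

namespace Cfsg.Agent.Lib.Helper9

lemma coatom_transport {α : Type*} [Fintype α] [DecidableEq α] (z : α) (s : Set α) (hz : z ∉ s)
    (hs : s.Nonempty) (hsc : ∃ y, y ∉ s ∧ y ≠ z) (hodd : Even (Fintype.card α)) :
    IsCoatom ((MulAction.stabilizer (Equiv.Perm α) z ⊓ MulAction.stabilizer (Equiv.Perm α) s).subgroupOf
      (MulAction.stabilizer (Equiv.Perm α) z)) := by
  classical
  let p : α → Prop := fun x => x ≠ z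
  let φ : Equiv.Perm {x // p x} →* Equiv.Perm α := Equiv.Perm.ofSubtype
  let s' : Set {x // p x} := Subtype.val ⁻¹' s
  obtain ⟨a, ha⟩ := hs
  obtain ⟨y, hy, hyz⟩ := hsc
  have haz : a ≠ z := fun h => hz (h ▸ ha)
  have hcard : Nat.card {x // p x} ≠ 2 * s'.ncard := by
    intro h
    have h1 : Nat.card {x // p x} = Fintype.card α - 1 := by
      rw [Nat.card_eq_fintype_card, Fintype.card_subtype_compl, Fintype.card_subtype_eq]
    have h2 : 0 < Fintype.card α := Fintype.card_pos_iff.mpr ⟨z⟩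
    obtain ⟨k, hk⟩ := hodd
    omega
  have hco : IsCoatom (MulAction.stabilizer (Equiv.Perm {x // p x}) s') :=
    Equiv.Perm.isCoatom_stabilizer ⟨⟨a, haz⟩, ha⟩ ⟨⟨y, hyz⟩, hy⟩ hcard
  have hM : ∀ g : Equiv.Perm α, g ∈ MulAction.stabilizer (Equiv.Perm α) z ↔ ∃ σ, φ σ = g := by
    intro g
    constructor
    · intro hg
      rw [MulAction.mem_stabilizer_iff] at hg
      have hg' : g z = z := hg
      have h₁ : ∀ x, p (g x) ↔ p x := by
        intro x
        show g x ≠ z ↔ x ≠ z
        rw [not_iff_not]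
        constructor
        · intro h
          apply g.injective
          rw [h, hg']
        · intro h
          rw [h, hg']
      have h₂ : ∀ x, g x ≠ x → p x := by
        intro x hx h
        apply hx
        rw [h, hg']
      exact ⟨Equiv.Perm.subtypePerm g h₁, Equiv.Perm.ofSubtype_subtypePerm h₁ h₂⟩
    · rintro ⟨σ, rfl⟩
      rw [MulAction.mem_stabilizer_iff]
      exact Equiv.Perm.ofSubtype_apply_of_not_mem σ (fun h => h rfl)
  have hH : ∀ σ : Equiv.Perm {x // p x}, φ σ ∈ MulAction.stabilizer (Equiv.Perm α) s ↔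
      σ ∈ MulAction.stabilizer (Equiv.Perm {x // p x}) s' := by
    intro σ
    rw [MulAction.mem_stabilizer_set, MulAction.mem_stabilizer_set]
    constructor
    · intro h x
      have := h x.1
      rw [Equiv.Perm.smul_def] at this
      have h2 : φ σ x.1 = σ x := Equiv.Perm.ofSubtype_apply_coe σ x
      rw [h2] at this
      exact this
    · intro h x
      by_cases hx : x = z
      · subst hx
        rw [Equiv.Perm.smul_def]
        have : φ σ x = x := Equiv.Perm.ofSubtype_apply_of_not_mem σ (fun h => h rfl)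
        rw [this]
      · have := h ⟨x, hx⟩
        rw [Equiv.Perm.smul_def]
        have h2 : φ σ x = σ ⟨x, hx⟩ := Equiv.Perm.ofSubtype_apply_of_mem σ hx
        rw [h2]
        exact this
  rw [Cfsg.Agent.Lib.Helper9.isCoatom_subgroupOf_iff inf_le_left]
  constructor
  · intro hle
    obtain ⟨σ, -, hσ⟩ := SetLike.exists_of_lt (lt_top_iff_ne_top.mpr hco.1)
    apply hσ
    rw [← hH]
    exact (hle ((hM _).mpr ⟨σ, rfl⟩)).2
  · intro L hHL hLM hLH
    have h1 : MulAction.stabilizer (Equiv.Perm {x // p x}) s' ≤ L.comap φ := by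
      intro σ hσ
      exact hHL ⟨(hM _).mpr ⟨σ, rfl⟩, (hH σ).mpr hσ⟩
    have h2 : L.comap φ ≠ MulAction.stabilizer (Equiv.Perm {x // p x}) s' := by
      intro heq
      apply hLH
      intro g hg
      obtain ⟨σ, rfl⟩ := (hM g).mp (hLM hg)
      have : σ ∈ L.comap φ := hg
      rw [heq] at this
      exact ⟨hLM hg, (hH σ).mpr this⟩
    have h3 : L.comap φ = ⊤ := hco.2 _ (lt_of_le_of_ne h1 (Ne.symm h2))
    intro g hg
    obtain ⟨σ, rfl⟩ := (hM g).mp hg
    have : σ ∈ L.comap φ := by rw [h3]; trivial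
    exact this


/-- In `Sym(α)` with `|α| = 2m`, `m ≥ 2`: a maximal subgroup `M` of index `2m` with a maximal
subgroup `H` of `M` that is not maximal in some maximal subgroup `K ≥ H`. -/
theorem sym_not_second_max {α : Type*} [Fintype α] [DecidableEq α] (m : ℕ) (hm : 2 ≤ m)
    (hα : Fintype.card α = 2 * m) :
    ∃ M H K : Subgroup (Equiv.Perm α), IsCoatom M ∧ M.index = 2 * m ∧ H ≤ M ∧
      IsCoatom (H.subgroupOf M) ∧ IsCoatom K ∧ H ≤ K ∧ ¬ IsCoatom (H.subgroupOf K) := by
  classical
  obtain ⟨t, -, ht⟩ := Finset.exists_subset_card_eq (s := (Finset.univ : Finset α)) (n := m)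
    (by rw [Finset.card_univ]; omega)
  have htc : tᶜ.card = m := by
    rw [Finset.card_compl, ht, hα]; omega
  obtain ⟨z, hz, y, hy, hzy⟩ := Finset.one_lt_card.mp (by omega : 1 < tᶜ.card)
  rw [Finset.mem_compl] at hz hy
  have htne : t.Nonempty := Finset.card_pos.mp (by omega)
  obtain ⟨a, ha⟩ := htne
  let s : Set α := (t : Set α)
  have hzs : z ∉ s := by simpa [s] using hz
  have hys : y ∉ s := by simpa [s] using hy
  have has : a ∈ s := by simpa [s] using ha
  have hsn : s.ncard = m := by rw [Set.ncard_coe_finset, ht]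
  have hscn : sᶜ.ncard = m := by
    have := Set.ncard_add_ncard_compl s
    rw [Nat.card_eq_fintype_card, hα, hsn] at this
    omega
  have hNat : Nat.card α = 2 * m := by rw [Nat.card_eq_fintype_card, hα]
  -- M
  have hM : IsCoatom (MulAction.stabilizer (Equiv.Perm α) z) := by
    rw [← MulAction.stabilizer_singleton]
    apply Equiv.Perm.isCoatom_stabilizer (Set.singleton_nonempty z) ⟨y, fun h => hzy h.symm⟩
    rw [Set.ncard_singleton, hNat]; omega
  have hidx : (MulAction.stabilizer (Equiv.Perm α) z).index = 2 * m := by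
    rw [MulAction.index_stabilizer_of_transitive, hNat]
  -- H
  have hH := coatom_transport z s hzs ⟨a, has⟩ ⟨y, hys, fun h => hzy h.symm⟩ ⟨m, by rw [hα]; ring⟩
  -- K
  have hnc : ¬ IsCoatom (MulAction.stabilizer (Equiv.Perm α) s) :=
    Cfsg.Agent.S5904.result (by rw [hα]; omega) s (by
      rw [Nat.card_coe_set_eq, Nat.card_coe_set_eq, hsn, hscn])
  have hne : MulAction.stabilizer (Equiv.Perm α) s ≠ ⊤ :=
    Equiv.Perm.stabilizer_ne_top_of_nonempty_of_nonempty_compl ⟨a, has⟩ ⟨z, hzs⟩
  have hex : ∃ L : Subgroup (Equiv.Perm α), MulAction.stabilizer (Equiv.Perm α) s < L ∧ L ≠ ⊤ := by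
    by_contra hcon
    apply hnc
    refine ⟨hne, fun b hb => ?_⟩
    by_contra hb'
    exact hcon ⟨b, hb, hb'⟩
  obtain ⟨L, hL, hLtop⟩ := hex
  obtain ⟨K, hK, hLK⟩ := (eq_top_or_exists_le_coatom L).resolve_left hLtop
  refine ⟨MulAction.stabilizer (Equiv.Perm α) z,
    MulAction.stabilizer (Equiv.Perm α) z ⊓ MulAction.stabilizer (Equiv.Perm α) s, K,
    hM, hidx, inf_le_left, hH, hK, le_trans inf_le_right (le_trans hL.le hLK), ?_⟩
  rw [isCoatom_subgroupOf_iff (le_trans inf_le_right (le_trans hL.le hLK))]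
  rintro ⟨-, h⟩
  have h1 := h (MulAction.stabilizer (Equiv.Perm α) s) inf_le_right (le_trans hL.le hLK) (by
    intro hle
    have hsw : Equiv.swap z y ∈ MulAction.stabilizer (Equiv.Perm α) s := by
      rw [← stabilizer_compl]
      exact Equiv.Perm.swap_mem_stabilizer hzs hys
    have h2 : Equiv.swap z y ∈ MulAction.stabilizer (Equiv.Perm α) z := (hle hsw).1
    rw [MulAction.mem_stabilizer_iff, Equiv.Perm.smul_def, Equiv.swap_apply_left] at h2
    exact hzy h2.symm)
  exact absurd (le_antisymm (le_trans hLK h1) hL.le) (ne_of_gt hL)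

end Cfsg.Agent.Lib.Helper9
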